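import Cfsg.Agent.TAB.HN.SeedB
import Cfsg.Agent.H845.HNMult
import Cfsg.Agent.H741.M23.RhoHN

/-!
# The table of `HN` : the seeds (helper96, TAB)

`Pre.chi` : the character of degree 133 with its values; `Pre.v`, `Pre.th` : the two seeds of the interface `In`.
-/

set_option autoImplicit false
set_option maxRecDepth 100000

namespace Cfsg.Agent.TAB.HN

open Cfsg Cfsg.Agent.TAB.Eng Cfsg.Agent.Characters
open Cfsg.Agent.H651.HNF (Ty tyH table)
open Cfsg.Agent.CpAutHN.Tr (tr tr_conj)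

variable {T : TD G dat}

theorem Pre.ab (h : Pre T) : Seed.Ab T tr :=
  ⟨h.mass, fun _ _ => tr_conj, h.tw, h.four, h.one, Seed.cyc_all⟩

theorem Pre.finite (h : Pre T) : Finite G :=
  Nat.finite_of_card_ne_zero (by rw [h.mass.1]; decide +kernel)

theorem Seed.ord_dvd : ∀ c : Ty, c ≠ .sing → c.ord ∣ 105336 ∧ Nat.Coprime 15625 c.ord ∧ KK % c.ord = 1 % c.ord ∧
    nth vRow (idx c 0) = 2 * c.b ∧ nth thRow (idx c 0) = c.th := by decide +kernel

theorem Seed.th_sing : ∀ u < 43, 5 ∣ dat.ord u → nth thRow u = 0 := by decide +kernel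

/-- the type of a 5-regular element -/
theorem Seed.tyF_reg {g : G} (hg : tyH g ≠ .sing) : tyF g = idx (tyH g) 0 := by
  obtain ⟨h1, h2, -⟩ := Seed.ord_dvd _ hg
  rw [← table.ord g hg] at h1 h2
  rw [tyF, table.real g hg _ h2, orderOf_dvd_iff_pow_eq_one.1 h1, kap, if_pos rfl]

/-- **the character of degree 133** -/
theorem Pre.chi (h : Pre T) : ∃ χ : G → ℂ, IsIrrCharacter G χ ∧ χ 1 = 133 ∧
    (∀ g, χ g + χ (g ^ KK) = (nth vRow (T.ty g) : ℂ)) ∧ (∀ g, tyH g ≠ .sing → χ g = ((tyH g).b : ℂ)) ∧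
    ∀ (s : Multiset G) (N : ℤ), (s.map χ).sum = (N : ℂ) → (s.map tr).sum = (N : ZMod 31) := by
  have := h.finite
  obtain ⟨ρ, hρ, red⟩ := H845.HNMult.exists_rep
  have hχ := Core.isIrrCharacter_of_rep ρ hρ
  have h1 : ρ.character 1 = 133 := by
    rw [Representation.char_one, Module.finrank_fin_fun]
    norm_num
  have hm := h.ab.main hχ h1 red
  refine ⟨ρ.character, hχ, h1, hm, fun g hg => ?_, red⟩
  obtain ⟨-, -, h2, h3, -⟩ := Seed.ord_dvd _ hg
  have h4 : g ^ KK = g ^ 1 := by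
    rw [pow_eq_pow_iff_modEq, table.ord g hg]
    exact h2
  have h5 := hm g
  rw [h4, pow_one, h.ty, Seed.tyF_reg hg, h3, ← two_mul] at h5
  push_cast at h5
  exact mul_left_cancel₀ two_ne_zero h5

/-- **the first seed** -/
theorem Pre.v (h : Pre T) : Virt T (nth vRow) := by
  have := h.finite
  obtain ⟨χ, hχ, -, h1, -⟩ := h.chi
  have h2 := Core.isIrr_isCharacter (h.ab.irr hχ 1)
  rw [pow_one] at h2
  refine ⟨_, 0, Core.isCharacter_add (Core.isIrr_isCharacter hχ) h2, Core.isCharacter_zero, ?_⟩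
  rw [sub_zero]
  funext g
  exact (h1 g).symm

/-- **the second seed** -/
theorem Pre.th (h : Pre T) : Virt T (nth thRow) := by
  have := h.finite
  obtain ⟨χ, hχ, -, -, h1, -⟩ := h.chi
  have h2 := H741.M23.Gen.gen_theta_iso (MulEquiv.refl _) table
    (β := χ) ⟨χ, 0, Core.isIrr_isCharacter hχ, Core.isCharacter_zero, (sub_zero χ).symm⟩ h1
  have h3 : (fun g => ((nth thRow (T.ty g) : ℤ) : ℂ)) = fun g => (((tyH g).th : ℤ) : ℂ) := by
    funext g
    congr 1
    by_cases hg : tyH g = .sing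
    · have h4 := (table.sing g).1 hg
      rw [T.ord] at h4
      rw [Seed.th_sing _ (T.lt g) h4, hg]
      rfl
    · rw [h.ty, Seed.tyF_reg hg]
      exact (Seed.ord_dvd _ hg).2.2.2.2
  unfold Virt
  rw [h3]
  exact h2

end Cfsg.Agent.TAB.HN
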