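import Cfsg.Agent.TAB.HN.Main
import Cfsg.Agent.TAB.Suz.Tool
import Cfsg.Agent.H793.G5.HNTheta
import Cfsg.Agent.H748.SK.HNPure

/-!
# The table of `HN` : the action of `Sig` on the characters of odd degree (helper54, TAB)
-/

set_option autoImplicit false
set_option maxRecDepth 100000

namespace Cfsg.Agent.TAB.HN

open Subgroup Cfsg Cfsg.Agent.TAB.Eng Cfsg.Agent.TAB.Use Cfsg.Agent.Characters Cfsg.Agent.ODD.Red
open Cfsg.Agent.CpAutHN.Tr (tr)
open Cfsg.Agent.HN (NormalH.ψ)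

namespace Sg

theorem twist_or {g g' : G} (hg : T.ty g ∈ [10, 38, 41]) (h : T.ty g = T.ty g') : IsConj g g' ∨ IsConj (g ^ KK) g' := by
  obtain ⟨i, hi⟩ := tw g g' h fun e => by rw [e] at hg; exact absurd hg (by decide)
  have h1 := TyA.conj_per (fix g (j := 2) ((by decide : ∀ t ∈ [10, 38, 41], TyA.jL.getD t 0 ∣ 2) _ hg)) (i / 2) (i % 2)
  rw [Nat.mod_add_div] at h1
  rcases Nat.mod_two_eq_zero_or_one i with e | e <;> rw [e] at h1
  · rw [pow_zero, pow_one] at h1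
    exact .inl (h1.symm.trans hi)
  · rw [pow_one] at h1
    exact .inr (h1.symm.trans hi)

theorem exists_aut : ∃ (β : MulAut G) (x : G), tr (β x) ≠ tr x := by
  have := H997.OutHN.simple'
  have := Tl.finG
  obtain ⟨θ, hx, hy, hz, ht⟩ := H997.OutHN.exists_end
  have h0 := H793.G5.Theta.tr_theta hx hy hz ht
  have hinj : Function.Injective θ := by
    rw [← MonoidHom.ker_eq_bot_iff]
    refine (IsSimpleGroup.eq_bot_or_eq_top_of_normal θ.ker inferInstance).resolve_right fun h => ?_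
    rw [show θ _ = 1 from (h.ge (mem_top _) :)] at h0
    exact absurd (Tl.tr_one.symm.trans h0) (by decide)
  exact ⟨MulEquiv.ofBijective θ (Finite.injective_iff_bijective.1 hinj), _, fun e =>
    absurd (h0.symm.trans (e.trans H793.G5.Theta.tr_n2)) (by decide)⟩

theorem deg133 : ∀ j < rows.n, rows.d j = 133 → j = 1 ∨ j = 2 := by decide +kernel

theorem rel133 : ([(1, 1), (2, 1)], vRow) ∈ rows.rel := by decide +kernel

theorem nth_v : ∀ t < 43, vRow.getD t 0 = nth vRow t := by decide +kernel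

theorem not_half {χ : G → ℂ} (hχ : IsIrrCharacter G χ) {g : G} {w : ℤ} (h : χ g + χ g = w) (hw : w % 2 ≠ 0) : False :=
  have := Tl.finG
  hw (even_of_integral (GaloisBasic.isIntegral_apply (Core.isIrr_isCharacter hχ) g) h)

theorem irr_conj {χ : G → ℂ} (hχ : IsIrrCharacter G χ) {a b : G} (h : IsConj a b) : χ a = χ b :=
  have := Tl.finG
  GaloisIrr.isConj_iff_forall_irr.1 h χ hχ

/-- an automorphism exchanges the classes `5C`, `5D` and the classes `25A`, `25B` -/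
theorem aut1 : ∃ β : MulAut G, ∀ g, T.ty g ∈ [10, 38] → IsConj (g ^ KK) (β g) := by
  have := Tl.finG
  obtain ⟨β, x, hx⟩ := exists_aut
  obtain ⟨χ, hχ, h1, h2, -, red⟩ := pre.chi
  obtain ⟨ψ, hE, hR⟩ := tab
  have key : ∀ φ : G → ℂ, IsIrrCharacter G φ → φ 1 = 133 → φ = ψ 1 ∨ φ = ψ 2 := fun φ hφ h => by
    obtain ⟨j, hj, rfl⟩ := hE.all φ hφ
    rw [hE.deg j hj] at h
    rcases deg133 j hj (by exact_mod_cast h) with rfl | rfl
    · exact .inl rfl
    · exact .inr rfl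
  have h3 : (fun g => χ (β g)) ≠ χ := fun e => by
    have a1 := red {x, x ^ KK} _ (by simpa using h2 x)
    have a2 := red {β x, x ^ KK} _ (by simpa [congrFun e x] using h2 x)
    simp only [Multiset.insert_eq_cons, Multiset.map_cons, Multiset.map_singleton, Multiset.sum_cons,
      Multiset.sum_singleton] at a1 a2
    exact hx (add_right_cancel (a2.trans a1.symm))
  have h4 : ∀ g, χ (β g) = χ (g ^ KK) := fun g => by
    have a1 := Sz.pair_sum hR rel133 (.inl rfl) g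
    rw [nth_v _ (T.lt g), ← h2] at a1
    rcases key χ hχ h1 with a2 | a2 <;>
      rcases key _ (VAN.isIrr_comp_equiv β hχ) (by rw [map_one, h1]) with a3 | a3
    · exact absurd (a3.trans a2.symm) h3
    · rw [← a3, ← a2] at a1
      exact add_left_cancel a1
    · rw [← a3, ← a2, add_comm] at a1
      exact add_left_cancel a1
    · exact absurd (a3.trans a2.symm) h3
  refine ⟨β, fun g hg => ?_⟩
  have hg' : T.ty g ∈ [10, 38, 41] := (by decide : ∀ t ∈ [10, 38], t ∈ [10, 38, 41]) _ hg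
  have h5 : nth vRow (T.ty (β g)) = nth vRow (T.ty g) := by
    have a1 := h2 (β g)
    rw [← map_pow, h4, h4, ← pow_mul, ← pow_two, irr_conj hχ (pre.two g
      ((by decide : ∀ t ∈ [10, 38], t ∈ [10, 22, 24, 38, 41]) _ hg)), add_comm, h2] at a1
    exact_mod_cast a1.symm
  have h6 : dat.ord (T.ty (β g)) = dat.ord (T.ty g) := by rw [← T.ord, ← T.ord, MulEquiv.orderOf_eq]
  have h7 := (by decide +kernel : ∀ t ∈ [10, 38], nth vRow t % 2 ≠ 0 ∧ ∀ u < 43, nth vRow u = nth vRow t →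
    dat.ord u = dat.ord t → t = u) _ hg
  refine (twist_or hg' (h7.2 _ (T.lt _) h5 h6)).resolve_left fun e => not_half hχ (g := g) ?_ h7.1
  rw [← h2, ← h4, ← irr_conj hχ e]

/-- an automorphism exchanges the classes `35A`, `35B` -/
theorem aut2 : ∃ (α : MulAut G) (g : G), T.ty g = 41 ∧ α g = g ^ KK := by
  obtain ⟨α, -, h1, h2, -⟩ := H748.SK.HNRow.exists_twist
  obtain ⟨f, hf, h7⟩ := H748.SK.HNRow.exists_seven
  have hc : Commute (NormalH.ψ f) HN.Pres.ht := H748.SK.HNRow.comm_U hf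
  have h3 : orderOf (NormalH.ψ f) = 7 := (orderOf_injective _ KFacts.HN.emb.inj f).trans h7
  have h5 := H748.SK.HNRow.orderOf_ht
  have h4 : f = (f ^ 4) ^ 2 := by
    rw [← pow_mul, show 4 * 2 = orderOf f + 1 by rw [h7], pow_succ, pow_orderOf_eq_one, one_mul]
  refine ⟨α, NormalH.ψ f * HN.Pres.ht, ?_, ?_⟩
  · refine (by decide +kernel : ∀ t < 43, dat.ord t = 35 → t = 41) _ (T.lt _) ?_
    rw [← T.ord, hc.orderOf_mul_eq_mul_orderOf_of_coprime (by rw [h3, h5]; decide), h3, h5]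
  · have h6 := Cnt.pow_KK hc (orderOf_dvd_iff_pow_eq_one.1 (h3 ▸ by decide)) (TyA.pw25 h5) 1
    rw [pow_one, pow_one] at h6
    rw [h6, map_mul, h2, h1 f (h4 ▸ HN.H0Basic.sq_mem_K _)]

theorem good {ψ : G → ℂ} (hψ : IsIrrCharacter G ψ) (ha : ∀ (α : MulAut G) (g : G), ψ (α g) = ψ g) {σ : ℂ ≃+* ℂ}
    (hσ : Sig σ) : ∀ t ∈ [10, 38, 41], ∃ g, T.ty g = t ∧ σ (ψ g) = ψ g := by
  have := Tl.finG
  have key : ∀ g, T.ty g ∈ [10, 38, 41] → ψ (g ^ KK) = ψ g → σ (ψ g) = ψ g := fun g hg h => by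
    obtain ⟨h1, h2⟩ := (by decide +kernel : ∀ t ∈ [10, 38, 41], dat.ord t % 2 = 1 ∧ t = dat.pwf t 2) _ hg
    have h3 := GaloisBasic.map_apply (σ : ℂ →+* ℂ) (fun z hz => hσ.2 _ z (Nat.odd_iff.2 (T.ord g ▸ h1)) hz)
      (Core.isIrr_isCharacter hψ) (orderOf_pos g).ne' (pow_orderOf_eq_one g)
    refine h3.trans ?_
    rcases twist_or hg (h2.trans (T.pow g 2).symm) with e | e
    · exact (irr_conj hψ e).symm
    · exact (irr_conj hψ e).symm.trans h
  intro t ht
  obtain ⟨β, hβ⟩ := aut1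
  by_cases h41 : t = 41
  · obtain ⟨α, g, h1, h2⟩ := aut2
    exact ⟨g, h1.trans h41.symm, key g (by rw [h1]; decide) (by rw [← h2, ha])⟩
  · obtain ⟨h1, h2⟩ := (by decide : ∀ t ∈ [10, 38, 41], t ≠ 41 → t < 43 ∧ t ∈ [10, 38]) t ht h41
    obtain ⟨g, rfl⟩ := inh t h1
    exact ⟨g, rfl, key g ht ((irr_conj hψ (hβ g h2)).trans (ha β g))⟩

theorem chk_sig : ∀ j < rows.n, rows.d j % 2 = 1 → fixB rows [] j = true ∨
    (rows.rel.any fun r => pairB rows [10, 38, 41] j r) = true := by decide +kernel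

end Sg

open Sg

theorem moved : OddMoved Spor.HN := by
  have := Tl.finG
  obtain ⟨χ, hχ, h1, h2, -⟩ := pre.chi
  obtain ⟨ψ, hE, -⟩ := tab
  obtain ⟨j, hj, rfl⟩ := hE.all χ hχ
  refine ⟨_, hχ, ?_, fun σ hσ h => ?_⟩
  · rw [hE.deg j hj] at h1
    rw [hE.charDegree_eq hj, show rows.d j = 133 by exact_mod_cast h1]
    decide
  · obtain ⟨g, hg⟩ := inh 10 (by decide)
    have h3 : orderOf g = 5 := by rw [T.ord, hg]; rfl
    have h4 := GaloisBasic.map_apply (σ : ℂ →+* ℂ) (fun z hz => hσ.2 5 z (by decide) hz)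
      (Core.isIrr_isCharacter hχ) (by decide) (h3 ▸ pow_orderOf_eq_one g)
    have h5 := h2 g
    rw [show g ^ KK = g ^ 2 by rw [pow_eq_pow_iff_modEq, h3]; decide, ← h4, hg] at h5
    exact not_half hχ (g := g) ((congrArg (ψ j g + ·) (h g).symm).trans h5) (by decide +kernel)

theorem sigAut : OddSigAut Spor.HN := by
  have := Tl.finG
  obtain ⟨χ, hE, hR⟩ := tab
  intro ψ hψ ho ha σ hσ
  obtain ⟨j, hj, rfl⟩ := hE.all ψ hψ
  rw [hE.charDegree_eq hj, Nat.odd_iff] at ho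
  rcases chk_sig j hj ho with h | h
  · exact fix_of_chk hE hR (fun _ ht => absurd ht List.not_mem_nil) hj h
  obtain ⟨r, hr, h⟩ := List.any_eq_true.1 h
  simp only [pairB, Bool.and_eq_true, List.any_eq_true, decide_eq_true_eq, bne_iff_ne, ne_eq, Bool.or_eq_true,
    beq_iff_eq] at h
  obtain ⟨⟨q, -, ⟨h3, h4⟩, h5⟩, t, ht, h6⟩ := h
  refine (Sz.pair_map hE hR hr hj h3 h4 h5 σ).resolve_right fun h7 => ?_
  obtain ⟨g, rfl, hg⟩ := good hψ ha hσ t ht
  have h8 := Sz.pair_sum hR hr h5 g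
  rw [← h7, hg] at h8
  exact not_half hψ h8 h6

/-- **the row of `HN` for GAL** -/
theorem sig : OddMoved Spor.HN ∧ OddSigAut Spor.HN := ⟨moved, sigAut⟩

end Cfsg.Agent.TAB.HN
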