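import Cfsg.Agent.TAB.HN.CertB
import Cfsg.Agent.TAB.Co.Clu
import Cfsg.Agent.TAB.Use.Main

/-!
# The table of `HN` from the interface (helper29, TAB)
-/

set_option autoImplicit false
set_option maxRecDepth 100000

namespace Cfsg.Agent.TAB.HN

open Cfsg Cfsg.Agent.TAB.Eng Cfsg.Agent.TAB.Use Cfsg.Agent.TAB.Sm1

/-- the degrees -/
def degL : List ℕ :=
  [1, 133, 133, 760, 3344, 8778, 8778, 8910, 9405, 16929, 35112, 35112, 65835, 65835, 69255, 69255, 214016, 267520, 270864, 365750, 374528, 374528,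
    406296, 653125, 656250, 656250, 718200, 718200, 1053360, 1066527, 1066527, 1185030, 1354320, 1361920, 1361920, 1361920, 1575936, 1625184, 2031480,
    2375000, 2407680, 2661120, 2784375, 2985984, 3200000, 3424256, 3878280, 4156250, 4561920, 4809375, 5103000, 5103000, 5332635, 5878125]

/-- the constituents of the rows -/
def cons : List (List (ℕ × ℤ)) :=
  [[(0, 1)], [(1, 1), (2, 1)], [(3, 1)], [(4, 1)], [(5, 1), (6, 1)], [(7, 1)], [(8, 1)], [(9, 1)], [(10, 1), (11, 1)], [(12, 1), (13, 1)], [(14, 1),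
    (15, 1)], [(16, 1)], [(17, 1)], [(18, 1)], [(19, 1)], [(20, 1), (21, 1)], [(22, 1)], [(23, 1)], [(24, 1), (25, 1)], [(26, 1), (27, 1)], [(28, 1)],
    [(29, 1), (30, 1)], [(31, 1)], [(32, 1)], [(33, 1)], [(34, 1), (35, 1)], [(36, 1)], [(37, 1)], [(38, 1)], [(39, 1)], [(40, 1)], [(41, 1)],
    [(42, 1)], [(43, 1)], [(44, 1)], [(45, 1)], [(46, 1)], [(47, 1)], [(48, 1)], [(49, 1)], [(50, 1), (51, 1)], [(52, 1)], [(53, 1)]]

/-- the table -/
def rows : Rows := ⟨degL, cons.zip rr⟩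

/-- five orthonormal rows -/
def clu : List (ℤ × ℕ) := [(1, 5), (1, 6), (1, 14), (1, 22), (1, 37)]

/-- the rows from the lattice and one more row -/
def c2 : List (List (ℤ × ℕ)) :=
  [[(1, 0)], [(1, 1)], [(1, 2)], [(1, 3)], [(1, 4)], [(1, 43)], [(1, 6), (1, 43)], [(1, 7)], [(1, 8)], [(1, 9)], [(1, 10)], [(1, 11)], [(1, 12)],
    [(1, 13)], [(1, 14), (1, 43)], [(1, 15)], [(1, 16)], [(1, 17)], [(1, 18)], [(1, 19)], [(1, 20)], [(1, 21)], [(1, 22), (1, 43)], [(1, 23)],
    [(1, 24)], [(1, 25)], [(1, 26)], [(1, 27)], [(1, 28)], [(1, 29)], [(1, 30)], [(1, 31)], [(1, 32)], [(1, 33)], [(1, 34)], [(1, 35)], [(1, 36)],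
    [(1, 37), (1, 43)], [(1, 38)], [(1, 39), (1, 43)], [(1, 40)], [(1, 41), (1, 43)], [(1, 42), (1, 43)]]

theorem ok_clu : chkLin dat (tc.map (comb rr)) ((sqT 2 5 clu).map (comb rr))
    [[(1, 5)], [], [(1, 6)], [(1, 14)], [(1, 22)], [(1, 37)]] = true := by decide +kernel

theorem ok_on : okON dat rr (clu.map Prod.snd) = true := by decide +kernel

theorem ok_c2 : chkLin dat (tc.map (comb rr) ++ [ntd rr [] 5]) rr c2 = true := by decide +kernel

theorem ok_rows : okR dat rows = true := by decide +kernel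

theorem cnt_pos : ∀ i < dat.n, 0 < dat.cnt i := by decide +kernel

theorem chk_fix' : ((List.range rows.n).all fun j => rows.d j % 2 == 0 || fixB rows [10, 38, 41] j) = true := by
  decide +kernel

theorem chk_fix : ∀ j < rows.n, rows.d j % 2 = 0 ∨ fixB rows [10, 38, 41] j = true := fun j hj => by
  simpa only [Bool.or_eq_true, beq_iff_eq] using List.all_eq_true.1 chk_fix' j (List.mem_range.2 hj)

variable [Finite Spor.HN] {T : TD Spor.HN dat}

theorem In.virt (h : In T) : ∀ v ∈ rr, Virt T (nth v) := by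
  have h0 : ∀ v ∈ seeds, Virt T (nth v) :=
    List.forall_mem_cons.2 ⟨(Virt.const 1).congr (by decide +kernel),
      List.forall_mem_cons.2 ⟨h.v, List.forall_mem_singleton.2 h.th⟩⟩
  have h1 := virt_chkLin (virt_chkSlp (Hyp.true h.mass h.rat cnt_pos) slp h0 ok_slp) ok_lin
  have h2 : Virt T (nth (ntd rr [] 5)) :=
    Co.virt_of_clu h.mass rfl (l := 2) (c := clu) (by decide) (by decide) (by decide) ok_on fun x hx =>
      virt_chkLin h1 ok_clu _ (List.mem_map_of_mem hx)
  exact virt_chkLin (List.forall_mem_append.2 ⟨h1, List.forall_mem_singleton.2 h2⟩) ok_c2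

theorem In.tab (h : In T) : Tab T rows :=
  tab_of_cls h.mass (fun _ hr => h.virt _ (List.of_mem_zip hr).2) ok_rows h.cls

omit [Finite Spor.HN] in
theorem In.inh (h : In T) : Inh T := inh_of_mass h.mass cnt_pos

theorem In.van (h : In T) : VAN.Van3 Spor.HN :=
  h.tab.van3 h.inh h.mass.1 [(2, 14), (3, 6), (5, 6), (7, 1), (11, 1), (19, 1)] (by decide +kernel) 32 25 31
    (by decide +kernel)

theorem In.odd (h : In T) : OddRat Spor.HN := h.tab.oddRat h.inh [10, 38, 41] (by decide +kernel) chk_fix'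

theorem In.deg (h : In T) : DegList Spor.HN degL := h.tab.degList

end Cfsg.Agent.TAB.HN
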