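import Cfsg.Agent.TAB.HN.Dat

/-!
# The table of `HN` : the straight line certificate (helper29, TAB)
-/

set_option autoImplicit false
set_option maxRecDepth 100000

namespace Cfsg.Agent.TAB.HN

open Cfsg Cfsg.Agent.TAB.Eng Cfsg.Agent.TAB.Use Cfsg.Agent.TAB.Sm1

/-- decoding of integers -/
def dz (n : ℕ) : ℤ := if n % 2 = 0 then ((n / 2 : ℕ) : ℤ) else -((n / 2 : ℕ) : ℤ)

/-- data -/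
def sv0 : List ℕ :=
  [546061824000000, 0, 0, 0, 0, 0, 0, 0, 0, 0, 0, 0, 0, 0, 0, 0, 0, 0, 0, 0, 0, 0, 0, 0, 0, 0, 0, 0, 0, 0, 0, 0, 0, 0, 0, 0, 0, 0, 0, 0, 0, 0, 0]

/-- data -/
def sv1 : List ℕ :=
  [273030912000000, 177408000, 0, 0, 0, 0, 0, 0, 0, 0, 0, 0, 0, 0, 0, 0, 0, 0, 0, 0, 0, 0, 0, 0, 0, 0, 0, 0, 0, 0, 0, 0, 0, 0, 0, 0, 0, 0, 0, 0, 0, 0,
    0]

/-- data -/
def sv2 : List ℕ :=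
  [273030912000000, 0, 3686400, 0, 0, 0, 0, 0, 0, 0, 0, 0, 0, 0, 0, 0, 0, 0, 0, 0, 0, 0, 0, 0, 0, 0, 0, 0, 0, 0, 0, 0, 0, 0, 0, 0, 0, 0, 0, 0, 0, 0,
    0]

/-- data -/
def sv3 : List ℕ :=
  [182020608000000, 0, 0, 725760, 0, 0, 0, 0, 0, 0, 0, 0, 0, 0, 0, 0, 0, 0, 0, 0, 0, 0, 0, 0, 0, 0, 0, 0, 0, 0, 0, 0, 0, 0, 0, 0, 0, 0, 0, 0, 0, 0, 0]

/-- data -/
def sv4 : List ℕ :=
  [182020608000000, 0, 0, 0, 38880, 0, 0, 0, 0, 0, 0, 0, 0, 0, 0, 0, 0, 0, 0, 0, 0, 0, 0, 0, 0, 0, 0, 0, 0, 0, 0, 0, 0, 0, 0, 0, 0, 0, 0, 0, 0, 0, 0]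

/-- data -/
def sv5 : List ℕ :=
  [136515456000000, 0, 1843200, 0, 0, 15360, 0, 0, 0, 0, 0, 0, 0, 0, 0, 0, 0, 0, 0, 0, 0, 0, 0, 0, 0, 0, 0, 0, 0, 0, 0, 0, 0, 0, 0, 0, 0, 0, 0, 0, 0,
    0, 0]

/-- data -/
def sv6 : List ℕ :=
  [136515456000000, 88704000, 0, 0, 0, 0, 5760, 0, 0, 0, 0, 0, 0, 0, 0, 0, 0, 0, 0, 0, 0, 0, 0, 0, 0, 0, 0, 0, 0, 0, 0, 0, 0, 0, 0, 0, 0, 0, 0, 0, 0,
    0, 0]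

/-- data -/
def sv7 : List ℕ :=
  [136515456000000, 0, 1843200, 0, 0, 0, 0, 3840, 0, 0, 0, 0, 0, 0, 0, 0, 0, 0, 0, 0, 0, 0, 0, 0, 0, 0, 0, 0, 0, 0, 0, 0, 0, 0, 0, 0, 0, 0, 0, 0, 0,
    0, 0]

/-- data -/
def sv8 : List ℕ :=
  [109212364800000, 0, 0, 0, 0, 0, 0, 0, 1008000, 0, 0, 0, 0, 0, 0, 0, 0, 0, 0, 0, 0, 0, 0, 0, 0, 0, 0, 0, 0, 0, 0, 0, 0, 0, 0, 0, 0, 0, 0, 0, 0, 0,
    0]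

/-- data -/
def sv9 : List ℕ :=
  [109212364800000, 0, 0, 0, 0, 0, 0, 0, 0, 800000, 0, 0, 0, 0, 0, 0, 0, 0, 0, 0, 0, 0, 0, 0, 0, 0, 0, 0, 0, 0, 0, 0, 0, 0, 0, 0, 0, 0, 0, 0, 0, 0, 0]

/-- data -/
def sv10 : List ℕ :=
  [109212364800000, 0, 0, 0, 0, 0, 0, 0, 0, 0, 12000, 0, 0, 0, 0, 0, 0, 0, 0, 0, 0, 0, 0, 0, 0, 0, 0, 0, 0, 0, 0, 0, 0, 0, 0, 0, 0, 0, 0, 0, 0, 0, 0]

/-- data -/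
def sv11 : List ℕ :=
  [109212364800000, 0, 0, 0, 0, 0, 0, 0, 0, 0, 0, 4000, 0, 0, 0, 0, 0, 0, 0, 0, 0, 0, 0, 0, 0, 0, 0, 0, 0, 0, 0, 0, 0, 0, 0, 0, 0, 0, 0, 0, 0, 0, 0]

/-- data -/
def sv12 : List ℕ :=
  [91010304000000, 59136000, 0, 362880, 0, 0, 0, 0, 0, 0, 0, 0, 960, 0, 0, 0, 0, 0, 0, 0, 0, 0, 0, 0, 0, 0, 0, 0, 0, 0, 0, 0, 0, 0, 0, 0, 0, 0, 0, 0,
    0, 0, 0]

/-- data -/
def sv13 : List ℕ :=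
  [91010304000000, 0, 1228800, 362880, 0, 0, 0, 0, 0, 0, 0, 0, 0, 384, 0, 0, 0, 0, 0, 0, 0, 0, 0, 0, 0, 0, 0, 0, 0, 0, 0, 0, 0, 0, 0, 0, 0, 0, 0, 0,
    0, 0, 0]

/-- data -/
def sv14 : List ℕ :=
  [91010304000000, 0, 1228800, 0, 19440, 0, 0, 0, 0, 0, 0, 0, 0, 0, 240, 0, 0, 0, 0, 0, 0, 0, 0, 0, 0, 0, 0, 0, 0, 0, 0, 0, 0, 0, 0, 0, 0, 0, 0, 0, 0,
    0, 0]

/-- data -/
def sv15 : List ℕ :=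
  [78008832000000, 0, 0, 0, 0, 0, 0, 0, 0, 0, 0, 0, 0, 0, 0, 720, 0, 0, 0, 0, 0, 0, 0, 0, 0, 0, 0, 0, 0, 0, 0, 0, 0, 0, 0, 0, 0, 0, 0, 0, 0, 0, 0]

/-- data -/
def sv16 : List ℕ :=
  [68257728000000, 44352000, 0, 0, 0, 0, 2880, 0, 0, 0, 0, 0, 0, 0, 0, 0, 80, 0, 0, 0, 0, 0, 0, 0, 0, 0, 0, 0, 0, 0, 0, 0, 0, 0, 0, 0, 0, 0, 0, 0, 0,
    0, 0]

/-- data -/
def sv17 : List ℕ :=
  [68257728000000, 0, 921600, 0, 0, 7680, 0, 0, 0, 0, 0, 0, 0, 0, 0, 0, 0, 64, 0, 0, 0, 0, 0, 0, 0, 0, 0, 0, 0, 0, 0, 0, 0, 0, 0, 0, 0, 0, 0, 0, 0, 0,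
    0]

/-- data -/
def sv18 : List ℕ :=
  [60673536000000, 0, 0, 0, 12960, 0, 0, 0, 0, 0, 0, 0, 0, 0, 0, 0, 0, 0, 36, 0, 0, 0, 0, 0, 0, 0, 0, 0, 0, 0, 0, 0, 0, 0, 0, 0, 0, 0, 0, 0, 0, 0, 0]

/-- data -/
def sv19 : List ℕ :=
  [54606182400000, 35481600, 0, 0, 0, 0, 0, 0, 0, 400000, 0, 0, 0, 0, 0, 0, 0, 0, 0, 1600, 0, 0, 0, 0, 0, 0, 0, 0, 0, 0, 0, 0, 0, 0, 0, 0, 0, 0, 0, 0,
    0, 0, 0]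

/-- data -/
def sv20 : List ℕ :=
  [54606182400000, 35481600, 0, 0, 0, 0, 0, 0, 504000, 0, 0, 0, 0, 0, 0, 0, 0, 0, 0, 0, 960, 0, 0, 0, 0, 0, 0, 0, 0, 0, 0, 0, 0, 0, 0, 0, 0, 0, 0, 0,
    0, 0, 0]

/-- data -/
def sv21 : List ℕ :=
  [54606182400000, 0, 737280, 0, 0, 0, 0, 0, 0, 400000, 0, 0, 0, 0, 0, 0, 0, 0, 0, 0, 0, 640, 0, 0, 0, 0, 0, 0, 0, 0, 0, 0, 0, 0, 0, 0, 0, 0, 0, 0, 0,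
    0, 0]

/-- data -/
def sv22 : List ℕ :=
  [54606182400000, 0, 737280, 0, 0, 0, 0, 0, 0, 0, 6000, 0, 0, 0, 0, 0, 0, 0, 0, 0, 0, 0, 240, 0, 0, 0, 0, 0, 0, 0, 0, 0, 0, 0, 0, 0, 0, 0, 0, 0, 0,
    0, 0]

/-- data -/
def sv23 : List ℕ :=
  [54606182400000, 35481600, 0, 0, 0, 0, 0, 0, 0, 0, 0, 2000, 0, 0, 0, 0, 0, 0, 0, 0, 0, 0, 0, 80, 0, 0, 0, 0, 0, 0, 0, 0, 0, 0, 0, 0, 0, 0, 0, 0, 0,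
    0, 0]

/-- data -/
def sv24 : List ℕ :=
  [54606182400000, 0, 737280, 0, 0, 0, 0, 0, 0, 0, 0, 2000, 0, 0, 0, 0, 0, 0, 0, 0, 0, 0, 0, 0, 40, 0, 0, 0, 0, 0, 0, 0, 0, 0, 0, 0, 0, 0, 0, 0, 0, 0,
    0]

/-- data -/
def sv25 : List ℕ :=
  [49641984000000, 0, 0, 0, 0, 0, 0, 0, 0, 0, 0, 0, 0, 0, 0, 0, 0, 0, 0, 0, 0, 0, 0, 0, 0, 40, 0, 0, 0, 0, 0, 0, 0, 0, 0, 0, 0, 0, 0, 0, 0, 0, 0]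

/-- data -/
def sv26 : List ℕ :=
  [45505152000000, 29568000, 0, 181440, 0, 0, 1920, 0, 0, 0, 0, 0, 480, 0, 0, 0, 0, 0, 0, 0, 0, 0, 0, 0, 0, 0, 48, 0, 0, 0, 0, 0, 0, 0, 0, 0, 0, 0, 0,
    0, 0, 0, 0]

/-- data -/
def sv27 : List ℕ :=
  [45505152000000, 0, 614400, 181440, 0, 5120, 0, 0, 0, 0, 0, 0, 0, 192, 0, 0, 0, 0, 0, 0, 0, 0, 0, 0, 0, 0, 0, 32, 0, 0, 0, 0, 0, 0, 0, 0, 0, 0, 0,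
    0, 0, 0, 0]

/-- data -/
def sv28 : List ℕ :=
  [45505152000000, 0, 614400, 0, 9720, 0, 0, 1280, 0, 0, 0, 0, 0, 0, 120, 0, 0, 0, 0, 0, 0, 0, 0, 0, 0, 0, 0, 0, 8, 0, 0, 0, 0, 0, 0, 0, 0, 0, 0, 0,
    0, 0, 0]

/-- data -/
def sv29 : List ℕ :=
  [39004416000000, 25344000, 0, 0, 0, 0, 0, 0, 0, 0, 0, 0, 0, 0, 0, 360, 0, 0, 0, 0, 0, 0, 0, 0, 0, 0, 0, 0, 0, 24, 0, 0, 0, 0, 0, 0, 0, 0, 0, 0, 0,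
    0, 0]

/-- data -/
def sv30 : List ℕ :=
  [36404121600000, 0, 0, 145152, 0, 0, 0, 0, 336000, 0, 0, 0, 0, 0, 0, 0, 0, 0, 0, 0, 0, 0, 0, 0, 0, 0, 0, 0, 0, 0, 192, 0, 0, 0, 0, 0, 0, 0, 0, 0, 0,
    0, 0]

/-- data -/
def sv31 : List ℕ :=
  [36404121600000, 0, 0, 0, 7776, 0, 0, 0, 0, 0, 4000, 0, 0, 0, 0, 0, 0, 0, 0, 0, 0, 0, 0, 0, 0, 0, 0, 0, 0, 0, 0, 16, 0, 0, 0, 0, 0, 0, 0, 0, 0, 0,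
    0]

/-- data -/
def sv32 : List ℕ :=
  [28740096000000, 0, 0, 0, 0, 0, 0, 0, 0, 0, 0, 0, 0, 0, 0, 0, 0, 0, 0, 0, 0, 0, 0, 0, 0, 0, 0, 0, 0, 0, 0, 0, 18, 0, 0, 0, 0, 0, 0, 0, 0, 0, 0]

/-- data -/
def sv33 : List ℕ :=
  [27303091200000, 0, 368640, 0, 0, 3072, 0, 0, 0, 200000, 0, 0, 0, 0, 0, 0, 0, 0, 0, 0, 0, 320, 0, 0, 0, 0, 0, 0, 0, 0, 0, 0, 0, 32, 0, 0, 0, 0, 0,
    0, 0, 0, 0]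

/-- data -/
def sv34 : List ℕ :=
  [27303091200000, 17740800, 0, 0, 0, 0, 1152, 0, 252000, 0, 0, 0, 0, 0, 0, 0, 0, 0, 0, 0, 480, 0, 0, 0, 0, 0, 0, 0, 0, 0, 0, 0, 0, 0, 32, 0, 0, 0, 0,
    0, 0, 0, 0]

/-- data -/
def sv35 : List ℕ :=
  [27303091200000, 0, 368640, 0, 0, 0, 0, 768, 0, 0, 3000, 0, 0, 0, 0, 0, 0, 0, 0, 0, 0, 0, 120, 0, 0, 0, 0, 0, 0, 0, 0, 0, 0, 0, 0, 8, 0, 0, 0, 0, 0,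
    0, 0]

/-- data -/
def sv36 : List ℕ :=
  [26002944000000, 0, 0, 103680, 0, 0, 0, 0, 0, 0, 0, 0, 0, 0, 0, 240, 0, 0, 0, 0, 0, 0, 0, 0, 0, 0, 0, 0, 0, 0, 0, 0, 0, 0, 0, 0, 24, 0, 0, 0, 0, 0,
    0]

/-- data -/
def sv37 : List ℕ :=
  [24820992000000, 16128000, 0, 0, 0, 0, 0, 0, 0, 0, 0, 0, 0, 0, 0, 0, 0, 0, 0, 0, 0, 0, 0, 0, 0, 20, 0, 0, 0, 0, 0, 0, 0, 0, 0, 0, 0, 20, 0, 0, 0, 0,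
    0]

/-- data -/
def sv38 : List ℕ :=
  [21842472960000, 0, 0, 0, 0, 0, 0, 0, 0, 160000, 0, 0, 0, 0, 0, 0, 0, 0, 0, 0, 0, 0, 0, 0, 0, 0, 0, 0, 0, 0, 0, 0, 0, 0, 0, 0, 0, 0, 20, 0, 0, 0, 0]

/-- data -/
def sv39 : List ℕ :=
  [18202060800000, 11827200, 0, 72576, 0, 0, 0, 0, 168000, 0, 0, 0, 192, 0, 0, 0, 0, 0, 0, 0, 320, 0, 0, 0, 0, 0, 0, 0, 0, 0, 96, 0, 0, 0, 0, 0, 0, 0,
    0, 32, 0, 0, 0]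

/-- data -/
def sv40 : List ℕ :=
  [18202060800000, 0, 245760, 0, 3888, 0, 0, 0, 0, 0, 2000, 0, 0, 0, 48, 0, 0, 0, 0, 0, 0, 0, 80, 0, 0, 0, 0, 0, 0, 0, 0, 8, 0, 0, 0, 0, 0, 0, 0, 0,
    8, 0, 0]

/-- data -/
def sv41 : List ℕ :=
  [15601766400000, 0, 0, 0, 0, 0, 0, 0, 144000, 0, 0, 0, 0, 0, 0, 144, 0, 0, 0, 0, 0, 0, 0, 0, 0, 0, 0, 0, 0, 0, 0, 0, 0, 0, 0, 0, 0, 0, 0, 0, 0, 24,
    0]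

/-- data -/
def sv42 : List ℕ :=
  [13651545600000, 8870400, 0, 0, 0, 0, 576, 0, 126000, 0, 0, 0, 0, 0, 0, 0, 16, 0, 0, 0, 240, 0, 0, 0, 0, 0, 0, 0, 0, 0, 0, 0, 0, 0, 16, 0, 0, 0, 0,
    0, 0, 0, 16]

/-- data -/
def sv43 : List ℕ :=
  [70491, 1499, 166, 183, 21, 91, 38, 27, 211, 241, 0, 31, 23, 10, 21, 0, 3, 6, 3, 49, 19, 16, 25, 2, 6, 3, 2, 7, 4, 0, 13, 0, 0, 0, 3, 4, 0, 3, 0,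
    13, 0, 0, 3]

/-- data -/
def sv44 : List ℕ :=
  [1242245271, 596247, 42135, 8373, 111, 1943, 1111, 87, 11131, 14521, 0, 241, 213, 117, 111, 0, 18, 55, 3, 697, 187, 185, 145, 17, 25, 3, 13, 5, 15,
    0, 43, 0, 0, 8, 11, 17, 0, 3, 0, 43, 0, 0, 3]

/-- data -/
def sv45 : List ℕ :=
  [70491, 70491, 70491, 70491, 70491, 166, 1499, 166, 211, 241, 0, 31, 70491, 70491, 70491, 0, 38, 91, 21, 241, 211, 241, 0, 31, 31, 3, 1499, 166,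
    166, 0, 211, 0, 0, 16, 19, 25, 0, 3, 0, 211, 0, 0, 3]

/-- data -/
def sv46 : List ℕ :=
  [1242245271, 596247, 42135, 8373, 111, 1943, 1111, 87, 1242245271, 1242245271, 1242245271, 1242245271, 213, 117, 111, 0, 18, 55, 3, 596247, 596247,
    42135, 42135, 596247, 42135, 3, 13, 5, 15, 0, 8373, 111, 0, 1943, 1111, 87, 0, 3, 14521, 213, 111, 0, 18]

/-- data -/
def sv47 : List ℕ :=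
  [39750719861250, 10181250, 706050, 0, 2160, 1410, 450, 1410, 0, 80000, 0, 0, 0, 0, 0, 90, 10, 2, 0, 0, 0, 0, 0, 0, 0, 2, 0, 0, 0, 2, 0, 0, 2, 0, 0,
    0, 0, 2, 0, 0, 0, 0, 0]

/-- data -/
def sv48 : List ℕ :=
  [15630696906752, 0, 0, 40448, 5024, 0, 0, 0, 95552, 26752, 1552, 152, 0, 0, 0, 32, 0, 0, 2, 0, 0, 0, 0, 0, 0, 4, 0, 0, 0, 0, 8, 4, 2, 0, 0, 0, 2, 0,
    2, 0, 0, 2, 0]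

/-- data -/
def sv49 : List ℕ :=
  [9989193760, 1170400, 46561, 952, 1641, 1440, 145, 0, 9661, 2241, 601, 320, 40, 73, 120, 0, 0, 0, 3, 0, 61, 0, 120, 0, 0, 5, 0, 0, 0, 0, 49, 0, 0,
    0, 5, 0, 0, 0, 0, 0, 0, 0, 0]

/-- data -/
def sv50 : List ℕ :=
  [20802506406752, 61600, 2400, 54488, 164, 480, 144, 0, 73052, 1752, 52, 152, 40, 24, 60, 0, 0, 0, 2, 0, 60, 40, 60, 0, 0, 4, 0, 0, 0, 0, 8, 4, 2, 0,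
    4, 0, 0, 0, 2, 0, 0, 0, 0]

/-- data -/
def sv51 : List ℕ :=
  [532, 84, 20, 532, 532, 20, 4, 13, 29, 32, 2, 12, 84, 20, 20, 0, 5, 4, 9, 17, 4, 0, 10, 4, 0, 4, 4, 20, 13, 0, 29, 2, 0, 0, 4, 3, 0, 5, 2, 4, 10, 0,
    5]

/-- data -/
def sv52 : List ℕ :=
  [1507840000000, 0, 0, 64641, 160, 0, 0, 0, 0, 0, 0, 0, 0, 0, 0, 40, 0, 0, 3, 0, 0, 0, 0, 0, 0, 4, 0, 0, 0, 0, 0, 0, 0, 0, 0, 0, 3, 0, 0, 0, 0, 0, 0]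

/-- data -/
def sv53 : List ℕ :=
  [532, 532, 532, 28, 9, 20, 84, 20, 29, 32, 2, 12, 28, 28, 9, 0, 4, 20, 4, 32, 29, 32, 2, 12, 12, 4, 12, 5, 8, 0, 8, 2, 0, 0, 4, 10, 0, 4, 2, 8, 2,
    0, 4]

/-- data -/
def sv54 : List ℕ :=
  [85804000000, 0, 19200, 19281, 160, 0, 0, 0, 0, 0, 0, 0, 0, 49, 0, 40, 0, 0, 3, 0, 0, 0, 0, 0, 0, 4, 0, 0, 0, 0, 0, 0, 0, 0, 0, 0, 3, 0, 0, 0, 0, 0,
    0]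

/-- data -/
def sv55 : List ℕ :=
  [532, 84, 20, 28, 9, 20, 4, 13, 532, 532, 532, 532, 12, 5, 8, 0, 5, 4, 4, 84, 84, 20, 20, 84, 20, 4, 4, 5, 0, 0, 28, 9, 0, 20, 4, 13, 0, 5, 32, 12,
    8, 0, 5]

/-- data -/
def sv56 : List ℕ :=
  [1300147200002, 12672002, 2, 51842, 2, 2, 2, 2, 72002, 2, 2, 2, 2, 2, 2, 0, 2, 2, 2, 2, 2, 2, 2, 2, 2, 2, 2, 2, 2, 0, 2, 2, 2, 2, 2, 2, 0, 2, 2, 2,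
    2, 0, 2]

/-- data -/
def sv57 : List ℕ :=
  [18917003250001, 2466001, 75601, 0, 0, 1201, 0, 0, 0, 0, 0, 0, 0, 0, 0, 31, 0, 0, 0, 0, 0, 0, 0, 0, 0, 2, 0, 0, 0, 2, 0, 0, 0, 0, 0, 0, 0, 2, 0, 0,
    0, 0, 0]

/-- data -/
def sv58 : List ℕ :=
  [38419211250001, 10206000, 75601, 0, 0, 1201, 0, 0, 0, 0, 0, 0, 0, 0, 0, 0, 0, 0, 0, 0, 0, 0, 0, 0, 0, 2, 0, 0, 0, 0, 0, 0, 0, 0, 0, 0, 0, 2, 0, 0,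
    0, 0, 0]

/-- data -/
def sv59 : List ℕ :=
  [103184642506752, 0, 0, 0, 0, 0, 0, 0, 123552, 26752, 3552, 152, 0, 0, 0, 72, 0, 0, 0, 0, 0, 0, 0, 0, 0, 4, 0, 0, 0, 0, 0, 0, 2, 0, 0, 0, 0, 0, 2,
    0, 0, 2, 0]

/-- data -/
def sv60 : List ℕ :=
  [171622273500000, 13860000, 1692000, 0, 0, 480, 720, 0, 0, 0, 0, 0, 0, 0, 0, 120, 0, 0, 0, 0, 0, 0, 0, 0, 0, 4, 0, 0, 0, 0, 0, 0, 2, 0, 0, 0, 0, 0,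
    0, 0, 0, 0, 0]

/-- data -/
def sv61 : List ℕ :=
  [66721179893760, 0, 0, 0, 2161, 0, 0, 0, 272161, 2241, 2400, 320, 0, 0, 0, 0, 0, 0, 0, 0, 0, 0, 0, 0, 0, 5, 0, 0, 0, 0, 0, 0, 0, 0, 0, 0, 0, 0, 0,
    0, 0, 0, 0]

/-- data -/
def sv62 : List ℕ :=
  [19729600002, 246402, 33282, 0, 2160, 642, 162, 642, 7002, 2, 1002, 2, 0, 0, 0, 42, 2, 2, 0, 2, 42, 2, 42, 2, 2, 2, 0, 0, 0, 2, 0, 0, 2, 2, 2, 2, 0,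
    2, 2, 0, 0, 2, 2]

/-- data -/
def sv63 : List ℕ :=
  [60860799469, 1478484, 56340, 0, 4320, 1261, 324, 13, 27972, 32, 1002, 12, 0, 0, 0, 0, 5, 4, 0, 17, 157, 0, 31, 4, 0, 4, 0, 0, 0, 0, 0, 0, 0, 0, 4,
    3, 0, 5, 2, 0, 0, 0, 5]

/-- data -/
def sv64 : List ℕ :=
  [70491, 1499, 166, 70491, 70491, 91, 38, 27, 211, 241, 0, 31, 1499, 166, 166, 0, 3, 6, 21, 49, 19, 16, 25, 2, 6, 3, 38, 91, 27, 0, 211, 0, 0, 0, 3,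
    4, 0, 3, 0, 19, 25, 0, 3]

/-- data -/
def sv65 : List ℕ :=
  [3498436156251, 3372251, 221350, 36471, 21, 91, 251, 1510, 0, 0, 0, 0, 311, 10, 21, 0, 11, 6, 3, 0, 0, 0, 0, 0, 0, 3, 2, 7, 4, 0, 0, 0, 0, 0, 0, 0,
    0, 3, 0, 0, 0, 0, 0]

/-- data -/
def sv66 : List ℕ :=
  [7705820500000, 7700001, 1428000, 144201, 1641, 1440, 721, 0, 0, 0, 0, 0, 40, 73, 120, 0, 0, 0, 3, 0, 0, 0, 0, 0, 0, 5, 0, 0, 0, 0, 0, 0, 0, 0, 0,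
    0, 0, 0, 0, 0, 0, 0, 0]

/-- data -/
def sv67 : List ℕ :=
  [115596897500000, 8932000, 924000, 78680, 7940, 480, 720, 0, 0, 0, 0, 0, 40, 24, 60, 0, 0, 0, 2, 0, 0, 0, 0, 0, 0, 4, 0, 0, 0, 0, 0, 0, 2, 0, 0, 0,
    0, 0, 0, 0, 0, 0, 0]

/-- data -/
def sv68 : List ℕ :=
  [5640622625001, 1375000, 2015000, 36291, 6321, 1001, 1001, 600, 0, 0, 0, 0, 291, 227, 80, 21, 0, 40, 3, 0, 0, 0, 0, 0, 0, 0, 11, 11, 0, 4, 0, 0, 0,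
    0, 0, 0, 3, 0, 0, 0, 0, 0, 0]

/-- data -/
def sv69 : List ℕ :=
  [108186068200729100364594001, 10400304563376, 10401251763376, 742208293, 6643, 56401, 25616, 1200, 1334112151, 766501, 651, 5701, 26844, 27100, 819,
    0, 72, 240, 0, 876, 35626, 476, 875, 76, 76, 3, 20, 12, 30, 0, 13, 3, 0, 20, 26, 30, 0, 2, 0, 4, 2, 0, 2]

/-- data -/
def sv70 : List ℕ :=
  [49641984000001, 0, 0, 0, 0, 0, 0, 0, 0, 0, 0, 0, 0, 0, 0, 0, 0, 0, 0, 0, 0, 0, 0, 0, 0, 4, 0, 0, 0, 0, 0, 0, 0, 0, 0, 0, 0, 0, 0, 0, 0, 0, 0]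

/-- data -/
def sv71 : List ℕ :=
  [360930816000000, 0, 0, 0, 0, 0, 0, 0, 0, 0, 0, 0, 0, 0, 0, 120, 0, 0, 0, 0, 0, 0, 0, 0, 0, 4, 0, 0, 0, 0, 0, 0, 2, 0, 0, 0, 0, 0, 0, 0, 0, 0, 0]

/-- data -/
def sv72 : List ℕ :=
  [29417472000001, 0, 0, 0, 2161, 0, 0, 0, 0, 0, 0, 0, 0, 0, 0, 0, 0, 0, 0, 0, 0, 0, 0, 0, 0, 4, 0, 0, 0, 0, 0, 0, 0, 0, 0, 0, 0, 0, 0, 0, 0, 0, 0]

/-- data -/
def sv73 : List ℕ :=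
  [27510784000000, 0, 0, 116481, 160, 0, 0, 0, 0, 0, 0, 0, 0, 0, 0, 0, 0, 0, 3, 0, 0, 0, 0, 0, 0, 4, 0, 0, 0, 0, 0, 0, 0, 0, 0, 0, 0, 0, 0, 0, 0, 0,
    0]

/-- data -/
def sv74 : List ℕ :=
  [28311444000001, 0, 288001, 0, 0, 0, 0, 0, 0, 0, 0, 0, 0, 0, 0, 0, 0, 0, 0, 0, 0, 0, 0, 0, 0, 4, 0, 0, 0, 0, 0, 0, 0, 0, 0, 0, 0, 0, 0, 0, 0, 0, 0]

/-- data -/
def sv75 : List ℕ :=
  [24820992000002, 16128002, 2, 2, 2, 2, 2, 2, 2, 2, 2, 2, 2, 2, 2, 2, 2, 2, 2, 2, 2, 2, 2, 2, 2, 0, 2, 2, 2, 2, 2, 2, 2, 2, 2, 2, 2, 0, 2, 2, 2, 2,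
    2]

/-- data -/
def sv76 : List ℕ :=
  [53143820800000001, 0, 0, 5882240, 1601, 0, 0, 0, 0, 0, 0, 0, 0, 0, 0, 0, 0, 0, 2, 0, 0, 0, 0, 0, 0, 5, 0, 0, 0, 0, 0, 0, 0, 0, 0, 0, 0, 0, 0, 0, 0,
    0, 0]

/-- data -/
def sv77 : List ℕ :=
  [1907899564032, 0, 0, 0, 4320, 0, 0, 0, 116929, 3969, 1249, 112, 0, 0, 0, 0, 0, 0, 0, 0, 0, 0, 0, 0, 0, 0, 0, 0, 0, 0, 0, 0, 0, 0, 0, 0, 0, 0, 2, 0,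
    0, 0, 0]

/-- data -/
def sv78 : List ℕ :=
  [532, 532, 532, 28, 9, 532, 532, 532, 29, 32, 2, 12, 28, 28, 9, 0, 84, 20, 4, 32, 29, 32, 2, 12, 12, 4, 28, 28, 9, 0, 8, 2, 0, 32, 29, 2, 0, 4, 2,
    8, 2, 0, 4]

/-- data -/
def sv79 : List ℕ :=
  [42203564156251, 41564251, 80550, 0, 0, 2011, 91, 2790, 0, 0, 0, 0, 0, 0, 0, 0, 11, 6, 0, 0, 0, 0, 0, 0, 0, 3, 0, 0, 0, 0, 0, 0, 0, 0, 0, 0, 0, 3,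
    0, 0, 0, 0, 0]

/-- data -/
def sv80 : List ℕ :=
  [12547221, 49365, 661, 1653, 220, 661, 5, 140, 1820, 2721, 0, 141, 117, 12, 37, 0, 4, 5, 9, 336, 5, 0, 81, 5, 0, 5, 5, 12, 5, 0, 53, 0, 0, 0, 5, 0,
    0, 4, 0, 44, 4, 0, 4]

/-- data -/
def sv : List (List ℤ) :=
  [sv0, sv1, sv2, sv3, sv4, sv5, sv6, sv7, sv8, sv9, sv10, sv11, sv12, sv13, sv14, sv15, sv16, sv17, sv18, sv19, sv20, sv21, sv22, sv23, sv24, sv25,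
    sv26, sv27, sv28, sv29, sv30, sv31, sv32, sv33, sv34, sv35, sv36, sv37, sv38, sv39, sv40, sv41, sv42, sv43, sv44, sv45, sv46, sv47, sv48, sv49,
    sv50, sv51, sv52, sv53, sv54, sv55, sv56, sv57, sv58, sv59, sv60, sv61, sv62, sv63, sv64, sv65, sv66, sv67, sv68, sv69, sv70, sv71, sv72, sv73,
    sv74, sv75, sv76, sv77, sv78, sv79, sv80].map fun v => v.map dz

/-- the operations -/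
def ops : List Sm1.Op :=
  [.cyc 0, .cyc 1, .cyc 2, .cyc 3, .cyc 4, .cyc 5, .cyc 6, .cyc 7, .cyc 8, .cyc 9, .cyc 10, .cyc 11, .cyc 12, .cyc 13, .cyc 14, .cyc 15, .cyc 16, .cyc
    17, .cyc 18, .cyc 19, .cyc 20, .cyc 21, .cyc 22, .cyc 23, .cyc 24, .cyc 25, .cyc 26, .cyc 27, .cyc 28, .cyc 29, .cyc 30, .cyc 31, .cyc 32, .cyc
    33, .cyc 34, .cyc 35, .cyc 36, .cyc 37, .cyc 38, .cyc 39, .cyc 40, .cyc 41, .cyc 42, .del 1 2, .del 46 2, .adm 46 6, .adm 47 5, .coad 0 15, .coad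
    0 8, .coad 46 2, .coad 0 14, .adm 1 3, .coad 2 4, .adm 1 2, .coad 2 2, .adm 1 5, .coad 0 7, .coad 2 9, .coad 60 7, .coad 51 9, .coad 50 30, .coad
    52 12, .coad 0 3, .coad 1 3, .adm 46 3, .coad 46 5, .coad 46 10, .coad 53 25, .del 2 2, .del 53 2, .coad 55 9, .coad 62 25, .coad 2 12, .coad 55
    7, .coad 57 9, .coad 0 11, .mul 55 46, .coad 66 8, .adm 1 4, .coad 68 9, .del 1 3]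

/-- the straight line program -/
def slp : List (List ℤ × Sm1.Op) := sv.zip ops

/-- the seeds -/
def seeds : List (List ℤ) := [List.replicate 43 1, vRow, thRow]

theorem ok_slp : chkSlp dat true slp seeds = true := by decide +kernel

end Cfsg.Agent.TAB.HN
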