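import Cfsg.Agent.TAB.HN.Tl

/-!
# The table of `HN` : counting lemmas and the decomposition into the 5-part and the 5'-part (helper54, TAB)
-/

set_option autoImplicit false
set_option maxRecDepth 100000

namespace Cfsg.Agent.TAB.HN.Cnt

open Subgroup Cfsg Cfsg.Agent.TAB.HN Cfsg.Agent.TAB.Eng Cfsg.Agent.TAB.HN.Five Cfsg.Agent.TAB.HN.Tl
open Cfsg.Agent.H651.HNF (Ty tyH cn table)

section

variable {H : Type*} [Group H] [Finite H]

theorem cnt_one {Q : H → Prop} {x : H} {n : ℕ} (hn : n ∣ Nat.card (centralizer ({x} : Set H)))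
    (h : ∀ g, Q g → IsConj x g) : Nat.card {g // Q g} * n ≤ Nat.card H := by
  rw [← card_class x]
  exact Nat.mul_le_mul (Nat.card_le_card_of_injective (fun g => ⟨g.1, h _ g.2⟩) fun a b e =>
    Subtype.ext (congrArg Subtype.val e :)) (Nat.le_of_dvd Nat.card_pos hn)

theorem cnt_two {Q : H → Prop} {x y : H} {n : ℕ} (hn : n ∣ Nat.card (centralizer ({x} : Set H)))
    (hn' : n ∣ Nat.card (centralizer ({y} : Set H))) (h : ∀ g, Q g → IsConj x g ∨ IsConj y g) :
    Nat.card {g // Q g} * n ≤ 2 * Nat.card H := by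
  have h1 := cnt_one (Q := IsConj x) hn fun _ e => e
  have h2 := cnt_one (Q := IsConj y) hn' fun _ e => e
  have h3 : Nat.card {g // Q g} ≤ Nat.card {g // IsConj x g} + Nat.card {g // IsConj y g} :=
    (Set.ncard_le_ncard (s := {g | Q g}) (t := {g | IsConj x g} ∪ {g | IsConj y g}) h).trans (Set.ncard_union_le _ _)
  have h4 := Nat.mul_le_mul_right n h3
  rw [add_mul] at h4
  omega

theorem cnt_norm {Q : H → Prop} {r s : H} (hs : orderOf s = 5) (M : Subgroup H)
    (hM : ∀ u ∈ M, Commute u r ∧ ∀ y ∈ zpowers s, u⁻¹ * y * u ∈ zpowers s)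
    (h : ∀ g, Q g → ∃ y ∈ zpowers s, y ≠ 1 ∧ IsConj (r * y) g) : Nat.card {g // Q g} * Nat.card M ≤ 4 * Nat.card H := by
  classical
  choose y h1 h2 h3 using h
  choose c hc using fun g hg => isConj_iff.1 (h3 g hg)
  have := Fintype.ofFinite (zpowers s)
  have h4 : Nat.card {z : zpowers s // z ≠ 1} = 4 := by
    rw [Nat.card_eq_fintype_card, Fintype.card_subtype_compl, Fintype.card_subtype_eq, ← Nat.card_eq_fintype_card,
      Nat.card_zpowers, hs]
  rw [← h4, ← Nat.card_prod, ← Nat.card_prod]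
  refine Nat.card_le_card_of_injective (fun p => (⟨⟨(p.2 : H)⁻¹ * y _ p.1.2 * p.2, (hM _ p.2.2).2 _ (h1 _ _)⟩, fun e =>
    h2 _ p.1.2 ?_⟩, c _ p.1.2 * p.2)) ?_
  · have e1 : (p.2 : H)⁻¹ * y _ p.1.2 * p.2 = 1 := congrArg Subtype.val e
    calc y _ p.1.2 = p.2 * ((p.2 : H)⁻¹ * y _ p.1.2 * p.2) * (p.2 : H)⁻¹ := by group
      _ = 1 := by rw [e1]; group
  · rintro ⟨⟨g, hg⟩, u, hu⟩ ⟨⟨g', hg'⟩, u', hu'⟩ e
    have e1 : u⁻¹ * y g hg * u = u'⁻¹ * y g' hg' * u' := congrArg (fun p => ((p.1.1 : zpowers s) : H)) e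
    have e2 : c g hg * u = c g' hg' * u' := congrArg Prod.snd e
    have key : ∀ g hg u, u ∈ M → g = c g hg * u * (r * (u⁻¹ * y g hg * u)) * (c g hg * u)⁻¹ := fun g hg u hu => by
      rw [mul_assoc (c g hg), ← mul_assoc u, (hM u hu).1.eq]
      conv_lhs => rw [← hc g hg]
      group
    obtain rfl : g = g' := by rw [key g hg u hu, e1, e2, ← key g' hg' u' hu']
    obtain rfl : u = u' := mul_left_cancel e2
    rfl

/-- a Sylow subgroup of prime order -/
theorem exists_sylow {p : ℕ} (hp : p.Prime) {s : H} (hs : orderOf s = p) (h : ¬ p * p ∣ Nat.card H) :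
    ∃ P : Sylow p H, (P : Subgroup H) = zpowers s := by
  have := Fact.mk hp
  have hP : IsPGroup p (zpowers s) := IsPGroup.of_card (n := 1) (by rw [Nat.card_zpowers, hs, pow_one])
  refine ⟨hP.toSylow fun e => h ?_, rfl⟩
  rw [← (zpowers s).card_mul_index, Nat.card_zpowers, hs]
  exact Nat.mul_dvd_mul_left p e

theorem conj_sylow {p n : ℕ} (hp : p.Prime) {s s' : H} (hs : orderOf s = p) (h : ¬ p * p ∣ Nat.card H)
    (h' : s' ^ p ^ n = 1) : ∃ (g : H) (m : ℕ), g * s ^ m * g⁻¹ = s' := by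
  have := Fact.mk hp
  obtain ⟨P, hP⟩ := exists_sylow hp hs h
  have h1 : IsPGroup p (zpowers s') := by
    rintro ⟨_, m, rfl⟩
    refine ⟨n, Subtype.ext ?_⟩
    change (s' ^ m) ^ p ^ n = 1
    rw [← zpow_natCast, ← zpow_mul, mul_comm, zpow_mul, zpow_natCast, h', one_zpow]
  obtain ⟨Q, hQ⟩ := h1.exists_le_sylow
  obtain ⟨g, hg⟩ := MulAction.exists_smul_eq H P Q
  have h2 := hQ (mem_zpowers s')
  rw [← hg, Sylow.coe_subgroup_smul, hP] at h2
  obtain ⟨y, hy, e⟩ := h2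
  obtain ⟨m, rfl⟩ := mem_powers_iff_mem_zpowers.2 hy
  exact ⟨g, m, e⟩

theorem exists_norm {s : H} (hs : orderOf s = 5) (h : ¬ 5 * 5 ∣ Nat.card H) : ∃ M : Subgroup H,
    centralizer {s} ≤ M ∧ (∀ u ∈ M, ∀ y ∈ zpowers s, u⁻¹ * y * u ∈ zpowers s) ∧ M.index % 5 = 1 := by
  have := Fact.mk Nat.prime_five
  obtain ⟨P, hP⟩ := exists_sylow Nat.prime_five hs h
  refine ⟨normalizer (P : Set H), fun u hu => ?_, fun u hu y hy => ?_, ?_⟩
  · refine centralizer_le_normalizer _ fun y hy => ?_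
    have h1 : y ∈ zpowers s := hP ▸ hy
    obtain ⟨m, rfl⟩ := h1
    exact ((show Commute u s from mem_centralizer_singleton_iff.1 hu).zpow_right m).symm.eq
  · have h1 := (mem_normalizer_iff.1 (inv_mem hu) y).1 (hP ▸ hy : y ∈ (P : Subgroup H))
    rw [inv_inv] at h1
    exact hP ▸ h1
  · rw [← P.card_eq_index_normalizer]
    exact card_sylow_modEq_one 5 H

end

theorem mass_of_le {H : Type*} [Group H] [Finite H] {D : Dat} {T : TD H D} (h : T.MassLe)
    (hs : ((List.range D.n).map D.cnt).sum ≤ D.N) : T.Mass := by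
  have := Fintype.ofFinite H
  have h1 := sum_ty (T := T) fun _ => (1 : ℕ)
  simp only [Finset.sum_const, Finset.card_univ, smul_eq_mul, mul_one] at h1
  rw [← Nat.card_eq_fintype_card, h.1] at h1
  rw [sum_range_eq] at hs
  have h2 : ∀ i ∈ Finset.range D.n, Nat.card {g : H // T.ty g = i} ≤ D.cnt i := fun i hi =>
    h.2 i (Finset.mem_range.1 hi)
  have h3 := Finset.sum_le_sum h2
  exact ⟨h.1, fun i hi => (Finset.sum_eq_sum_iff_of_le h2).1 (by omega) i (Finset.mem_range.2 hi)⟩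

/-! ### the decomposition -/

theorem ty_reg {r : G} (h : r ^ 105336 = 1) : tyH r ≠ .sing := fun e =>
  absurd (((table.sing r).1 e).trans (orderOf_dvd_of_pow_eq_one h)) (by norm_num)

theorem reg_of {r : G} (h : tyH r ≠ .sing) : r ^ 105336 = 1 := by
  rw [← orderOf_dvd_iff_pow_eq_one, table.ord r h]
  revert h
  generalize tyH r = t
  revert t
  decide +kernel

theorem decomp (g : G) : ∃ r s : G, g = r * s ∧ Commute r s ∧ r ^ 105336 = 1 ∧ s ^ 15625 = 1 := by
  have h1 : (g ^ 15625) ^ 105336 = 1 := by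
    refine reg_of fun e => ?_
    have h2 : (g ^ 15625) ^ 17473978368 = 1 := by
      rw [← pow_mul, show 15625 * 17473978368 = 273030912000000 by norm_num, ← table.card, pow_card_eq_one']
    exact absurd (((table.sing _).1 e).trans (orderOf_dvd_of_pow_eq_one h2)) (by norm_num)
  refine ⟨(g ^ 15625) ^ 86689, (g ^ 105336) ^ 2766, ?_, ((Commute.refl g).pow_pow _ _).pow_pow _ _, ?_, ?_⟩
  · rw [← pow_mul, ← pow_mul, ← pow_add, show 15625 * 86689 + 105336 * 2766 = 15625 * 105336 + 1 by norm_num, pow_succ,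
      pow_mul, h1, one_mul]
  · rw [← pow_mul, mul_comm, pow_mul, h1, one_pow]
  · rw [← pow_mul, mul_comm, pow_mul, ← pow_mul g, mul_comm, pow_mul, h1, one_pow]

theorem kap_one : kap 1 = 0 := by rw [kap, if_pos rfl]

theorem kap_25 {s : G} (h : orderOf s = 25) : kap s = 5 := by
  rw [kap, if_neg (fun e => by rw [e, orderOf_one] at h; cases h), if_pos h]

theorem order_Y2 : orderOf (Y ^ 2) = 25 := by
  rw [Nat.Coprime.orderOf_pow (by rw [order_Y]; decide), order_Y]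

theorem five3 {s : G} (h : s ^ 15625 = 1) : (s = 1 ∧ kap s = 0) ∨ (orderOf s = 5 ∧ kap s ∈ [1, 2, 3, 4]) ∨
    (orderOf s = 25 ∧ kap s = 5 ∧ (IsConj Y s ∨ IsConj (Y ^ 2) s)) := by
  by_cases h1 : s = 1
  · exact .inl ⟨h1, h1 ▸ kap_one⟩
  rcases five_elt (n := 6) h with h2 | h2
  · have h3 := order_of_prime Nat.prime_five h2 h1
    exact .inr (.inl ⟨h3, kap_mem h3⟩)
  · have h3 : orderOf s = 25 := by
      rcases h2 with h2 | h2
      · exact (Sm1.order_conj h2).symm.trans order_Y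
      · exact (Sm1.order_conj h2).symm.trans order_Y2
    exact .inr (.inr ⟨h3, kap_25 h3, h2⟩)

theorem pow25 {s : G} (h : s ^ 15625 = 1) : s ^ 25 = 1 := by
  rcases five3 h with ⟨rfl, -⟩ | ⟨h1, -⟩ | ⟨h1, -⟩
  · exact one_pow _
  · exact orderOf_dvd_iff_pow_eq_one.1 (h1 ▸ by decide)
  · exact h1 ▸ pow_orderOf_eq_one s

theorem kap_le {s : G} (h : s ^ 15625 = 1) : kap s < 6 := by
  rcases five3 h with ⟨-, h1⟩ | ⟨-, h1⟩ | ⟨-, h1, -⟩
  · omega
  · simp only [List.mem_cons, List.not_mem_nil, or_false] at h1; omega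
  · omega

theorem kap_pow {s : G} (h : s ^ 15625 = 1) {m : ℕ} (hm : ¬ 5 ∣ m) : kap (s ^ m) = kap s := by
  rcases five3 h with ⟨rfl, -⟩ | ⟨h1, -⟩ | ⟨h1, h2, -⟩
  · rw [one_pow]
  · exact kapPow s m h1 hm
  · rw [h2]
    refine kap_25 ?_
    rw [Nat.Coprime.orderOf_pow, h1]
    rw [h1]
    exact Nat.Coprime.pow_left 2 ((Nat.Prime.coprime_iff_not_dvd Nat.prime_five).2 hm)

theorem kap_five {s : G} (h : s ^ 15625 = 1) : kap (s ^ 5) = if kap s = 5 then 2 else 0 := by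
  have hW : kap (H839.Rad.HN.W ^ 2) = 2 :=
    (kap_of_tr (order_pow H839.Rad.HN.hW (by decide))).2.1 r1.2.2.2.2.2.1
  rcases five3 h with ⟨rfl, h1⟩ | ⟨h1, h2⟩ | ⟨-, h2, h3 | h3⟩
  · rw [one_pow, h1]; rfl
  · rw [← h1, pow_orderOf_eq_one, kap_one, h1, if_neg (fun e => by rw [e] at h2; exact absurd h2 (by decide))]
  · rw [if_pos h2, ← kap_conj (h3.pow 5), r1.1, hW]
  · rw [if_pos h2, ← kap_conj (h3.pow 5), ← pow_mul, mul_comm, pow_mul, r1.1,
      kap_sq (order_pow H839.Rad.HN.hW (by decide)), hW]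

theorem tyF_mul {r s : G} (hc : Commute r s) (hr : r ^ 105336 = 1) (hs : s ^ 15625 = 1) :
    tyF (r * s) = idx (tyH r) (kap s) := by
  rw [tyF, hc.mul_pow, hc.mul_pow, hr, hs, mul_one, one_mul, kap_pow hs (by norm_num), table.real r (ty_reg hr) _
    (Nat.Coprime.coprime_dvd_right (orderOf_dvd_of_pow_eq_one hr) (by norm_num))]

theorem tyF_conj {a b : G} (h : IsConj a b) : tyF a = tyF b := by
  rw [tyF, tyF, table.inv _ _ (h.pow _), kap_conj (h.pow _)]

theorem pow_KK {r s : G} (hc : Commute r s) (hr : r ^ 105336 = 1) (hs : s ^ 25 = 1) (i : ℕ) :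
    (r * s) ^ KK ^ i = r * s ^ 2 ^ i := by
  induction i with
  | zero => simp
  | succ i ih =>
    have h1 : r ^ KK = r := by rw [show KK = 105336 * 16 + 1 from rfl, pow_succ, pow_mul, hr, one_pow, one_mul]
    have h2 : s ^ KK = s ^ 2 := by rw [show KK = 25 * 67415 + 2 from rfl, pow_add, pow_mul, hs, one_pow, one_mul]
    rw [pow_succ, pow_mul, ih, (hc.pow_right _).mul_pow, h1, ← pow_mul, mul_comm, pow_mul, h2, ← pow_mul, ← pow_succ']

theorem cn_pow (x : G) (k : ℕ) : cn x ∣ cn (x ^ k) := card_dvd_of_le fun _ h =>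
  mem_centralizer_singleton_iff.2 ((show Commute _ x from mem_centralizer_singleton_iff.1 h).pow_right k).eq

theorem pow_r {r s : G} (hc : Commute r s) (hr : r ^ 105336 = 1) (hs : s ^ 15625 = 1) :
    (r * s) ^ (15625 * 86689) = r ∧ (r * s) ^ (105336 * 2766) = s := by
  constructor
  · rw [hc.mul_pow, pow_mul s, hs, one_pow, mul_one, show 15625 * 86689 = 105336 * 12859 + 1 by norm_num, pow_succ,
      pow_mul, hr, one_pow, one_mul]
  · rw [hc.mul_pow, pow_mul r, hr, one_pow, one_mul, show 105336 * 2766 = 15625 * 18647 + 1 by norm_num, pow_succ,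
      pow_mul, hs, one_pow, one_mul]

end Cfsg.Agent.TAB.HN.Cnt
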