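import Cfsg.Agent.TAB.Sm1.Slp
import Cfsg.Agent.TAB.Sm1.Fin

/-!
# The table of `HN` : numerical data and the interface (helper54, TAB)

The types are the rational classes
0:1A 1:2A 2:2B 3:3A 4:3B 5:4A 6:4B 7:4C 8:5A 9:5B 10:5CD 11:5E 12:6A 13:6B 14:6C 15:7A 16:8A 17:8B 18:9A 19:10A 20:10B 21:10C 22:10DE 23:10F
24:10GH 25:11A 26:12A 27:12B 28:12C 29:14A 30:15A 31:15BC 32:19AB 33:20AB 34:20C 35:20DE 36:21A 37:22A 38:25AB 39:30A 40:30BC 41:35AB
42:40AB.
-/

set_option autoImplicit false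
set_option maxRecDepth 100000

namespace Cfsg.Agent.TAB.HN

open Cfsg Cfsg.Agent.TAB.Eng Cfsg.Agent.TAB.Use

/-- the types -/
def dat : Dat where
  n := 43
  N := 273030912000000
  ordL := [1, 2, 2, 3, 3, 4, 4, 4, 5, 5, 5, 5, 6, 6, 6, 7, 8, 8, 9, 10, 10, 10, 10, 10, 10, 11, 12, 12, 12, 14, 15, 15, 19, 20, 20, 20, 21, 22, 25,
    30, 30, 35, 40]
  cntL := [1, 1539000, 74064375, 501600000, 9363200000, 17775450000, 47401200000, 71101800000, 433382400, 546061824, 36404121600, 109212364800,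
    189604800000, 474012000000, 758419200000, 650073600000, 3412886400000, 4266108000000, 10112256000000, 136515456000, 227525760000,
    341288640000, 910103040000, 2730309120000, 5460618240000, 12410496000000, 3792096000000, 5688144000000, 22752576000000, 9751104000000,
    1516838400000, 18202060800000, 28740096000000, 6825772800000, 6825772800000, 27303091200000, 13001472000000, 12410496000000, 21842472960000,
    4550515200000, 18202060800000, 15601766400000, 13651545600000]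
  pwL := [[], [(1, 1)], [(1, 2)], [(1, 3)], [(1, 4)], [(1, 5), (2, 2)], [(1, 6), (2, 1)], [(1, 7), (2, 2)], [(1, 8)], [(1, 9)], [(1, 10)], [(1, 11)],
    [(1, 12), (2, 3), (3, 1)], [(1, 13), (2, 3), (3, 2)], [(1, 14), (2, 4), (3, 2)], [(1, 15)], [(1, 16), (2, 6), (4, 1)], [(1, 17), (2, 5), (4,
    2)], [(1, 18), (3, 4)], [(1, 19), (2, 9), (5, 1)], [(1, 20), (2, 8), (5, 1)], [(1, 21), (2, 9), (5, 2)], [(1, 22), (2, 10), (5, 2)], [(1,
    23), (2, 11), (5, 1)], [(1, 24), (2, 11), (5, 2)], [(1, 25)], [(1, 26), (2, 12), (3, 6), (4, 3), (6, 1)], [(1, 27), (2, 13), (3, 5), (4, 3),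
    (6, 2)], [(1, 28), (2, 14), (3, 7), (4, 4), (6, 2)], [(1, 29), (2, 15), (7, 1)], [(1, 30), (3, 8), (5, 3)], [(1, 31), (3, 10), (5, 4)], [(1,
    32)], [(1, 33), (2, 21), (4, 9), (5, 5), (10, 2)], [(1, 34), (2, 20), (4, 8), (5, 6), (10, 1)], [(1, 35), (2, 22), (4, 10), (5, 7), (10,
    2)], [(1, 36), (3, 15), (7, 3)], [(1, 37), (2, 25), (11, 1)], [(1, 38), (5, 9)], [(1, 39), (2, 30), (3, 20), (5, 12), (6, 8), (10, 3), (15,
    1)], [(1, 40), (2, 31), (3, 22), (5, 14), (6, 10), (10, 4), (15, 2)], [(1, 41), (5, 15), (7, 8)], [(1, 42), (2, 34), (4, 20), (5, 16), (8,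
    8), (10, 6), (20, 1)]]

/-- the orders of the centralizers -/
def cenL : List ℕ := [273030912000000, 177408000, 3686400, 544320, 29160, 15360, 5760, 3840, 630000, 500000, 15000, 2500, 1440, 576, 360, 420, 80, 64, 27, 2000,
    1200, 800, 600, 100, 100, 22, 72, 48, 12, 28, 180, 30, 19, 80, 40, 20, 21, 22, 25, 60, 30, 35, 40]

/-- the numbers of classes -/
def mulL : List ℕ := [1, 1, 1, 1, 1, 1, 1, 1, 1, 1, 2, 1, 1, 1, 1, 1, 1, 1, 1, 1, 1, 1, 2, 1, 2, 1, 1, 1, 1, 1, 1, 2, 2, 2, 1, 2, 1, 1, 2, 1, 2, 2, 2]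

/-- the sum of the two characters of degree 133 -/
def vRow : List ℤ := [266, 42, 10, 14, -4, 10, 2, -6, -14, 16, 1, 6, 6, -2, 4, 0, -2, 2, 2, -8, 2, 0, 5, 2, 0, 2, 2, -2, 0, 0, 4, 1, 0, 0, 2, -1, 0, -2, 1, -4,
    -1, 0, -2]

/-- the character of degree 2375000 -/
def thRow : List ℤ := [2375000, -1000, 600, -190, 80, 40, 0, 0, 0, 0, 0, 0, -10, -6, 0, 5, 0, 0, -1, 0, 0, 0, 0, 0, 0, 1, 0, -2, 0, 1, 0, 0, 0, 0, 0, 0, -1, 1, 0,
    0, 0, 0, 0]

/-- **the interface** : the types are the rational classes, with the exact numbers, and two seeds -/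
structure In (T : TD Spor.HN dat) : Prop where
  mass : T.Mass
  rat : ON.Rat T
  cls : 54 ≤ Nat.card (ConjClasses Spor.HN)
  v : Virt T (nth vRow)
  th : Virt T (nth thRow)

end Cfsg.Agent.TAB.HN
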