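import Cfsg.Agent.TAB.HN.Dat
import Cfsg.Agent.TAB.Sm1.Td
import Cfsg.Agent.H651.HNF.Final
import Cfsg.Agent.CpAutHN.Pairs
import Cfsg.Agent.H536.T5.Prog

/-!
# The table of `HN` : the type function, the cells of the sections, kernel checks (helper54, TAB)

* `kap s` : the kind of a 5-element (0 : identity, 1 : 5A, 2 : 5B, 3 : 5CD, 4 : 5E, 5 : order 25), by the trace modulo 31;
* `tyF g` : the type, from the class of the 5'-part and the kind of the 5-part;
* `Cell`, `Cov`, `Small` : the statements on the 5-elements of the centralizer of a 5-regular element;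
* `Ex`, `chk`, `chk_sound` : programs in the group, checked on the packed matrices.
-/

set_option autoImplicit false

namespace Cfsg.Agent.TAB.HN

open Cfsg Cfsg.Agent.TAB.Eng
open Cfsg.Agent.H651.HNF (Ty tyH cn table)
open Cfsg.Agent.CpAutHN.Tr (tr tr_conj)

/-- the group -/
abbrev G : Type := Cfsg.Spor.HN

open Classical in
/-- the kind of a 5-element -/
noncomputable def kap (s : G) : ℕ :=
  if s = 1 then 0 else if orderOf s = 25 then 5 else if tr s = 24 then 1 else if tr s = 8 then 2 else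
    if tr s = 3 then 4 else 3

/-- the number of the type (43 : the pair does not occur) -/
def idx : Ty → ℕ → ℕ
  | .c1, 0 => 0 | .c2A, 0 => 1 | .c2B, 0 => 2 | .c3A, 0 => 3 | .c3B, 0 => 4 | .c4A, 0 => 5 | .c4B, 0 => 6 | .c4C, 0 => 7
  | .c1, 1 => 8 | .c1, 2 => 9 | .c1, 3 => 10 | .c1, 4 => 11 | .c6A, 0 => 12 | .c6B, 0 => 13 | .c6C, 0 => 14 | .c7, 0 => 15
  | .c8A, 0 => 16 | .c8B, 0 => 17 | .c9, 0 => 18 | .c2A, 2 => 19 | .c2A, 1 => 20 | .c2B, 2 => 21 | .c2B, 3 => 22
  | .c2A, 4 => 23 | .c2B, 4 => 24 | .c11, 0 => 25 | .c12A, 0 => 26 | .c12B, 0 => 27 | .c12C, 0 => 28 | .c14, 0 => 29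
  | .c3A, 1 => 30 | .c3B, 3 => 31 | .c19, 0 => 32 | .c4A, 2 => 33 | .c4B, 1 => 34 | .c4C, 3 => 35 | .c21, 0 => 36
  | .c22, 0 => 37 | .c1, 5 => 38 | .c6A, 1 => 39 | .c6C, 3 => 40 | .c7, 1 => 41 | .c8A, 1 => 42 | _, _ => 43

/-- the type of an element -/
noncomputable def tyF (g : G) : ℕ := idx (tyH (g ^ 15625)) (kap (g ^ 105336))

/-- the exponent of the twist : `1` modulo `105336`, `2` modulo `25` -/
def KK : ℕ := 1685377

/-- a cell of a section : one class of subgroups `⟨s⟩` of `C(r)`, with `s ~ s ^ e` in `C(r)` -/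
def Cell (c : Ty) (k n e : ℕ) : Prop :=
  ∃ r s h : G, tyH r = c ∧ Commute r s ∧ orderOf s = 5 ∧ kap s = k ∧ n ∣ cn (r * s) ∧ Commute h r ∧
    h * s * h⁻¹ = s ^ e ∧
    ∀ s' : G, Commute r s' → orderOf s' = 5 → kap s' = k → ∃ (g : G) (m : ℕ), Commute g r ∧ g * s ^ m * g⁻¹ = s'

/-- the kinds of the 5-elements in a section -/
def Cov (c : Ty) (ks : List ℕ) : Prop :=
  ∃ r : G, tyH r = c ∧ ∀ s : G, Commute r s → s ^ 15625 = 1 → s = 1 ∨ (orderOf s = 5 ∧ kap s ∈ ks)

/-- one pair in a section with Sylow 5-subgroups of order 5 -/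
def Small (c : Ty) (k n : ℕ) : Prop :=
  ∃ r s : G, tyH r = c ∧ Commute r s ∧ orderOf s = 5 ∧ kap s = k ∧ n ∣ cn (r * s)

/-- the kind is an invariant of the subgroup -/
def KapPow : Prop := ∀ (s : G) (m : ℕ), orderOf s = 5 → ¬ 5 ∣ m → kap (s ^ m) = kap s

/-- **the sections of the class 2B** -/
structure SecB : Prop where
  cov : Cov .c2B [2, 3, 4]
  c10C : Cell .c2B 2 800 2
  c10D : Cell .c2B 3 600 4
  c10G : Cell .c2B 4 100 4
  s3B : Small .c3B 3 30
  s6C : Small .c6C 3 30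
  s4C : Small .c4A 3 20 ∨ Small .c4C 3 20

/-- **what the seeds need** -/
structure Pre (T : TD G dat) : Prop where
  mass : T.Mass
  ty : ∀ g, T.ty g = tyF g
  kp : KapPow
  tw : ∀ g g', T.ty g = T.ty g' → T.ty g ≠ 32 → ∃ i, IsConj (g ^ KK ^ i) g'
  four : ∀ g : G, IsConj (g ^ KK ^ 4) g
  one : ∀ g, T.ty g ∈ [8, 9, 11, 19, 20, 21, 23] → IsConj (g ^ KK) g
  two : ∀ g, T.ty g ∈ [10, 22, 24, 38, 41] → IsConj (g ^ KK ^ 2) g

theorem kap_conj {a b : G} (h : IsConj a b) : kap a = kap b := by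
  have h1 : a = 1 ↔ b = 1 := ⟨fun e => by rw [e] at h; exact isConj_one_right.1 h, fun e => by
    rw [e] at h; exact isConj_one_left.1 h⟩
  classical
  unfold kap
  rw [Sm1.order_conj h, tr_conj h]
  by_cases h2 : a = 1
  · rw [if_pos h2, if_pos (h1.1 h2)]
  · rw [if_neg h2, if_neg (mt h1.2 h2)]

theorem kap_of_tr {s : G} (h : orderOf s = 5) :
    (tr s = 24 → kap s = 1) ∧ (tr s = 8 → kap s = 2) ∧ (tr s = 1 ∨ tr s = 0 → kap s = 3) ∧ (tr s = 3 → kap s = 4) := by
  have h1 : s ≠ 1 := fun e => by rw [e, orderOf_one] at h; cases h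
  rw [kap, if_neg h1, if_neg (by rw [h]; decide)]
  refine ⟨fun e => ?_, fun e => ?_, ?_, fun e => ?_⟩
  · rw [e]; decide
  · rw [e]; decide
  · rintro (e | e) <;> rw [e] <;> decide
  · rw [e]; decide

/-! ### kernel checks -/

section Chk

open Cfsg.Agent.Lib.PackMat Cfsg.Agent.Lib.PackMatGroup Cfsg.Agent.Lib.PackMatMul Cfsg.Agent.HN.RepData
open Cfsg.Agent.HN.Rep (L LG gens rho)
open Cfsg.Agent.HN.XWords (V)
open Cfsg.Agent.H536.T5.Prog (trK trace_mat)

/-- `A` is the packed matrix of `g` -/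
def Cd (g : G) (A : ℕ) : Prop := CodesR C (rho g) A

theorem goodC : Good C := good_of_check Cfsg.Agent.HN.Rep.good

theorem Cd.mul {g h : G} {A B : ℕ} (hg : Cd g A) (hh : Cd h B) : Cd (g * h) (mulM C A B) := by
  unfold Cd
  rw [map_mul]
  exact CodesR.mul goodC hg hh

theorem cd_one : Cd 1 (oneM C) := by
  unfold Cd
  rw [map_one]
  exact codesR_one goodC Cfsg.Agent.HN.Rep.one_lt

theorem Cd.inj {g h : G} {A : ℕ} (hg : Cd g A) (hh : Cd h A) : g = h :=
  have := Cfsg.Agent.S1701.result.1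
  Cfsg.Agent.HN.A12Group.rho_injective (CodesR.inj hg hh)

theorem Cd.tr {g : G} {A : ℕ} (hg : Cd g A) : tr g = ((trK C.s (C.s * (C.n + 1)) C.n A 0 : ℕ) : ZMod 31) := by
  unfold CpAutHN.Tr.tr
  rw [hg.2]
  exact trace_mat A

theorem cd_gens : List.Forall₂ Cd gens L := by
  have h := Cfsg.Agent.HN.A12Group.codesR
  rw [← Cfsg.Agent.HN.Rep.gens_map, List.forall₂_map_left_iff] at h
  exact h

/-- lookup with a default value -/
noncomputable def gt (o : ℕ) (l : List ℕ) : ℕ → ℕ :=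
  List.rec (fun _ => o) (fun a _ ih i => Nat.rec a (fun j _ => ih j) i) l

/-- product of a word -/
noncomputable def wd (f : ℕ → ℕ → ℕ) (o : ℕ) (l w : List ℕ) : ℕ → ℕ :=
  List.rec (fun acc => acc) (fun i _ ih acc => force (f acc (gt o l i)) ih) w

/-- product of a word -/
noncomputable def wd1 (f : ℕ → ℕ → ℕ) (o : ℕ) (l w : List ℕ) : ℕ :=
  List.rec o (fun i w _ => wd f o l w (gt o l i)) w

/-- expressions : a result, a word in the generators, a word in the results, a product, the power `a ^ (n + 1)` -/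
inductive Ex
  | v (i : ℕ) | w (l : List ℕ) | u (l : List ℕ) | mul (a b : Ex) | pw (a : Ex) (n : ℕ)

/-- the value in the group -/
noncomputable def Ex.ev (EL : List G) (e : Ex) : G :=
  Ex.rec (fun i => EL.getD i 1) (fun l => V l) (fun l => evG EL l) (fun _ _ a b => a * b) (fun _ n a => a ^ (n + 1)) e

/-- the packed matrix -/
noncomputable def Ex.cd (f : ℕ → ℕ → ℕ) (o : ℕ) (L0 l : List ℕ) (e : Ex) : ℕ :=
  Ex.rec (fun i => gt o l i) (fun w => wd1 f o L0 w) (fun w => wd1 f o l w)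
    (fun _ _ a b => force a fun a => force b fun b => f a b)
    (fun _ n a => force a fun a => (Nat.rec (fun acc => acc) (fun _ ih acc => force (f acc a) ih) n : ℕ → ℕ) a) e

/-- a program in the group : the results are appended -/
noncomputable def run (es : List Ex) : List G → List G :=
  List.rec (fun EL => EL) (fun e _ ih EL => ih (EL ++ [e.ev EL])) es

/-- the program on the packed matrices -/
noncomputable def runC (f : ℕ → ℕ → ℕ) (o : ℕ) (L0 : List ℕ) (k : List ℕ → Bool) (es : List Ex) : List ℕ → Bool :=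
  List.rec k (fun e _ ih l => force (e.cd f o L0 l) fun x => ih (l ++ [x])) es

section

variable {f : ℕ → ℕ → ℕ} {o : ℕ} {L0 : List ℕ}

theorem cd_gt (ho : Cd 1 o) {EL : List G} {l : List ℕ} (h : List.Forall₂ Cd EL l) (i : ℕ) :
    Cd (EL.getD i 1) (gt o l i) := by
  induction h generalizing i with
  | nil => exact ho
  | cons h1 _ ih =>
    rcases i with _ | i
    · exact h1
    · exact ih i

theorem cd_wd (hf : ∀ {g h : G} {A B : ℕ}, Cd g A → Cd h B → Cd (g * h) (f A B)) (ho : Cd 1 o) {EL : List G}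
    {l : List ℕ} (h : List.Forall₂ Cd EL l) (w : List ℕ) :
    ∀ {g : G} {A : ℕ}, Cd g A → Cd (g * evG EL w) (wd f o l w A) := by
  induction w with
  | nil => intro g A hg; rw [evG_nil, mul_one]; exact hg
  | cons i w ih => intro g A hg; rw [evG_cons, ← mul_assoc]; exact ih (hf hg (cd_gt ho h i))

theorem cd_wd1 (hf : ∀ {g h : G} {A B : ℕ}, Cd g A → Cd h B → Cd (g * h) (f A B)) (ho : Cd 1 o) {EL : List G}
    {l : List ℕ} (h : List.Forall₂ Cd EL l) (w : List ℕ) : Cd (evG EL w) (wd1 f o l w) := by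
  cases w with
  | nil => exact ho
  | cons i w => exact cd_wd hf ho h w (cd_gt ho h i)

theorem Ex.sound (hf : ∀ {g h : G} {A B : ℕ}, Cd g A → Cd h B → Cd (g * h) (f A B)) (ho : Cd 1 o)
    (h0 : List.Forall₂ Cd gens L0) {EL : List G} {l : List ℕ} (h : List.Forall₂ Cd EL l) (e : Ex) :
    Cd (e.ev EL) (e.cd f o L0 l) := by
  induction e with
  | v i => exact cd_gt ho h i
  | w x => exact cd_wd1 hf ho h0 x
  | u x => exact cd_wd1 hf ho h x
  | mul a b ha hb => exact hf ha hb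
  | pw a n ha =>
    have key : ∀ (n : ℕ) {g : G} {A : ℕ}, Cd g A → Cd (g * a.ev EL ^ n) ((Nat.rec (fun acc => acc)
        (fun _ ih acc => force (f acc (a.cd f o L0 l)) ih) n : ℕ → ℕ) A) := by
      intro n
      induction n with
      | zero => intro g A hg; rw [pow_zero, mul_one]; exact hg
      | succ n ih => intro g A hg; rw [pow_succ', ← mul_assoc]; exact ih (hf hg ha)
    have h1 := key n ha
    rw [← pow_succ'] at h1
    exact h1

theorem runC_sound (hf : ∀ {g h : G} {A B : ℕ}, Cd g A → Cd h B → Cd (g * h) (f A B)) (ho : Cd 1 o)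
    (h0 : List.Forall₂ Cd gens L0) {k : List ℕ → Bool} (es : List Ex) : ∀ {EL : List G} {l : List ℕ},
    List.Forall₂ Cd EL l → runC f o L0 k es l = true → ∃ l', List.Forall₂ Cd (run es EL) l' ∧ k l' = true := by
  induction es with
  | nil => intro EL l h hr; exact ⟨l, h, hr⟩
  | cons e es ih =>
    intro EL l h hr
    exact ih (List.rel_append h (.cons (e.sound hf ho h0 h) .nil)) hr

end

/-- **the check** : the pairs in `qs` are equal (an index out of range is the identity), the traces are as in `ts` -/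
noncomputable def chk (es : List Ex) (qs ts : List (ℕ × ℕ)) (l : List ℕ) : Bool :=
  withM C fun f => force (oneM C) fun o => runC f o L (fun l => allL (fun q => Nat.beq (gt o l q.1) (gt o l q.2)) qs &&
    allL (fun q => Nat.beq (Nat.mod (trK C.s (C.s * (C.n + 1)) C.n (gt o l q.1) 0) 31) q.2) ts) es l

theorem chk_sound {EL : List G} {l : List ℕ} (h : List.Forall₂ Cd EL l) {es : List Ex} {qs ts : List (ℕ × ℕ)}
    (hc : chk es qs ts l = true) : (∀ q ∈ qs, (run es EL).getD q.1 1 = (run es EL).getD q.2 1) ∧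
      ∀ q ∈ ts, tr ((run es EL).getD q.1 1) = (q.2 : ZMod 31) := by
  rw [chk, withM_eq, force_eq] at hc
  have ho := cd_one
  generalize oneM C = o at hc ho
  obtain ⟨l', h1, h2⟩ := runC_sound Cd.mul ho cd_gens es h hc
  rw [Bool.and_eq_true] at h2
  refine ⟨fun q hq => ?_, fun q hq => ?_⟩
  · have h3 := cd_gt ho h1 q.1
    rw [Nat.eq_of_beq_eq_true (allL_spec h2.1 q hq)] at h3
    exact h3.inj (cd_gt ho h1 q.2)
  · rw [(cd_gt ho h1 q.1).tr, ← Nat.eq_of_beq_eq_true (allL_spec h2.2 q hq)]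
    generalize trK C.s (C.s * (C.n + 1)) C.n (gt o l' q.1) 0 = x
    exact (ZMod.natCast_mod x 31).symm

theorem chk_W0 : chk [.w [2, 2, 2, 0, 0], .pw (.v 0) 1] [(1, 9)] [(0, 5)] [] = true := by decide +kernel

/-- example : the trace of the 2-central involution -/
theorem tr_W0 : tr Cfsg.Agent.HN.XWords.W0 = 5 := (chk_sound .nil chk_W0).2 (0, 5) (by decide)

end Chk

end Cfsg.Agent.TAB.HN
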