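import Cfsg.Agent.TAB.HN.FiveM

/-!
# The table of `HN` : the classes of 5-elements (helper54, TAB)

* `five_cls` : the elements of order 5; `five_elt` : the other 5-elements are conjugate to `Y` or `Y ^ 2`;
* `kapPow`, `dvd625`, `dvdW`.
-/

set_option autoImplicit false
set_option maxRecDepth 100000

namespace Cfsg.Agent.TAB.HN.Five

open Subgroup Cfsg Cfsg.Agent.TAB.HN Cfsg.Agent.H839.Rad.Ext Cfsg.Agent.H981.InvHN Cfsg.Agent.H981.TC.HNFive
open Cfsg.Agent.CpAutHN.Tr (tr tr_conj)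
open Cfsg.Agent.H651.HNF (cn)
open Cfsg.Agent.H253.Ore.HN25 (real_of_five_group comm_y)
open Cfsg.Agent.H839.Rad.HN (W A B C₁ D F k τ Gi ext e_fa1 e_fb1 e_fa2 e_fb2 FW e_w5 A_eq hW e_kw e_tauw e_a25 e_b25)

theorem conj_of {c x y : G} (h : c * x = y * c) : IsConj x y := isConj_iff.2 ⟨c, by rw [h, mul_inv_cancel_right]⟩

theorem conj_iter {x : G} {k : ℕ} (h : IsConj x (x ^ k)) (i : ℕ) : IsConj x (x ^ k ^ i) := by
  induction i with
  | zero => rw [pow_zero, pow_one]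
  | succ i ih =>
    have h1 := h.pow (k ^ i)
    rw [← pow_mul, ← pow_succ'] at h1
    exact ih.trans h1

theorem real4 {x : G} (h : x ^ 5 = 1) : IsConj x (x ^ 4) := by
  have h1 := real_of_five_group (g := x) (n := 1) (by rw [pow_one, h])
  rwa [show x⁻¹ = x ^ 4 from inv_eq_of_mul_eq_one_right (by rw [← pow_succ', h])] at h1

/-! ### order 5 -/

theorem conj_WA : IsConj W A := isConj_iff.2 ⟨H839.Rad.HN.G⁻¹, by rw [inv_inv, A_eq]⟩

theorem conj_WW : IsConj W (W ^ 2) := conj_of r2.1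

/-- **the elements of order 5** -/
theorem five_cls {x : G} (hx : orderOf x = 5) : (kap x = 1 ∧ IsConj (B * (D * D)) x) ∨ (kap x = 2 ∧ IsConj W x) ∨
    (kap x = 3 ∧ (IsConj C₁ x ∨ IsConj (C₁ ^ 2) x)) ∨ (kap x = 4 ∧ IsConj D x) := by
  obtain ⟨-, -, h1, h2, -, h3, h4, h5, -⟩ := r2
  obtain ⟨k1, k2, k3, k4⟩ := kap_of_tr hx
  have hw : IsConj W x → kap x = 2 ∧ IsConj W x := fun h => ⟨k2 ((tr_conj h).symm.trans r1.2.2.2.2.1), h⟩
  have hd : IsConj D x → kap x = 4 ∧ IsConj D x := fun h => ⟨k4 ((tr_conj h).symm.trans h2), h⟩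
  rcases five_words hx with h | h | h | h | h | h | h
  · exact .inr (.inl (hw (conj_WA.trans h)))
  · rw [← pow_two] at h
    exact .inr (.inl (hw (conj_WW.trans ((conj_WA.pow 2).trans h))))
  · exact .inr (.inr (.inr (hd h)))
  · exact .inr (.inr (.inl ⟨k3 (.inl ((tr_conj h).symm.trans h3)), .inl h⟩))
  · rw [← pow_two] at h
    exact .inr (.inr (.inl ⟨k3 (.inr ((tr_conj h).symm.trans h4)), .inr h⟩))
  · exact .inl ⟨k1 ((tr_conj h).symm.trans h5), h⟩
  · exact .inr (.inr (.inr (hd ((conj_of h1).trans h))))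

theorem order_pow {x : G} (hx : orderOf x = 5) {m : ℕ} (hm : ¬ 5 ∣ m) : orderOf (x ^ m) = 5 := by
  rw [Nat.Coprime.orderOf_pow, hx]
  rw [hx]
  exact (Nat.Prime.coprime_iff_not_dvd Nat.prime_five).2 hm

theorem kap_sq {x : G} (hx : orderOf x = 5) : kap (x ^ 2) = kap x := by
  obtain ⟨-, -, -, -, h2, h3, h4, -, h6⟩ := r2
  obtain ⟨k1, k2, k3, k4⟩ := kap_of_tr (order_pow hx (m := 2) (by decide))
  rcases five_cls hx with ⟨h, e⟩ | ⟨h, e⟩ | ⟨h, e | e⟩ | ⟨h, e⟩ <;> rw [h]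
  · exact k1 ((tr_conj (e.pow 2)).symm.trans h6)
  · exact k2 ((tr_conj (e.pow 2)).symm.trans r1.2.2.2.2.2.1)
  · exact k3 (.inr ((tr_conj (e.pow 2)).symm.trans h4))
  · have e1 := e.pow 2
    rw [← pow_mul] at e1
    exact k3 (.inl ((tr_conj ((real4 e_a25).trans e1)).symm.trans h3))
  · exact k4 ((tr_conj (e.pow 2)).symm.trans h2)

theorem kapPow : KapPow := by
  intro s m hs hm
  have h2 := kap_sq hs
  have h4 := kap_sq (order_pow hs (m := 2) (by decide))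
  have h8 := kap_sq (order_pow hs (m := 4) (by decide))
  rw [← pow_mul] at h4 h8
  have h5 : s ^ m = s ^ (m % 5) := by rw [← hs, pow_mod_orderOf]
  have h6 : s ^ (4 * 2) = s ^ 3 := by rw [← pow_mod_orderOf, hs]
  rw [h5]
  have h7 : m % 5 = 1 ∨ m % 5 = 2 ∨ m % 5 = 3 ∨ m % 5 = 4 := by omega
  rcases h7 with h | h | h | h <;> rw [h]
  · rw [pow_one]
  · exact h2
  · rw [← h6, h8]; exact h4.trans h2
  · exact h4.trans h2

theorem conj_of_kap {x y : G} (hx : orderOf x = 5) (hy : orderOf y = 5) (h : kap x = kap y) (h3 : kap x ≠ 3) :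
    IsConj x y := by
  rcases five_cls hx with ⟨a, e⟩ | ⟨a, e⟩ | ⟨a, e⟩ | ⟨a, e⟩ <;>
    rcases five_cls hy with ⟨b, e'⟩ | ⟨b, e'⟩ | ⟨b, e'⟩ | ⟨b, e'⟩ <;>
    first | omega | exact e.symm.trans e'

theorem conj_of_kap3 {x y : G} (hx : orderOf x = 5) (hy : orderOf y = 5) (h : kap x = 3) (h' : kap y = 3) :
    IsConj x y ∨ IsConj (x ^ 2) y := by
  have key : ∀ {x : G}, orderOf x = 5 → kap x = 3 → IsConj C₁ x ∨ IsConj (C₁ ^ 2) x := fun hx h => by
    rcases five_cls hx with ⟨a, e⟩ | ⟨a, e⟩ | ⟨a, e⟩ | ⟨a, e⟩ <;> first | exact e | omega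
  rcases key hx h with e | e <;> rcases key hy h' with e' | e'
  · exact .inl (e.symm.trans e')
  · exact .inr ((e.pow 2).symm.trans e')
  · have e1 := e.pow 2
    rw [← pow_mul] at e1
    exact .inr (((real4 e_a25).trans e1).symm.trans e')
  · exact .inl (e.symm.trans e')

theorem kap_mem {x : G} (hx : orderOf x = 5) : kap x ∈ [1, 2, 3, 4] := by
  rcases five_cls hx with ⟨a, -⟩ | ⟨a, -⟩ | ⟨a, -⟩ | ⟨a, -⟩ <;> rw [a] <;> decide

/-! ### centralizers -/

theorem cn_conj {x y : G} (h : IsConj x y) : cn x = cn y := Sm1.card_cent_conj h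

theorem dvdW : 15625 ∣ cn W := by
  have h1 : P ≤ centralizer ({W} : Set G) := by
    rintro _ ⟨q, hq, s, rfl⟩
    rw [mem_centralizer_singleton_iff]
    exact (Commute.mul_left (ext.comm_w q hq) ((show Commute F W from FW).zpow_left s)).eq
  refine Dvd.dvd.trans ?_ (card_dvd_of_le h1)
  have h2 := P.card_mul_index
  rw [card_HN] at h2
  refine Nat.Coprime.dvd_of_dvd_mul_right (n := P.index) ?_ (h2 ▸ by norm_num)
  exact Nat.Coprime.pow_left 6 ((Nat.Prime.coprime_iff_not_dvd Nat.prime_five).2 index_P)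

theorem dvdQ {x : G} (hx : x ∈ ext.Q) : 625 ∣ cn x := by
  have : Fact (Nat.Prime 5) := ⟨Nat.prime_five⟩
  let f : ext.Q →* zpowers W := MonoidHom.mk' (fun q => ⟨q * x * (q : G)⁻¹ * x⁻¹, ext.commutator_mem _ q.2 _ hx⟩) (by
    intro a b
    apply Subtype.ext
    obtain ⟨m, hm⟩ := ext.commutator_mem _ b.2 _ hx
    have h1 : Commute (W ^ m) (x * (a : G)⁻¹ * x⁻¹) := Commute.zpow_left
      (show Commute W _ from (ext.comm_w _ (mul_mem (mul_mem hx (inv_mem a.2)) (inv_mem hx))).symm) m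
    simp only at hm
    show (a : G) * b * x * ((a : G) * b)⁻¹ * x⁻¹ = a * x * (a : G)⁻¹ * x⁻¹ * (b * x * (b : G)⁻¹ * x⁻¹)
    calc _ = a * ((b * x * (b : G)⁻¹ * x⁻¹) * (x * (a : G)⁻¹ * x⁻¹)) := by group
      _ = _ := by rw [← hm, h1.eq]; group)
  have h1 : f.ker.map ext.Q.subtype ≤ centralizer ({x} : Set G) := by
    rintro _ ⟨q, hq, rfl⟩
    have h2 : (q : G) * x * (q : G)⁻¹ * x⁻¹ = 1 := congrArg Subtype.val hq
    rw [mem_centralizer_singleton_iff]
    exact mul_inv_eq_iff_eq_mul.1 (mul_inv_eq_one.1 h2)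
  refine Dvd.dvd.trans ?_ (card_dvd_of_le h1)
  rw [card_map_of_injective Subtype.val_injective]
  have h2 := f.ker.card_mul_index
  have h3 : f.ker.index ∣ 5 := by
    have h4 := card_subgroup_dvd_card f.range
    rwa [Nat.card_zpowers, hW, ← index_ker] at h4
  have h4 : 5 ^ 5 ∣ Nat.card ext.Q := ext.pow_dvd_card (by norm_num) (by decide)
  rw [← h2] at h4
  exact Nat.dvd_of_mul_dvd_mul_right (k := 5) (by norm_num) (h4.trans (Nat.mul_dvd_mul_left _ h3))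

theorem dvd625 {x : G} (hx : orderOf x = 5) : 625 ∣ cn x := by
  obtain ⟨c, hc⟩ := exists_mem_Q hx
  rw [cn_conj (isConj_iff.2 ⟨c, rfl⟩ : IsConj x _)]
  exact dvdQ hc

/-! ### order 25 -/

theorem Y25 : Y ^ 25 = 1 := by
  rw [show 25 = 5 * 5 from rfl, pow_mul, r1.1, ← pow_mul, mul_comm, pow_mul, e_w5, one_pow]

theorem Y15 : Y ^ 15 = W := by
  rw [show 15 = 5 * 3 from rfl, pow_mul, r1.1, ← pow_mul, show 2 * 3 = 5 + 1 from rfl, pow_succ, e_w5, one_mul]

theorem order_Y : orderOf Y = 25 := by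
  have : Fact (Nat.Prime 5) := ⟨Nat.prime_five⟩
  refine orderOf_eq_prime_pow (p := 5) (n := 1) (fun h => ?_) Y25
  have h1 := Y15
  rw [show 15 = 5 ^ 1 * 3 from rfl, pow_mul, h, one_pow] at h1
  exact H839.Rad.HN.W_ne h1.symm

theorem conj_Y9 : IsConj Y (Y ^ 9) := by
  have h1 := conj_of r1.2.1
  rw [← Y15, ← pow_succ'] at h1
  have h2 := real_of_five_group (g := Y ^ 16) (n := 2) (by
    rw [← pow_mul, mul_comm, pow_mul, show 5 ^ 2 = 25 from rfl, Y25, one_pow])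
  rw [show (Y ^ 16)⁻¹ = Y ^ 9 from inv_eq_of_mul_eq_one_right (by rw [← pow_add, Y25])] at h2
  exact h1.trans h2

theorem pow_Y (j : ℕ) : (Y ^ j) ^ 5 = 1 ∨ IsConj Y (Y ^ j) ∨ IsConj (Y ^ 2) (Y ^ j) := by
  have h : ∀ j < 25, j * 5 % 25 = 0 ∨ ∃ i < 10, 9 ^ i % 25 = j ∨ 9 ^ i * 2 % 25 = j := by decide
  have h0 : ∀ a, Y ^ a = Y ^ (a % 25) := fun a => by rw [← order_Y, pow_mod_orderOf]
  rw [h0 j]
  rcases h _ (Nat.mod_lt j (by norm_num)) with h1 | ⟨i, -, h1 | h1⟩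
  · exact .inl (by rw [← pow_mul, h0, h1, pow_zero])
  · exact .inr (.inl (by rw [← h1, ← h0]; exact conj_iter conj_Y9 i))
  · exact .inr (.inr (by rw [← h1, ← h0, pow_mul]; exact (conj_iter conj_Y9 i).pow 2))

/-- fifth power trivial, or conjugate to a power of `Y` -/
def PY (x : G) : Prop := x ^ 5 = 1 ∨ ∃ j : ℕ, IsConj (Y ^ j) x

theorem PY.conj {x y : G} (h : PY x) (e : IsConj x y) : PY y := by
  rcases h with h | ⟨j, h⟩
  · have h1 := e.pow 5
    rw [h] at h1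
    exact .inl (isConj_one_right.1 h1)
  · exact .inr ⟨j, h.trans e⟩

theorem PY.pow {x : G} (h : PY x) (n : ℕ) : PY (x ^ n) := by
  rcases h with h | ⟨j, h⟩
  · exact .inl (by rw [← pow_mul, mul_comm, pow_mul, h, one_pow])
  · exact .inr ⟨j * n, by rw [pow_mul]; exact h.pow n⟩

theorem py_YW (a : ℕ) (m : ℤ) : PY (Y ^ a * W ^ m) := by
  refine .inr ⟨a + 15 * (m % 5).toNat, ?_⟩
  rw [pow_add, pow_mul, Y15, zpow_eq e_w5 (i := m) (j := ((m % 5).toNat : ℕ)) (by omega), zpow_natCast]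

theorem py_step {c y z : G} {a : ℕ} (h : c * y = z * c) (hw : c * W = W ^ a * c) (m : ℤ) :
    IsConj (y * W ^ m) (z * W ^ (a * m)) := by
  refine isConj_iff.2 ⟨c, ?_⟩
  have h1 : c * W * c⁻¹ = W ^ a := by rw [hw, mul_inv_cancel_right]
  rw [zpow_mul, zpow_natCast, ← h1, conj_zpow, ← mul_assoc, h]
  group

theorem py_c {u : ℕ} (h1 : 1 ≤ u) (h4 : u ≤ 4) (m : ℤ) : PY (nf W A B C₁ D 0 0 u 0 m * F) := by
  have cF : Commute (W ^ m) F := (show Commute W F from FW.symm).zpow_left m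
  have h2 : nf W A B C₁ D 0 0 u 0 m * F = C₁ ^ u * F * W ^ m := by
    simp only [nf, zpow_zero, one_mul, mul_one, zpow_natCast]
    rw [mul_assoc, cF.eq, ← mul_assoc]
  rw [h2]
  have cB : Commute B W := ext.wb.symm
  have cC : Commute C₁ W := ext.wc.symm
  have cD : Commute D W := ext.wd.symm
  have ck : Commute k W := e_kw
  have ct : Commute τ W := e_tauw
  have c4 : B * B * C₁ * k * k * W = W ^ 1 * (B * B * C₁ * k * k) := by
    rw [pow_one]
    exact ((((cB.mul_left cB).mul_left cC).mul_left ck).mul_left ck).eq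
  have c3 : C₁ ^ 4 * D ^ 3 * k * τ * σ * W = W ^ 2 * (C₁ ^ 4 * D ^ 3 * k * τ * σ) := by
    rw [mul_assoc, r2.1, ← mul_assoc, (((((cC.pow_left 4).mul_left (cD.pow_left 3)).mul_left ck).mul_left ct).pow_right 2).eq,
      mul_assoc (W ^ 2)]
  have e3 : ∀ m : ℤ, PY (C₁ ^ 3 * F * W ^ m) := fun m => by
    refine PY.conj ?_ (py_step r2.2.1 c3 m).symm
    rw [mul_assoc, ← zpow_one_add]
    exact py_YW _ _
  have hu : u = 1 ∨ u = 2 ∨ u = 3 ∨ u = 4 := by omega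
  rcases hu with rfl | rfl | rfl | rfl
  · have := py_YW 1 m
    rwa [pow_one, Y, ← pow_one C₁] at this
  · have h5 := py_step r1.2.2.2.1 c4 (m - 1)
    rw [mul_assoc (C₁ ^ 2 * F), ← zpow_one_add, Nat.cast_one, one_mul, add_sub_cancel] at h5
    exact (e3 _).conj h5
  · exact e3 m
  · refine PY.conj ?_ (py_step r1.2.2.1 c4 m).symm
    have := py_YW 1 ((3 : ℕ) + (1 : ℕ) * m)
    rwa [pow_one, zpow_add, zpow_natCast, ← mul_assoc] at this

theorem movePY (g v : ℕ) (h : ∀ m, PY (nv (mv2 g v) m * F)) : ∀ m, PY (nv v m * F) := by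
  intro m
  have key : ∀ (s : Spor.HN) (a0 a1 a2 a3 a4 s0 s1 s2 s3 : ℤ) (c0 c1 c2 c3 : ℕ),
      s⁻¹ = nf W A B C₁ D s0 s1 s2 s3 0 → F * s = nf W A B C₁ D a0 a1 a2 a3 a4 * F →
      (5 : ℤ) ∣ s0 + a0 - c0 → (5 : ℤ) ∣ s1 + a1 - c1 → (5 : ℤ) ∣ s2 + a2 - c2 → (5 : ℤ) ∣ s3 + a3 - c3 →
      (∀ m, PY (nv (en (d0 v + c0) (d1 v + c1) (d2 v + c2) (d3 v + c3)) m * F)) → PY (nv v m * F) := by
    intro s a0 a1 a2 a3 a4 s0 s1 s2 s3 c0 c1 c2 c3 hs hF h0 h1 h2 h3 hv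
    refine PY.conj ?_ (isConj_iff.2 ⟨s⁻¹, rfl⟩ : IsConj (nv v m * F) _).symm
    obtain ⟨m', hm⟩ := step_F hs hF (d0 v) (d1 v) (d2 v) (d3 v) m
    rw [nv, hm]
    have h4 := hv m'
    rw [← nf_en] at h4
    rw [nf_mod (i' := ((d0 v + c0 : ℕ) : ℤ)) (j' := ((d1 v + c1 : ℕ) : ℤ)) (u' := ((d2 v + c2 : ℕ) : ℤ))
      (l' := ((d3 v + c3 : ℕ) : ℤ)) (by push_cast; omega) (by push_cast; omega) (by push_cast; omega)
      (by push_cast; omega)]
    exact h4
  rcases g with _ | _ | _ | g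
  · exact key A _ _ _ _ _ (-1) 0 0 0 4 0 4 4 (by simp [nf]) e_fa1 (by norm_num) (by norm_num) (by norm_num) (by norm_num)
      h
  · exact key B _ _ _ _ _ 0 (-1) 0 0 0 0 0 4 (by simp [nf]) e_fb1 (by norm_num) (by norm_num) (by norm_num) (by norm_num)
      h
  · exact key C₁ _ _ _ _ _ 0 0 (-1) 0 4 1 3 4 (by simp [nf]) e_fa2 (by norm_num) (by norm_num) (by norm_num)
      (by norm_num) h
  · exact key D _ _ _ _ _ 0 0 0 (-1) 4 0 4 3 (by simp [nf]) e_fb2 (by norm_num) (by norm_num) (by norm_num) (by norm_num)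
      h

theorem py_F : ∀ v < 625, ∀ m, PY (nv v m * F) := by
  intro v hv
  refine all_of_rank (P := fun v => ∀ m, PY (nv v m * F)) chk2 movePY ?_ _ v (Nat.lt_succ_self _) hv
    (fun h => absurd h (by decide))
  intro v hv m
  simp only [List.mem_cons, List.not_mem_nil, or_false] at hv
  have hc : ∀ u : ℕ, u < 5 → nv (25 * u) m = nf W A B C₁ D 0 0 u 0 m := by
    intro u hu
    rw [nv, d0e, d1e, d2e, d3e]
    apply nf_eq <;> omega
  rcases hv with rfl | rfl | rfl | rfl | rfl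
  · rw [nv_zero]
    refine .inl ?_
    rw [((show Commute W F from FW.symm).zpow_left m).mul_pow, F5, mul_one, ← zpow_natCast, ← zpow_mul, mul_comm,
      zpow_mul, zpow_natCast, e_w5, one_zpow]
  · rw [show (25 : ℕ) = 25 * 1 from rfl, hc 1 (by decide)]
    exact py_c (by decide) (by decide) m
  · rw [show (50 : ℕ) = 25 * 2 from rfl, hc 2 (by decide)]
    exact py_c (by decide) (by decide) m
  · rw [show (75 : ℕ) = 25 * 3 from rfl, hc 3 (by decide)]
    exact py_c (by decide) (by decide) m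
  · rw [show (100 : ℕ) = 25 * 4 from rfl, hc 4 (by decide)]
    exact py_c (by decide) (by decide) m

theorem py_all {g : G} {n : ℕ} (hg : g ^ 5 ^ n = 1) : PY g := by
  have : Fact (Nat.Prime 5) := ⟨Nat.prime_five⟩
  have h1 : IsPGroup 5 (zpowers g) := by
    rintro ⟨_, m, rfl⟩
    refine ⟨n, Subtype.ext ?_⟩
    change (g ^ m) ^ 5 ^ n = 1
    rw [← zpow_natCast, ← zpow_mul, mul_comm, zpow_mul, zpow_natCast, hg, one_zpow]
  obtain ⟨Q, hQ⟩ := h1.exists_le_sylow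
  obtain ⟨x, hx⟩ := MulAction.exists_smul_eq Spor.HN Q (isPGroup_P.toSylow index_P)
  have h2 : (Q : Subgroup Spor.HN).map (MulAut.conj x).toMonoidHom = P := by
    have := congrArg (fun S : Sylow 5 Spor.HN => (S : Subgroup Spor.HN)) hx
    exact this
  have h3 : x * g * x⁻¹ ∈ P := by
    rw [← h2]
    exact ⟨g, hQ (mem_zpowers g), rfl⟩
  refine PY.conj ?_ (isConj_iff.2 ⟨x, rfl⟩ : IsConj g _).symm
  obtain ⟨q, hq, s, hs⟩ := h3
  rw [hs]
  by_cases h5 : (5 : ℤ) ∣ s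
  · have h6 : F ^ s = 1 := by rw [zpow_eq F5 (i := s) (j := 0) (by simpa using h5), zpow_zero]
    rw [h6, mul_one]
    exact .inl (ext.pow_eq_one (by decide) q hq)
  · obtain ⟨t, ht⟩ : ∃ t : ℕ, (5 : ℤ) ∣ s * t - 1 := by
      have h4 : s % 5 = 1 ∨ s % 5 = 2 ∨ s % 5 = 3 ∨ s % 5 = 4 := by omega
      rcases h4 with h | h | h | h
      · exact ⟨1, by push_cast; omega⟩
      · exact ⟨3, by push_cast; omega⟩
      · exact ⟨2, by push_cast; omega⟩
      · exact ⟨4, by push_cast; omega⟩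
    have ht5 : ¬ 5 ∣ t := by
      rintro ⟨r, rfl⟩
      push_cast at ht
      have h6 : (5 : ℤ) ∣ s * (5 * r) := ⟨s * r, by ring⟩
      have h7 := dvd_sub h6 ht
      simp at h7
    have hpy : PY ((q * F ^ s) ^ t) := by
      obtain ⟨q', hq', he⟩ := pow_form hq s t
      rw [he, zpow_eq F5 (i := s * t) (j := 1) ht, zpow_one]
      obtain ⟨i, j, u, l, m, rfl⟩ := hq'
      obtain ⟨v, hv, he⟩ := exists_code i j u l m
      rw [he]
      exact py_F v hv m
    have ho : (q * F ^ s) ^ 5 ^ n = 1 := by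
      rw [← hs, conj_pow, hg, mul_one, mul_inv_cancel]
    have hcop : Nat.Coprime t (5 ^ n) :=
      Nat.Coprime.pow_right n (((Nat.Prime.coprime_iff_not_dvd Nat.prime_five).2 ht5).symm)
    generalize q * F ^ s = y at *
    obtain ⟨e, he⟩ := exists_pow_eq_self_of_coprime
      (Nat.Coprime.coprime_dvd_right (orderOf_dvd_of_pow_eq_one ho) hcop)
    exact he ▸ hpy.pow e

/-- **the 5-elements** -/
theorem five_elt {g : G} {n : ℕ} (hg : g ^ 5 ^ n = 1) : g ^ 5 = 1 ∨ IsConj Y g ∨ IsConj (Y ^ 2) g := by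
  rcases py_all hg with h | ⟨j, h⟩
  · exact .inl h
  · rcases pow_Y j with h1 | h1 | h1
    · have h2 := h.pow 5
      rw [h1] at h2
      exact .inl (isConj_one_right.1 h2)
    · exact .inr (.inl (h1.trans h))
    · exact .inr (.inr (h1.trans h))

end Cfsg.Agent.TAB.HN.Five
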