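import Cfsg.Agent.TAB.HN.Def
import Cfsg.Agent.H981.TC.HNReps

/-!
# The table of `HN` : relations and traces for the 5-elements (helper54, TAB)
-/

set_option autoImplicit false
set_option maxRecDepth 100000

namespace Cfsg.Agent.TAB.HN.Five

open Cfsg Cfsg.Agent.TAB.HN
open Cfsg.Agent.CpAutHN.Tr (tr tr_conj)
open Cfsg.Agent.Lib.PackMat Cfsg.Agent.Lib.PackMatGroup Cfsg.Agent.Lib.PackMatMul Cfsg.Agent.HN.RepData
open Cfsg.Agent.HN.Rep (L LG gens rho)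
open Cfsg.Agent.H839.Rad.HN (R rho_R W A B C₁ D F k τ Gi r105)

open Cfsg.Agent.H839.SegS Cfsg.Agent.H839.Rad.HN.Seg in
theorem cdR {p : ℕ} (h3 : p ∈ q3) : Cd (R (49 + p)) (get M3 p) := by
  have h2 := PC.lift s3.1 w4 h3
  have h5 := runG_old w5 (runG w4 (runG w3 (runG w2 (runG w1 LG)))) (p + w4.length)
  rw [← h5, ← run_eq, ← rho_R] at h2
  have h6 : p + w4.length + w5.length = 49 + p := by
    have e4 : w4.length = 27 := rfl
    have e5 : w5.length = 22 := rfl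
    omega
  rw [h6] at h2
  exact h2

/-- the positions of `W A B C₁ D F G G⁻¹ τ k D²` -/
def ps : List ℕ := [52, 19, 36, 35, 58, 17, 21, 20, 43, 39, 56]

/-- the packed matrices -/
noncomputable def L5 : List ℕ := ps.map (get H839.Rad.HN.Seg.M3)

/-- the elements -/
noncomputable def E5 : List G := [W, A, B, C₁, D, F, H839.Rad.HN.G, Gi, τ, k, D * (D * 1)]

theorem cd5 : List.Forall₂ Cd E5 L5 := by
  have h : E5 = ps.map fun p => R (49 + p) := by rw [E5, ← r105]; rfl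
  rw [h, L5, List.forall₂_map_left_iff, List.forall₂_map_right_iff, List.forall₂_same]
  exact fun p hp => cdR ((by decide : ∀ p ∈ ps, p ∈ H839.Rad.HN.Seg.q3) p hp)

/-- 11 `Y`, 12 `y₂`, 13 `y₃`, 14 `y₄`, 15 `Y⁵`, 16 `W²`, 17 `q`, 20 `c` -/
def p1 : List Ex := [.u [3, 5], .u [3, 11], .u [3, 12], .u [3, 13], .pw (.v 11) 4, .u [0, 0], .u [1, 2, 10, 10],
  .u [17, 11], .u [11, 0, 17], .u [2, 2, 3, 9, 9], .u [20, 14], .u [11, 16, 0, 20], .u [20, 13], .u [12, 0, 20]]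

theorem c1 : chk p1 [(15, 16), (18, 19), (21, 22), (23, 24)] [(0, 8), (16, 8), (11, 19), (12, 13)] L5 = true := by
  decide +kernel

/-- 11 `σ`, 14 `C²`, 15 `Y`, 16 `y₃`, 17 `c₃`, 20 `c₅` -/
def p2 : List Ex := [.u [7, 1, 6, 2, 7, 2, 2, 6], .u [11, 0], .u [0, 0, 11], .u [3, 3], .u [3, 5], .u [14, 15],
  .u [14, 14, 10, 4, 9, 8, 11], .u [17, 16], .u [15, 15, 15, 0, 17], .u [3, 9, 5, 8, 11], .u [20, 4],
  .u [2, 14, 3, 4, 20], .u [2, 10], .u [23, 23]]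

theorem c2 : chk p2 [(12, 13), (18, 19), (21, 22)] [(4, 3), (10, 3), (3, 1), (14, 0), (23, 24), (24, 24)] L5 = true := by
  decide +kernel

/-- the element of order 25 -/
noncomputable def Y : G := C₁ * F

/-- `W ↦ W ^ 2` -/
noncomputable def σ : G := Gi * A * H839.Rad.HN.G * B * Gi * B * B * H839.Rad.HN.G

theorem r1 : Y ^ 5 = W ^ 2 ∧ A * B * D ^ 4 * Y = Y * W * (A * B * D ^ 4) ∧
    B * B * C₁ * k * k * (C₁ ^ 4 * F) = Y * W ^ 3 * (B * B * C₁ * k * k) ∧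
    B * B * C₁ * k * k * (C₁ ^ 3 * F) = C₁ ^ 2 * F * W * (B * B * C₁ * k * k) ∧
    tr W = 8 ∧ tr (W ^ 2) = 8 ∧ tr Y = 19 ∧ tr (C₁ ^ 2 * F) = 13 := by
  obtain ⟨h1, h2⟩ := chk_sound cd5 c1
  simp only [List.forall_mem_cons, List.not_mem_nil, false_imp_iff, implies_true, and_true, p1, E5, run, Ex.ev,
    List.cons_append, List.nil_append, List.getD_cons_succ, List.getD_cons_zero, evG_cons, evG_nil, mul_one] at h1 h2
  simp only [Y, pow_succ, pow_zero, one_mul, mul_assoc] at h1 h2 ⊢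
  exact ⟨h1.1, h1.2.1, h1.2.2.1, h1.2.2.2, h2.1, h2.2.1, h2.2.2.1, h2.2.2.2⟩

theorem r2 : σ * W = W ^ 2 * σ ∧
    C₁ ^ 4 * D ^ 3 * k * τ * σ * (C₁ ^ 3 * F) = Y ^ 3 * W * (C₁ ^ 4 * D ^ 3 * k * τ * σ) ∧
    C₁ * k * F * τ * σ * D = B * (C₁ * (C₁ * (C₁ * D))) * (C₁ * k * F * τ * σ) ∧
    tr D = 3 ∧ tr (D ^ 2) = 3 ∧ tr C₁ = 1 ∧ tr (C₁ ^ 2) = 0 ∧ tr (B * (D * D)) = 24 ∧ tr ((B * (D * D)) ^ 2) = 24 := by
  obtain ⟨h1, h2⟩ := chk_sound cd5 c2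
  simp only [List.forall_mem_cons, List.not_mem_nil, false_imp_iff, implies_true, and_true, p2, E5, run, Ex.ev,
    List.cons_append, List.nil_append, List.getD_cons_succ, List.getD_cons_zero, evG_cons, evG_nil, mul_one] at h1 h2
  simp only [Y, σ, pow_succ, pow_zero, one_mul, mul_assoc] at h1 h2 ⊢
  exact ⟨h1.1, h1.2.1, h1.2.2, h2.1, h2.2.1, h2.2.2.1, h2.2.2.2.1, h2.2.2.2.2.1, h2.2.2.2.2.2⟩

end Cfsg.Agent.TAB.HN.Five
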