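import Cfsg.Agent.TAB.HN.SecM

/-!
# The table of `HN` : the sections of `2A`, `3A`, `4A`, `4B`, `4C`, `6A`, `7A`, `8A` (helper54, TAB)
-/

set_option autoImplicit false
set_option maxRecDepth 100000

namespace Cfsg.Agent.TAB.HN.SecA

open Subgroup Cfsg Cfsg.Agent.TAB.HN Cfsg.Agent.TAB.HN.Five Cfsg.Agent.TAB.HN.Tl
open Cfsg.Agent.CpAutHN.Tr (tr tr_conj ew)
open Cfsg.Agent.H651.HNF (Ty tyH cn table)
open Cfsg.Agent.HN.XWords (V V_hw)
open Cfsg.Agent.HN.Pres (H0)
open Cfsg.Agent.HN.P1408 (hw hw_append hw_nil okw)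
open Cfsg.Agent.HN.H0Basic (hw_eq hw_ne τ τ_comm finite_H0)
open Cfsg.Agent.HN.NormalH (ψ)
open Cfsg.Agent.KFacts.HN (emb)
open Cfsg.Agent.CpAutHNFive.HTab Cfsg.Agent.CpAutHNFive.HFacts

/-! ### the section of `2A` -/

theorem five_H0 {x : H0} (hx : x ^ 15625 = 1) : x ^ 5 = 1 := by
  have : Fact (Nat.Prime 5) := ⟨Nat.prime_five⟩
  have := finite_H0
  have hcard := card_closure CpAutHNFive.HTab.c5 d5 z5 z1 cz dz cd
  have hfac : (Nat.card H0).factorization 5 = 3 := by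
    rw [Cfsg.Agent.HN.H0Basic.card_H0, show (177408000 : ℕ) = 5 ^ 3 * 1419264 by norm_num]
    have h2 : (1419264 : ℕ).factorization 5 = 0 := Nat.factorization_eq_zero_of_not_dvd (by norm_num)
    rw [Nat.factorization_mul (by norm_num) (by norm_num), Nat.Prime.factorization_pow Nat.prime_five,
      Finsupp.add_apply, h2, Finsupp.single_eq_same]
  let P : Sylow 5 H0 := Sylow.ofCard (closure ({hw wc, hw CpAutHNFive.HTab.wd} : Set H0)) (by rw [hfac]; exact hcard)
  have hxp : IsPGroup 5 ↥(zpowers x) := by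
    rintro ⟨_, m, rfl⟩
    refine ⟨6, Subtype.ext ?_⟩
    change (x ^ m) ^ 15625 = 1
    rw [← zpow_natCast, ← zpow_mul, mul_comm, zpow_mul, zpow_natCast, hx, one_zpow]
  obtain ⟨Q, hQ⟩ := hxp.exists_le_sylow
  obtain ⟨g, hg⟩ := MulAction.exists_smul_eq H0 Q P
  have h1 : g * x * g⁻¹ ∈ (P : Subgroup H0) := by
    rw [← hg, Sylow.coe_subgroup_smul]
    exact ⟨x, hQ (mem_zpowers x), rfl⟩
  have h2 : g * x * g⁻¹ ∈ closure ({hw wc, hw CpAutHNFive.HTab.wd} : Set H0) := h1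
  obtain ⟨i, hi, j, hj, k, hk, h3⟩ := mem_nf CpAutHNFive.HTab.c5 d5 z5 cz dz cd h2
  by_cases h0 : i = 0 ∧ j = 0 ∧ k = 0
  · obtain ⟨rfl, rfl, rfl⟩ := h0
    rw [pow_zero, pow_zero, pow_zero, one_mul, one_mul, conj_eq_one_iff] at h3
    rw [h3, one_pow]
  · obtain ⟨u, m, -, -, w, hw', h4⟩ := CpAutHNFive.HTab.table hi hj hk h0
    have h5 : (u⁻¹ * g * x * (u⁻¹ * g)⁻¹) ^ 5 = 1 := by
      rw [show u⁻¹ * g * x * (u⁻¹ * g)⁻¹ = hw w ^ m by rw [← h4, ← h3]; group, ← pow_mul, mul_comm, pow_mul]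
      rcases hw' with rfl | rfl | rfl
      · rw [w1_five, one_pow]
      · rw [w2_five, one_pow]
      · rw [w3_five, one_pow]
    rwa [conj_pow, conj_eq_one_iff] at h5

theorem ord_ψ (v : H0) : orderOf (ψ v) = orderOf v := orderOf_injective _ emb.inj v

theorem comm_τ0 (v : H0) : Commute (ψ v) τ0 := (show Commute v τ from τ_comm v).map ψ

theorem kap1 : kap (ψ (hw w1)) = 2 :=
  (kap_of_tr ((ord_ψ _).trans order_w1)).2.1 (by rw [V_hw (by decide +kernel)]; exact r5.1)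

theorem kap2 : kap (ψ (hw w2)) = 1 :=
  (kap_of_tr ((ord_ψ _).trans order_w2)).1 (by rw [V_hw (by decide +kernel)]; exact r4.2.2.2.2.2.2.2.1)

theorem kap3 : kap (ψ (hw w3)) = 4 :=
  (kap_of_tr ((ord_ψ _).trans order_w3)).2.2.2 (by rw [V_hw (by decide +kernel)]; exact r4.2.2.2.2.2.2.2.2)

theorem five_τ0 {s : G} (h : Commute τ0 s) (hs : orderOf s = 5) : ∃ (g : G) (m : ℕ), Commute g τ0 ∧
    ∃ w, (w = w1 ∨ w = w2 ∨ w = w3) ∧ g * ψ (hw w) ^ m * g⁻¹ = s ∧ kap s = kap (ψ (hw w)) := by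
  obtain ⟨v, rfl⟩ := emb.cent s h.symm.eq
  obtain ⟨g, m, h1, h2, w, h3, h4⟩ := five_conj ((ord_ψ v).symm.trans hs)
  have h5 : ψ g⁻¹ * ψ (hw w) ^ m * (ψ g⁻¹)⁻¹ = ψ v := by
    rw [← map_pow, ← h4, ← map_inv, ← map_mul, ← map_mul]
    congr 1
    group
  refine ⟨ψ g⁻¹, m, comm_τ0 _, w, h3, h5, ?_⟩
  rw [← kap_conj (isConj_iff.2 ⟨_, h5⟩)]
  refine kapPow _ _ ((ord_ψ _).trans ?_) (by omega)
  rcases h3 with rfl | rfl | rfl
  · exact order_w1
  · exact order_w2
  · exact order_w3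

theorem cov2A : Cov .c2A [1, 2, 4] := by
  refine ⟨τ0, ty_τ0, fun s h hs => ?_⟩
  by_cases h1 : s = 1
  · exact .inl h1
  have h2 : orderOf s = 5 := by
    obtain ⟨v, rfl⟩ := emb.cent s h.symm.eq
    refine order_of_prime Nat.prime_five ?_ h1
    rw [← map_pow, five_H0 (emb.inj (by rw [map_pow, hs, map_one])), map_one]
  refine .inr ⟨h2, ?_⟩
  obtain ⟨-, -, -, w, rfl | rfl | rfl, -, h3⟩ := five_τ0 h h2
  · rw [h3, kap1]; decide
  · rw [h3, kap2]; decide
  · rw [h3, kap3]; decide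

theorem cell2A {w h : List ℕ} {k n : ℕ} (ho : orderOf (hw w) = 5) (hk : kap (ψ (hw w)) = k)
    (hn : n ∣ Nat.card (centralizer ({hw w} : Set H0))) (hh : HN.P1408.eqw (h ++ w) (rp 2 w ++ h) = true)
    (hu : ∀ w', w' = w1 ∨ w' = w2 ∨ w' = w3 → kap (ψ (hw w')) = k → w' = w) : Cell .c2A k n 2 := by
  refine ⟨τ0, ψ (hw w), ψ (hw h), ty_τ0, (comm_τ0 _).symm, (ord_ψ _).trans ho, hk,
    hn.trans (dvd_map emb.inj fun v hv => (comm_τ0 v).mul_right (hv.map ψ)), comm_τ0 _, ?_, fun s h1 h2 h3 => ?_⟩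
  · have h1 := hw_eq hh
    rw [hw_append, hw_append, hw_rp] at h1
    rw [mul_inv_eq_iff_eq_mul, ← map_pow, ← map_mul, ← map_mul, h1]
  · obtain ⟨g, m, h4, w', h5, h6, h7⟩ := five_τ0 h1 h2
    obtain rfl := hu w' h5 (h7.symm.trans h3)
    exact ⟨g, m, h4, h6⟩

theorem dvd1 : 2000 ∣ Nat.card (centralizer ({hw w1} : Set H0)) := by
  have := finite_H0
  have h1 : 16 ∣ Nat.card (centralizer ({hw w1} : Set H0)) := by
    refine dvd16 (t := hw [2, 0, 2, 2, 0, 3, 4, 3, 3, 0, 3, 3, 0, 2]) order_τ order_q τ_not_mem (τ_comm _).symm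
      (τ_comm _).symm q_comm q_comm (comm_of (by decide +kernel)) (τ_comm _).symm (Commute.refl _) ?_ fun h => ?_
    · rw [mul_inv_eq_iff_eq_mul, show (hw wq)⁻¹ = hw wq ^ 3 from inv_eq_of_mul_eq_one_right (by
        rw [← pow_succ', q_four]), ← hw_rp, ← hw_append, ← hw_append]
      exact hw_eq (by decide +kernel)
    · exact q_sq_ne (by rw [pow_two]; exact inv_eq_iff_mul_eq_one.1 h)
  have h2 : 125 ∣ Nat.card (centralizer ({hw w1} : Set H0)) := by
    have h3 : IsConj (hw w1) (hw wz) := isConj_iff.2 ⟨hw (gP.getD 0 []), by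
      rw [mul_inv_eq_iff_eq_mul, ← hw_append, ← hw_append]
      exact hw_eq (by decide +kernel)⟩
    rw [Sm1.card_cent_conj h3, show 125 = 5 ^ 3 from rfl, ← card_closure CpAutHNFive.HTab.c5 d5 z5 z1 cz dz cd]
    refine card_dvd_of_le ((closure_le _).2 ?_)
    rintro _ (rfl | rfl)
    · exact mem_centralizer_singleton_iff.2 cz
    · exact mem_centralizer_singleton_iff.2 dz
  exact Nat.Coprime.mul_dvd_of_dvd_of_dvd (m := 16) (n := 125) (by norm_num) h1 h2

theorem dvd2 : 1200 ∣ Nat.card (centralizer ({hw w2} : Set H0)) := by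
  have := finite_H0
  have h1 : 16 ∣ Nat.card (centralizer ({hw w2} : Set H0)) := by
    have h := CpAutHNFive.QD.QDat.card (⟨order_g, order_h, hgh⟩ : CpAutHNFive.QD.QDat (hw wg) (hw wh))
    rw [← h]
    refine card_dvd_of_le ((closure_le _).2 ?_)
    rintro _ (rfl | rfl)
    · exact mem_centralizer_singleton_iff.2 g_comm
    · exact mem_centralizer_singleton_iff.2 h_comm
  have h2 := dvd_two Nat.prime_five order_e e_not_mem e_comm e_comm (Commute.refl _)
  have h3 := dvd_one (show Commute _ _ from t_comm)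
  rw [order_w2] at h2
  rw [order_t] at h3
  exact Nat.Coprime.mul_dvd_of_dvd_of_dvd (m := 16) (n := 75) (by norm_num) h1
    (Nat.Coprime.mul_dvd_of_dvd_of_dvd (m := 3) (n := 25) (by norm_num) h3 h2)

theorem c10A : Cell .c2A 2 2000 2 :=
  cell2A (h := [3, 4, 3, 0, 3, 0, 2, 4, 2, 4, 2, 4]) order_w1 kap1 dvd1 (by decide +kernel) (by
    rintro _ (rfl | rfl | rfl) h
    · rfl
    · rw [kap2] at h; cases h
    · rw [kap3] at h; cases h)

theorem c10B : Cell .c2A 1 1200 2 :=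
  cell2A (h := [2, 0, 2, 0, 2, 2, 2, 0, 3, 3, 0, 2]) order_w2 kap2 dvd2 (by decide +kernel) (by
    rintro _ (rfl | rfl | rfl) h
    · rw [kap1] at h; cases h
    · rfl
    · rw [kap3] at h; cases h)

theorem c10F : Cell .c2A 4 100 2 :=
  cell2A (h := [0, 3, 3, 4, 2, 2, 0, 3, 3, 4, 2]) order_w3 kap3 (dvd_of_eq card_three.symm) (by decide +kernel) (by
    rintro _ (rfl | rfl | rfl) h
    · rw [kap1] at h; cases h
    · rw [kap2] at h; cases h
    · rfl)

/-! ### `8A`, `4B` -/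

theorem dvd_mul {r s x : G} {n : ℕ} (hs : orderOf s = 5) (hx : orderOf x = n) (hn : Nat.Coprime n 5)
    (h1 : Commute x r) (h2 : Commute x s) (h3 : Commute r s) : n * 5 ∣ cn (r * s) := by
  have := finG
  refine Nat.Coprime.mul_dvd_of_dvd_of_dvd hn (hx ▸ dvd_one (h1.mul_right h2)) ?_
  exact hs ▸ dvd_one (h3.symm.mul_right (Commute.refl s))

theorem ty_g : tyH (ψ (hw wg)) = .c8A := by
  obtain ⟨h1, h2⟩ := ty_ord ((ord_ψ _).trans order_g) (by decide)
  have h3 := ty_sq h1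
  have h4 := ty_sq (g := ψ (hw wg) ^ 2) (by rw [h3]; revert h2; generalize tyH (H := G) _ = t; revert t; decide)
  rw [← pow_mul, ← map_pow, show 2 * 2 = 4 from rfl, g_four, ty_τ0, h3] at h4
  revert h2 h4
  generalize tyH (H := G) _ = t
  revert t
  decide

theorem s8A : Small .c8A 1 40 :=
  have h : Commute (ψ (hw wg)) (ψ (hw w2)) := (show Commute _ _ from g_comm).map ψ
  ⟨_, _, ty_g, h, (ord_ψ _).trans order_w2, kap2,
    dvd_mul (n := 8) ((ord_ψ _).trans order_w2) ((ord_ψ _).trans order_g) (by decide) (Commute.refl _) h h⟩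

theorem s4B : Small .c4B 1 40 :=
  have h : Commute (ψ (hw wg)) (ψ (hw w2)) := (show Commute _ _ from g_comm).map ψ
  ⟨ψ (hw wg) ^ 2, _, by rw [ty_sq (by rw [ty_g]; decide), ty_g]; rfl, h.pow_left 2, (ord_ψ _).trans order_w2, kap2,
    dvd_mul (n := 8) ((ord_ψ _).trans order_w2) ((ord_ψ _).trans order_g) (by decide) ((Commute.refl _).pow_right 2) h
      (h.pow_left 2)⟩

/-! ### `4A`, `4C` -/

theorem ty_four {g : G} (h : (g ^ 2) ^ 2 = 1) (h1 : tr (g ^ 2) = 5) : tyH g = .c4A ∨ tyH g = .c4C := by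
  have h2 := ty_2B h h1
  obtain ⟨h3, h4⟩ := ty_ord (order_two_pow (g := g) (n := 1) (by rw [← pow_mul] at h; exact h)
    (ne_one (by rw [pow_one, h1]; decide))) (by decide)
  rw [ty_sq h3] at h2
  revert h2 h4
  generalize tyH g = t
  revert t
  decide

theorem ty_g8 : tyH (V [3, 3, 4, 0, 6] ^ 2) = .c4A := by
  obtain ⟨-, h1, -, -, -, -, h2, -⟩ := r4
  have h3 := ty_2B h1 h2
  obtain ⟨h4, h5⟩ := ty_ord (order_two_pow (g := V [3, 3, 4, 0, 6]) (n := 2) (by rw [← pow_mul, ← pow_mul] at h1; exact h1)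
    (ne_one (by rw [← pow_mul] at h2; rw [show 2 ^ 2 = 2 * 2 from rfl, h2]; decide))) (by decide)
  have h6 := ty_sq h4
  rw [ty_sq (by rw [h6]; revert h5; generalize tyH (H := G) _ = t; revert t; decide), h6] at h3
  rw [h6]
  revert h3 h5
  generalize tyH (H := G) _ = t
  revert t
  decide

theorem ty_G5 : tyH (H839.Rad.HN.G ^ 5) = .c4C := by
  obtain ⟨h1, -, -, h2, h3, h4, -⟩ := r4
  refine (ty_four h1 h3).resolve_left fun h => ?_
  have h5 := tr_conj (table.conj _ _ (h.trans ty_g8.symm) (by rw [h]; decide) (by rw [h]; decide))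
  rw [h2, h4] at h5
  exact absurd h5 (by decide)

theorem s4C : Small .c4C 3 20 := by
  obtain ⟨h1, -, h2, -⟩ := r4
  have h3 : orderOf (H839.Rad.HN.G ^ 4) = 5 := order_of_prime Nat.prime_five
    (by rw [← pow_mul, ← pow_mul] at h1; rw [← pow_mul]; exact h1) (ne_one (by rw [h2]; decide))
  have h4 : Commute (H839.Rad.HN.G ^ 5) (H839.Rad.HN.G ^ 4) := (Commute.refl _).pow_pow 5 4
  have h5 := table.ord (H839.Rad.HN.G ^ 5) (by rw [ty_G5]; decide)
  rw [ty_G5] at h5
  exact ⟨_, _, ty_G5, h4, h3, (kap_of_tr h3).2.2.1 (.inr h2), dvd_mul (n := 4) h3 h5 (by decide) (Commute.refl _) h4 h4⟩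

open Cfsg.Agent.H839.Rad.HN (W A B C₁ D F k ext FW e_kw e_tauw hW) in
theorem s4A : Small .c4A 2 80 := by
  have := finG
  obtain ⟨h1, h2, h3, h4, h5, h6, h7, h8, h9, h10⟩ := r3
  have ck : Commute k W := e_kw
  have a1 : tyH k = .c4A := by
    refine (ty_four (by rw [← pow_mul]; exact h5) h8).resolve_right fun h => ?_
    have e := tr_conj (table.conj _ _ (h.trans ty_G5.symm) (by rw [h]; decide) (by rw [h]; decide))
    rw [h7, r4.2.2.2.1] at e
    exact absurd e (by decide)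
  have a2 := table.ord k (by rw [a1]; decide)
  rw [a1] at a2
  have cX : Commute X W := by
    have cA : Commute A W := ext.wa.symm
    have cB : Commute B W := ext.wb.symm
    have cC : Commute C₁ W := ext.wc.symm
    exact (((((((((cA.mul_left cA).mul_left cB).mul_left cB).mul_left cB).mul_left cC).mul_left cC).mul_left cC).mul_left
      cC).mul_left ext.wd.symm).mul_left FW
  have c1 : Commute t1 W := (cX.mul_left e_tauw).mul_left (cX.pow_left 4)
  have c4 : Commute t4 W := ((cX.pow_left 4).mul_left e_tauw).mul_left cX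
  have d1 : Commute t1 k := h2
  have d4 : Commute t4 k := h3
  have a3 : 16 ∣ cn (k * W) := by
    refine dvd16 (a := t1) (b := k) (x := t1 * k) (t := t4)
      (order_of_prime Nat.prime_two h1 (ne_one (by rw [h6]; decide))) a2 (not_mem_zpowers (n := 4) (by decide) h5 ?_) d1
      (d1.mul_right c1) ((Commute.refl k).mul_right ck) ((d1.mul_right c1).mul_left ((Commute.refl k).mul_right ck))
      (d4.mul_right c4) ((Commute.refl t1).mul_right d1) (d1.symm.mul_right (Commute.refl k)) ?_ fun h => ?_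
    · intro i hi e
      rw [e] at h6
      interval_cases i
      · rw [pow_zero, tr_one] at h6; exact absurd h6 (by decide)
      · rw [pow_one, h7] at h6; exact absurd h6 (by decide)
      · rw [h8] at h6; exact absurd h6 (by decide)
      · rw [h9] at h6; exact absurd h6 (by decide)
    · calc t4 * (t1 * k) * t4⁻¹ = (t1 * k)⁻¹ * (t1 * k * t4 * (t1 * k)) * t4⁻¹ := by group
        _ = _ := by rw [h4]; group
    · rw [pow_two, inv_eq_iff_mul_eq_one.1 h, tr_one] at h10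
      exact absurd h10 (by decide)
  refine ⟨k, W, a1, ck, hW, (kap_of_tr hW).2.1 r1.2.2.2.2.1,
    Nat.Coprime.mul_dvd_of_dvd_of_dvd (m := 16) (n := 5) (by norm_num) a3 ?_⟩
  exact hW ▸ dvd_one (ck.symm.mul_right (Commute.refl W))

/-! ### `3A`, `6A`, `7A` -/

open Cfsg.Agent.CpAutHN.Alt (A12 Φ Φ_inj Φ_wp wp wp_mem cy)
open Cfsg.Agent.CpAutHN.Pairs (instSimple)

/-- an even permutation -/
def ap (f : Equiv.Perm (Fin 12)) (h : Equiv.Perm.sign f = 1 := by decide +kernel) : A12 :=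
  ⟨f, Equiv.Perm.mem_alternatingGroup.2 h⟩

/-- a 5-cycle -/
def x5 : A12 := ⟨wp [0, 1, 2], wp_mem (by decide)⟩
/-- a 3-cycle -/
def a3 : A12 := ap (cy [3, 4, 5])
/-- a 3-cycle -/
def b3 : A12 := ap (cy [6, 7, 8])
/-- a double transposition -/
def v1 : A12 := ap (cy [6, 7] * cy [8, 9])
/-- a double transposition -/
def v2 : A12 := ap (cy [6, 8] * cy [7, 9])
/-- a 7-cycle -/
def c7 : A12 := ap (cy [3, 4, 5, 6, 7, 8, 9])
/-- a 7-cycle -/
def d7 : A12 := ap (cy [0, 1, 2, 6, 7, 8, 9])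
/-- inverts the 5-cycle -/
def h5 : A12 := ap (cy [0, 1] * cy [2, 11])

theorem cΦ {a b : A12} (h : (a : Equiv.Perm (Fin 12)) * b = b * a) : Commute (Φ a) (Φ b) :=
  (show Commute a b from Subtype.ext h).map Φ

theorem oΦ {a : A12} {p : ℕ} (hp : p.Prime) (h : (a : Equiv.Perm (Fin 12)) ^ p = 1) (h1 : (a : Equiv.Perm (Fin 12)) ≠ 1) :
    orderOf (Φ a) = p := by
  rw [orderOf_injective Φ Φ_inj]
  exact order_of_prime hp (Subtype.ext h) fun e => h1 (congrArg Subtype.val e)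

theorem nΦ {a b : A12} {n : ℕ} (hn : 0 < n) (h : (b : Equiv.Perm (Fin 12)) ^ n = 1)
    (h1 : ∀ i < n, (a : Equiv.Perm (Fin 12)) ≠ (b : Equiv.Perm (Fin 12)) ^ i) : Φ a ∉ zpowers (Φ b) :=
  not_mem_zpowers hn (by rw [← map_pow, show b ^ n = 1 from Subtype.ext h, map_one]) fun i hi e =>
    h1 i hi (congrArg Subtype.val (Φ_inj (e.trans (map_pow Φ b i).symm)))

theorem o5 : orderOf (Φ x5) = 5 := oΦ Nat.prime_five (by decide +kernel) (by decide +kernel)

theorem k5 : kap (Φ x5) = 1 := (kap_of_tr o5).1 (by rw [x5, Φ_wp (by decide)]; exact r5.2)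

theorem o3 : orderOf (Φ a3) = 3 := oΦ Nat.prime_three (by decide +kernel) (by decide +kernel)

theorem ty_a3 : tyH (Φ a3) = .c3A := by
  have := finG
  obtain ⟨h1, h2⟩ := ty_ord o3 (by decide)
  have h3 := dvd_one (cΦ (a := d7) (b := a3) (by decide +kernel))
  rw [oΦ (p := 7) (by norm_num) (by decide +kernel) (by decide +kernel), ← cn, ty_cn h1] at h3
  revert h2 h3
  generalize tyH (H := G) _ = t
  revert t
  decide

theorem dvd4 {g : G} (h1 : Commute (Φ v1) g) (h2 : Commute (Φ v2) g) : 4 ∣ cn g := by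
  have := finG
  have h3 := dvd_two Nat.prime_two (oΦ (a := v1) Nat.prime_two (by decide +kernel) (by decide +kernel))
    (nΦ (b := v2) (n := 2) (by decide) (by decide +kernel) (by decide +kernel)) (cΦ (by decide +kernel)) h1 h2
  rwa [oΦ (a := v2) Nat.prime_two (by decide +kernel) (by decide +kernel)] at h3

theorem s3A : Small .c3A 1 180 := by
  have := finG
  have h : Commute (Φ a3) (Φ x5) := cΦ (by decide +kernel)
  refine ⟨_, _, ty_a3, h, o5, k5, ?_⟩
  have h1 : 4 ∣ cn (Φ a3 * Φ x5) := dvd4 ((cΦ (by decide +kernel)).mul_right (cΦ (by decide +kernel)))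
    ((cΦ (by decide +kernel)).mul_right (cΦ (by decide +kernel)))
  have h2 := dvd_two (g := Φ a3 * Φ x5) Nat.prime_three
    (oΦ (a := b3) Nat.prime_three (by decide +kernel) (by decide +kernel))
    (nΦ (b := a3) (n := 3) (by decide) (by decide +kernel) (by decide +kernel)) (cΦ (by decide +kernel))
    ((cΦ (by decide +kernel)).mul_right (cΦ (by decide +kernel))) ((Commute.refl _).mul_right h)
  rw [o3] at h2
  have h3 := dvd_one (h.symm.mul_right (Commute.refl _))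
  rw [o5] at h3
  exact Nat.Coprime.mul_dvd_of_dvd_of_dvd (m := 4) (n := 45) (by norm_num) h1
    (Nat.Coprime.mul_dvd_of_dvd_of_dvd (m := 9) (n := 5) (by norm_num) h2 h3)

theorem s6A : Small .c6A 1 60 := by
  have := finG
  have h : Commute (Φ a3) (Φ x5) := cΦ (by decide +kernel)
  have h' : Commute (Φ v1) (Φ x5) := cΦ (by decide +kernel)
  have e : Commute (Φ a3) (Φ v1) := cΦ (by decide +kernel)
  have o2 := oΦ (a := v1) Nat.prime_two (by decide +kernel) (by decide +kernel)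
  have o6 : orderOf (Φ a3 * Φ v1) = 6 := by
    rw [e.orderOf_mul_eq_mul_orderOf_of_coprime (by rw [o3, o2]; decide), o3, o2]
  obtain ⟨h1, h2⟩ := ty_ord o6 (by decide)
  have h3 := dvd_one (h.mul_left h').symm
  rw [o5, ← cn, ty_cn h1] at h3
  have h4 := ty_sq h1
  rw [e.mul_pow, ← o2, pow_orderOf_eq_one, mul_one, o2, ty_sq (by rw [ty_a3]; decide), ty_a3] at h4
  refine ⟨_, _, ?_, h.mul_left h', o5, k5, ?_⟩
  · revert h2 h3 h4
    generalize tyH (H := G) _ = t
    revert t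
    decide
  · have h5 := dvd_mul o5 o6 (by decide) (Commute.refl _) (h.mul_left h') (h.mul_left h')
    have h6 : 4 ∣ cn (Φ a3 * Φ v1 * Φ x5) := dvd4 ((e.symm.mul_right (Commute.refl _)).mul_right h')
      (((cΦ (by decide +kernel)).mul_right (cΦ (by decide +kernel))).mul_right (cΦ (by decide +kernel)))
    exact Nat.lcm_dvd h5 h6

theorem s7 : ∃ r s h : G, tyH r = .c7 ∧ Commute r s ∧ orderOf s = 5 ∧ kap s = 1 ∧ 35 ∣ cn (r * s) ∧ Commute h r ∧
    h * s * h⁻¹ = s ^ 4 := by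
  have h : Commute (Φ c7) (Φ x5) := cΦ (by decide +kernel)
  have o7 := oΦ (a := c7) (p := 7) (by norm_num) (by decide +kernel) (by decide +kernel)
  refine ⟨_, _, Φ h5, ?_, h, o5, k5, dvd_mul o5 o7 (by decide) (Commute.refl _) h h, cΦ (by decide +kernel), ?_⟩
  · have h2 := (ty_ord o7 (by decide)).2
    revert h2
    generalize tyH (H := G) _ = t
    revert t
    decide
  · rw [mul_inv_eq_iff_eq_mul, ← map_pow, ← map_mul, ← map_mul]
    exact congrArg _ (Subtype.ext (by decide +kernel))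

end Cfsg.Agent.TAB.HN.SecA
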