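import Cfsg.Agent.TAB.HN.Def
import Cfsg.Agent.CpAutHNFive.Main
import Cfsg.Agent.KFacts.HN.PCard

/-!
# The table of `HN` : the sections of the class 2B (helper90, TAB)
-/

set_option autoImplicit false

namespace Cfsg.Agent.TAB.HN.SB

open Subgroup Cfsg Cfsg.Agent.TAB.HN
open Cfsg.Agent.H651.HNF (Ty tyH cn table tyH_of)
open Cfsg.Agent.CpAutHN.Tr (tr)
open Cfsg.Agent.HN.XWords (W0 W0_sq Γ gw sgn0 Q)
open Cfsg.Agent.HN.XStruct (evw evw_cons r)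
open Cfsg.Agent.KFacts.HN
open Cfsg.Agent.Lib.PackMatGroup (evG evG_cons)
open Cfsg.Agent.CpAutHN.PPFacts (isPGroup_ker mem_ker_iff)
open Cfsg.Agent.CpAutHN.LqFacts (conj_A conj_B conj_AB e1_A c0 c0_ne c0_cube)
open Cfsg.Agent.CpAutHNFive.LFive Cfsg.Agent.CpAutHNFive.PFive
open Cfsg.Agent.CpAutHNFive.TFive (order_W0)
open Cfsg.Agent.CpAutTh.RankOne (conj_of_quot exists_comm)

/-! ### the three elements -/

/-- the start of the programs -/
def pre : List Ex := [.w (gw 0), .w (gw 1), .w (gw 2), .u vA]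

theorem chk1 : chk (pre ++ [.pw (.v 3) 5, .pw (.v 4) 4]) [(5, 99)] [(4, 0)] [] = true := by decide +kernel

theorem chk2 : chk (pre ++ [.u [1, 1, 1, 3, 1], .u [3, 4, 4, 4], .pw (.pw (.v 5) 3) 3, .pw (.v 6) 4]) [(7, 99)] [(6, 8)] [] =
    true := by decide +kernel

theorem chk3 : chk (pre ++ [.u [1, 1, 1, 3, 1], .u [3, 4], .pw (.v 5) 5, .pw (.v 6) 4]) [(7, 99)] [(6, 3)] [] = true := by
  decide +kernel

theorem evG_eq (w : List ℕ) (h : ∀ i ∈ w, i < 3) : evG [Γ 0, Γ 1, Γ 2] w = evw Γ w := by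
  induction w with
  | nil => rfl
  | cons i w ih =>
    rw [evG_cons, evw_cons, ih fun j hj => h j (List.mem_cons_of_mem _ hj)]
    have hi := h i List.mem_cons_self
    interval_cases i <;> rfl

/-- over `φA c5` -/
noncomputable def gA : PP := ⟨evw Γ vA, e_mem_PP vA⟩

/-- over `e [1]` -/
noncomputable def g1 : PP := ⟨evw Γ [1], e_mem_PP [1]⟩

/-- over `φB c5` -/
noncomputable def gB : PP := g1 * (g1 * (g1 * (gA * (g1 * 1))))

theorem ρ_gA : ρ gA = φA c5 := (ρ_e vA).trans φA_c5.symm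

theorem ρ_gB : ρ gB = φB c5 := by
  have h : ρ g1 = e [1] := ρ_e [1]
  rw [gB, mul_one, map_mul, map_mul, map_mul, map_mul, h, ρ_gA, φB_apply, e_inv1,
    show ([1, 1, 1] : List ℕ) = [1] ++ ([1] ++ [1]) from rfl, e_append, e_append]
  simp only [mul_assoc]

theorem run_pre (es : List Ex) : run (pre ++ es) [] = run es [Γ 0, g1, Γ 2, gA] := by
  have h1 : (g1 : G) = Γ 1 := (evw_cons Γ 1 []).trans (mul_one _)
  have h2 : (gA : G) = evG [Γ 0, Γ 1, Γ 2] vA := (evG_eq vA (by decide)).symm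
  rw [h1, h2]
  rfl

theorem run1 (a b c d : G) : run [.pw (.v 3) 5, .pw (.v 4) 4] [a, b, c, d] = [a, b, c, d, d ^ 6, (d ^ 6) ^ 5] := rfl

theorem run2 (a b c d : G) {x y : G} (hx : x = b * (b * (b * (d * (b * 1))))) (hy : y = ((d * (x * (x * (x * 1)))) ^ 4) ^ 4) :
    run [.u [1, 1, 1, 3, 1], .u [3, 4, 4, 4], .pw (.pw (.v 5) 3) 3, .pw (.v 6) 4] [a, b, c, d] =
      [a, b, c, d, x, d * (x * (x * (x * 1))), y, y ^ 5] := by subst hy hx; rfl

theorem run3 (a b c d : G) {x y : G} (hx : x = b * (b * (b * (d * (b * 1))))) (hy : y = (d * (x * 1)) ^ 6) :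
    run [.u [1, 1, 1, 3, 1], .u [3, 4], .pw (.v 5) 5, .pw (.v 6) 4] [a, b, c, d] =
      [a, b, c, d, x, d * (x * 1), y, y ^ 5] := by subst hy hx; rfl

theorem ord5 {x : PP} (h : (x : G) ^ 5 = 1) (h1 : ρ x ≠ 1) : orderOf x = 5 :=
  have : Fact (Nat.Prime 5) := ⟨Nat.prime_five⟩
  orderOf_eq_prime (Subtype.ext h) fun e => h1 (by rw [e, map_one])

theorem AB_ne (b : A5) : φA c5 * φB b ≠ 1 := fun h =>
  c5_ne (φ2_inj (a' := 1) (b' := 1) (by rw [h, map_one, map_one, one_mul])).1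

theorem c5_mod (n : ℕ) : c5 ^ (5 * n + 1) = c5 := by rw [pow_succ, pow_mul, c5_pow, one_pow, one_mul]

theorem ex1 : ∃ x : PP, orderOf x = 5 ∧ ρ x = φA c5 ∧ kap x = 3 := by
  obtain ⟨h1, h2⟩ := chk_sound .nil chk1
  rw [run_pre, run1, ← coe_pow] at h1 h2
  have h3 : ρ (gA ^ 6) = φA c5 := by rw [map_pow, ρ_gA, ← map_pow]; exact congrArg φA (c5_mod 1)
  have h0 := h1 (5, 99) (by decide)
  have h4 := ord5 (x := gA ^ 6) h0 (by have := AB_ne 1; rwa [map_one, mul_one, ← h3] at this)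
  exact ⟨_, h4, h3, (kap_of_tr ((orderOf_coe _).trans h4)).2.2.1 (.inr (h2 (4, 0) (by decide)))⟩

theorem ex2 : ∃ x : PP, orderOf x = 5 ∧ ρ x = φA c5 * φB (c5 ^ 3) ∧ kap x = 2 := by
  obtain ⟨h1, h2⟩ := chk_sound .nil chk2
  rw [run_pre, run2 (x := gB) (y := (((gA * (gB * (gB * (gB * 1)))) ^ 4) ^ 4 : PP)) _ _ _ _ (by simp [gB]) (by simp)] at h1 h2
  have h3 : ρ (((gA * (gB * (gB * (gB * 1)))) ^ 4) ^ 4) = φA c5 * φB (c5 ^ 3) := by
    rw [← pow_mul, mul_one, map_pow, map_mul, map_mul, map_mul, ρ_gA, ρ_gB, ← map_mul, ← map_mul, pow_AB, ← pow_three,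
      ← pow_mul, mul_comm 3, pow_mul c5 (4 * 4) 3, show c5 ^ (4 * 4) = c5 from c5_mod 3]
  have h0 := h1 (7, 99) (by decide)
  have h4 := ord5 (x := ((gA * (gB * (gB * (gB * 1)))) ^ 4) ^ 4) h0 (by rw [h3]; exact AB_ne _)
  exact ⟨_, h4, h3, (kap_of_tr ((orderOf_coe _).trans h4)).2.1 (h2 (6, 8) (by decide))⟩

theorem ex3 : ∃ x : PP, orderOf x = 5 ∧ ρ x = φA c5 * φB c5 ∧ kap x = 4 := by
  obtain ⟨h1, h2⟩ := chk_sound .nil chk3
  rw [run_pre, run3 (x := gB) (y := ((gA * (gB * 1)) ^ 6 : PP)) _ _ _ _ (by simp [gB]) (by simp)] at h1 h2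
  have h3 : ρ ((gA * (gB * 1)) ^ 6) = φA c5 * φB c5 := by
    rw [mul_one, map_pow, map_mul, ρ_gA, ρ_gB, pow_AB, show c5 ^ 6 = c5 from c5_mod 1]
  have h0 := h1 (7, 99) (by decide)
  have h4 := ord5 (x := (gA * (gB * 1)) ^ 6) h0 (by rw [h3]; exact AB_ne _)
  exact ⟨_, h4, h3, (kap_of_tr ((orderOf_coe _).trans h4)).2.2.2 (h2 (6, 3) (by decide))⟩

/-! ### conjugation -/

theorem ord_conj {K : Type*} [Group K] (g x : K) : orderOf (g * x * g⁻¹) = orderOf x := MulEquiv.orderOf_eq (MulAut.conj g) x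

theorem ord_pow {K : Type*} [Group K] {x : K} (hx : orderOf x = 5) {m : ℕ} (hm : ¬ 5 ∣ m) : orderOf (x ^ m) = 5 := by
  rw [Nat.Coprime.orderOf_pow (hx ▸ (Nat.Prime.coprime_iff_not_dvd Nat.prime_five).2 hm), hx]

theorem lift {x y : PP} (hx : orderOf x = 5) (hy : orderOf y = 5) {z : Lq} (h : z * ρ x * z⁻¹ = ρ y) :
    ∃ g : PP, g * x * g⁻¹ = y := by
  obtain ⟨g, rfl⟩ := ρ_surj z
  obtain ⟨q, -, hq⟩ := conj_of_quot Nat.prime_two Nat.prime_five (by norm_num) ρ isPGroup_ker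
    ((ord_conj g x).trans hx) hy (by rw [← h, map_mul, map_mul, map_inv])
  exact ⟨q * g, by rw [← hq]; group⟩

theorem comm_W0 (x : PP) : Commute (x : G) W0 := mem_PP.1 x.2

theorem ty_W0 : tyH W0 = .c2B := tyH_of order_W0 PCard.card_centralizer

theorem exists_sw : ∃ σ : Lq, σ ∉ LL ∧ (∀ x, σ * φA x * σ⁻¹ = φB x) ∧ ∀ x, σ * φB x * σ⁻¹ = φA x := by
  obtain ⟨a, b, hab⟩ := mem_LL.1 e11_mem
  refine ⟨φB b⁻¹ * e [1], fun h => e1_notMem ((mul_mem_cancel_left (B_mem _)).1 h), fun x => ?_, fun x => ?_⟩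
  · have h1 : e [1] * φA x * (e [1])⁻¹ = φB (b * x * b⁻¹) := by
      rw [← conj_B a b x, hab, φB_apply, show ([1, 1] : List ℕ) = [1] ++ [1] from rfl, e_append]
      group
    rw [show φB b⁻¹ * e [1] * φA x * (φB b⁻¹ * e [1])⁻¹ = φB b⁻¹ * (e [1] * φA x * (e [1])⁻¹) * (φB b⁻¹)⁻¹ by group, h1,
      ← map_inv, ← map_mul, ← map_mul]
    congr 1
    group
  · rw [show φB b⁻¹ * e [1] * φB x * (φB b⁻¹ * e [1])⁻¹ = φB b⁻¹ * (e [1] * φB x * (e [1])⁻¹) * (φB b⁻¹)⁻¹ by group, e1_A,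
      ← comm_AB, mul_inv_cancel_right]

theorem swap_AB {σ : Lq} (h1 : ∀ x, σ * φA x * σ⁻¹ = φB x) (h2 : ∀ x, σ * φB x * σ⁻¹ = φA x) (a b : A5) :
    σ * (φA a * φB b) * σ⁻¹ = φA b * φB a := by
  rw [comm_AB b a, ← h1 a, ← h2 b]
  group

/-- an involution which inverts `c5` -/
theorem exists_inv : ∃ t : A5, t * t = 1 ∧ t ≠ 1 ∧ t * c5 * t⁻¹ = c5 ^ 4 := by
  have : ∃ t : Equiv.Perm (Fin 5), Equiv.Perm.sign t = 1 ∧ t * t = 1 ∧ t ≠ 1 ∧ t * p5 * t⁻¹ = p5 ^ 4 := by decide +kernel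
  obtain ⟨t, h1, h2, h3, h4⟩ := this
  exact ⟨⟨t, Equiv.Perm.mem_alternatingGroup.2 h1⟩, Subtype.ext h2, fun e => h3 (congrArg Subtype.val e), Subtype.ext h4⟩

theorem pow5 {x : PP} (h : (x : G) ^ 15625 = 1) : (x : G) ^ 5 = 1 := by
  have h1 : ρ x ^ 15625 = 1 := by rw [← map_pow, show x ^ 15625 = 1 from Subtype.ext h, map_one]
  have h2 : ρ x ∈ LL := by
    have h3 := LL.pow_mem (Subgroup.sq_mem_of_index_two index_LL (ρ x)) 7813
    rwa [← pow_mul, show 2 * 7813 = 15625 + 1 from rfl, pow_succ, h1, one_mul] at h3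
  obtain ⟨a, b, hab⟩ := mem_LL.1 h2
  obtain ⟨ha, hb⟩ := pow_coord (hab ▸ h1)
  have h3 : ∀ a : A5, a ^ 15625 = 1 → a ^ 5 = 1 := fun a ha => by
    have h4 := Nat.dvd_gcd (orderOf_dvd_of_pow_eq_one ha) (orderOf_dvd_natCard a)
    rw [nat_card_alternatingGroup, Nat.card_fin] at h4
    exact orderOf_dvd_iff_pow_eq_one.1 h4
  obtain ⟨k, hk⟩ := isPGroup_ker ⟨x ^ 5, by
    rw [MonoidHom.mem_ker, map_pow, ← hab, pow_AB, h3 a ha, h3 b hb, map_one, map_one, one_mul]⟩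
  have h4 : ((x : G) ^ 5) ^ 2 ^ k = 1 := congrArg (fun y : ρ.ker => ((y : PP) : G)) hk
  have h5 : ((x : G) ^ 5) ^ 5 ^ 5 = 1 := by rw [← pow_mul]; exact h
  exact orderOf_eq_one_iff.1 (Nat.eq_one_of_dvd_coprimes (Nat.Coprime.pow k 5 (by norm_num))
    (orderOf_dvd_of_pow_eq_one h4) (orderOf_dvd_of_pow_eq_one h5))

theorem classify (hk : KapPow) {x₁ x₂ x₃ : PP} (o1 : orderOf x₁ = 5) (o2 : orderOf x₂ = 5) (o3 : orderOf x₃ = 5)
    (r1 : ρ x₁ = φA c5) (r2 : ρ x₂ = φA c5 * φB (c5 ^ 3)) (r3 : ρ x₃ = φA c5 * φB c5) {s : G} (hc : Commute W0 s)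
    (ho : orderOf s = 5) : ∃ x : PP, (x = x₁ ∨ x = x₂ ∨ x = x₃) ∧ kap s = kap x ∧
      ∃ (g : G) (m : ℕ), Commute g W0 ∧ g * (x : G) ^ m * g⁻¹ = s := by
  have h0 : orderOf (⟨s, mem_PP.2 hc.symm⟩ : PP) = 5 := (orderOf_mk _ _).trans ho
  obtain ⟨g, m, m1, m2, h⟩ := conj_std h0
  have m3 : ¬ 5 ∣ m := by omega
  have h1 := (ord_conj g _).trans (ord_pow h0 m3)
  have key : ∀ x : PP, orderOf x = 5 → ρ (g * (⟨s, mem_PP.2 hc.symm⟩ : PP) ^ m * g⁻¹) = ρ x → kap s = kap x ∧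
      ∃ (g : G) (m : ℕ), Commute g W0 ∧ g * (x : G) ^ m * g⁻¹ = s := fun x hx e => by
    obtain ⟨q, hq⟩ := lift hx h1 (z := 1) (by rw [one_mul, inv_one, mul_one, e])
    have h2 : ((g⁻¹ * q : PP) : G) * x * ((g⁻¹ * q : PP) : G)⁻¹ = s ^ m := by
      have h3 : (q : G) * x * (q : G)⁻¹ = g * s ^ m * (g : G)⁻¹ := congrArg Subtype.val hq
      rw [coe_mul, coe_inv, show (g : G)⁻¹ * q * x * ((g : G)⁻¹ * q)⁻¹ = (g : G)⁻¹ * (q * x * (q : G)⁻¹) * g by group, h3]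
      group
    refine ⟨by rw [← hk s m ho m3, kap_conj (isConj_iff.2 ⟨_, h2⟩)], _, m ^ 3, comm_W0 (g⁻¹ * q), ?_⟩
    rw [← conj_pow, h2, ← pow_mul, ← pow_mod_orderOf, ho]
    interval_cases m <;> exact pow_one s
  rcases h with h | h | h
  · exact ⟨x₁, .inl rfl, key _ o1 (h.trans r1.symm)⟩
  · exact ⟨x₃, .inr (.inr rfl), key _ o3 (h.trans r3.symm)⟩
  · exact ⟨x₂, .inr (.inl rfl), key _ o2 (h.trans r2.symm)⟩

/-! ### centralizers -/

/-- the restriction of `ρ` to the centralizer -/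
noncomputable def fK (x : PP) : centralizer ({x} : Set PP) →* Lq := ρ.comp (Subgroup.subtype _)

theorem mem_rg {x : PP} (hx : orderOf x = 5) {z : Lq} (h : z * ρ x = ρ x * z) : z ∈ (fK x).range := by
  obtain ⟨g, rfl⟩ := ρ_surj z
  obtain ⟨q, hq, hqg⟩ := exists_comm Nat.prime_two Nat.prime_five (by norm_num) ρ isPGroup_ker hx h
  refine ⟨⟨q * g, mem_centralizer_singleton_iff.2 hqg⟩, ?_⟩
  change ρ (q * g) = ρ g
  rw [map_mul, MonoidHom.mem_ker.1 hq, one_mul]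

theorem dvd_cn {x : PP} {a b : ℕ} (ha : a ∣ Nat.card (fK x).ker) (hb : b ∣ Nat.card (fK x).range) : a * b ∣ cn (W0 * x) := by
  have h1 : Nat.card (centralizer ({x} : Set PP)) = Nat.card (fK x).ker * Nat.card (fK x).range := by
    rw [← (fK x).ker.card_mul_index, Subgroup.index_ker]
  refine (h1 ▸ Nat.mul_dvd_mul ha hb).trans ?_
  rw [← card_map_of_injective PP.subtype_injective]
  refine card_dvd_of_le ?_
  rintro _ ⟨u, hu, rfl⟩
  exact mem_centralizer_singleton_iff.2 ((comm_W0 u).mul_right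
    (congrArg Subtype.val (mem_centralizer_singleton_iff.1 hu) : Commute (u : G) x))

theorem ρ_W0 : ρ ⟨W0, W0_mem_PP⟩ = 1 := mem_ker_iff.2 ⟨0, by norm_num, true, (one_mul _).symm⟩

theorem two_dvd (x : PP) : 2 ∣ Nat.card (fK x).ker := by
  have h := orderOf_dvd_natCard (⟨⟨⟨W0, W0_mem_PP⟩, mem_centralizer_singleton_iff.2 (Subtype.ext (comm_W0 x).symm)⟩,
    ρ_W0⟩ : (fK x).ker)
  rwa [← orderOf_coe, ← orderOf_coe, ← orderOf_coe, show orderOf _ = 2 from order_W0] at h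

theorem prod_dvd {J : Subgroup Lq} {C D : Subgroup A5} (h : ∀ a ∈ C, ∀ b ∈ D, φA a * φB b ∈ J) :
    Nat.card C * Nat.card D ∣ Nat.card J := by
  have hinj : Function.Injective φ2 := by
    rintro ⟨a, b⟩ ⟨a', b'⟩ h
    obtain ⟨h1, h2⟩ := φ2_inj h
    exact Prod.ext h1 h2
  rw [← Nat.card_prod, ← Nat.card_congr (prodEquiv C D).toEquiv, ← card_map_of_injective hinj]
  refine card_dvd_of_le ?_
  rintro _ ⟨⟨a, b⟩, ⟨ha, hb⟩, rfl⟩
  exact h a ha b hb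

theorem comm_of_coord {a b a' b' : A5} (ha : Commute a a') (hb : Commute b b') :
    φA a * φB b * (φA a' * φB b') = φA a' * φB b' * (φA a * φB b) := by
  rw [← mul_inv_eq_iff_eq_mul, conj_AB, ha.eq, hb.eq, mul_inv_cancel_right, mul_inv_cancel_right]

theorem comm_zp {a : A5} (ha : a ∈ zpowers c5) (n : ℕ) : Commute a (c5 ^ n) := by
  obtain ⟨k, rfl⟩ := ha
  exact ((Commute.refl c5).zpow_left k).pow_right n

theorem dvd25 {x : PP} (hx : orderOf x = 5) {n : ℕ} (h : ρ x = φA c5 * φB (c5 ^ n)) : 25 ∣ Nat.card (fK x).range := by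
  have h1 := prod_dvd (C := zpowers c5) (D := zpowers c5) fun a ha b hb => mem_rg hx (by
    rw [h]; exact comm_of_coord (by simpa using comm_zp ha 1) (comm_zp hb n))
  rwa [Nat.card_zpowers, c5_order] at h1

theorem cn1 {x : PP} (hx : orderOf x = 5) (h : ρ x = φA c5) : 600 ∣ cn (W0 * x) := by
  have h1 := prod_dvd (C := zpowers c5) (D := ⊤) fun a ha b _ => mem_rg hx (by
    rw [h, ← mul_one (φA c5), ← map_one φB]; exact comm_of_coord (by simpa using comm_zp ha 1) (Commute.one_right b))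
  rw [Nat.card_zpowers, c5_order, card_top, nat_card_alternatingGroup, Nat.card_fin] at h1
  exact dvd_cn (two_dvd x) h1

theorem cn3 {x : PP} (hx : orderOf x = 5) (h : ρ x = φA c5 * φB c5) : 100 ∣ cn (W0 * x) := by
  obtain ⟨σ, h1, h2, h3⟩ := exists_sw
  have h4 : σ ∈ (fK x).range := mem_rg hx (by rw [h, ← mul_inv_eq_iff_eq_mul, swap_AB h2 h3])
  have : LL.Normal := Subgroup.normal_of_index_eq_two index_LL
  have h5 : 2 ∣ Nat.card (fK x).range := by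
    rcases (Nat.dvd_prime Nat.prime_two).1 (index_LL ▸ relIndex_dvd_index_of_normal LL (fK x).range) with h6 | h6
    · exact (h1 (relIndex_eq_one.1 h6 h4)).elim
    · exact h6 ▸ relIndex_dvd_card _ _
  exact dvd_cn (two_dvd x) (Nat.Coprime.mul_dvd_of_dvd_of_dvd (by norm_num) h5 (dvd25 hx (n := 1) (by rw [h, pow_one])))

theorem cn2 {x : PP} (hx : orderOf x = 5) (h : ρ x = φA c5 * φB (c5 ^ 3)) : 800 ∣ cn (W0 * x) := by
  have h5 : x ^ 5 = 1 := by rw [← hx, pow_orderOf_eq_one]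
  have h1 : IsPGroup 2 (fK x).ker := fun u => by
    obtain ⟨k, hk⟩ := isPGroup_ker ⟨(u : centralizer ({x} : Set PP)), u.2⟩
    have h1 := congrArg Subtype.val hk
    exact ⟨k, Subtype.ext (Subtype.ext h1)⟩
  have : Fact (Nat.Prime 2) := ⟨Nat.prime_two⟩
  obtain ⟨n, hn⟩ := IsPGroup.iff_card.1 h1
  have h2 : ∀ i : Fin fixC.length, fixC.get i < 256 := fun i => (mem_fixC.1 (List.get_mem _ _)).1
  have h3 := Nat.card_le_card_of_injective (β := (fK x).ker) (fun i : Fin fixC.length × Bool =>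
    ⟨⟨⟨r Q (fixC.get i.1) * sgn0 i.2, mul_mem (r_mem_PP _) (sgn_mem_PP _)⟩, mem_centralizer_singleton_iff.2 (Subtype.ext
      (Commute.mul_left (comm_of_fix h5 h (List.get_mem _ _)) (by
        rcases CpAutHN.PPFacts.sgn0_cases i.2 with e | e <;> rw [e]
        · exact Commute.one_left _
        · exact (comm_W0 x).symm)))⟩, mem_ker_iff.2 ⟨_, h2 _, _, rfl⟩⟩) fun i j e => by
    obtain ⟨h3, h4⟩ := r_sgn_inj (h2 _) (h2 _) (congrArg (fun y : (fK x).ker => (((y : centralizer ({x} : Set PP)) : PP) : G)) e)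
    exact Prod.ext ((List.nodup_range.filter _).get_inj_iff.1 h3) h4
  rw [Nat.card_prod, Nat.card_fin, length_fixC, Nat.card_eq_fintype_card, Fintype.card_bool, hn] at h3
  exact dvd_cn (a := 2 ^ 5) (by rw [hn]; exact pow_dvd_pow 2 ((Nat.pow_le_pow_iff_right (by norm_num : 1 < 2)).1 h3))
    (dvd25 hx h)

/-! ### the small sections -/

theorem over_B {x : PP} (hx : orderOf x = 5) (h : ρ x = φA c5) (b : A5) : ∃ v : PP, ρ v = φB b ∧ Commute v x := by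
  obtain ⟨v, hv⟩ := mem_rg hx (z := φB b) (by rw [h, comm_AB])
  exact ⟨v, hv, mem_centralizer_singleton_iff.1 v.2⟩

theorem ord_dvd_cn {a b : G} (h : Commute a b) : orderOf a ∣ cn b := H651.HNF.cn_dvd_of_comm h.symm

theorem ty_row {g : G} {n : ℕ} (h : orderOf g = n) (h5 : ¬ 5 ∣ n) : tyH g ≠ .sing ∧ (tyH g).ord = n :=
  have h1 : tyH g ≠ .sing := fun e => h5 (h ▸ (table.sing g).1 e)
  ⟨h1, (table.ord g h1).symm.trans h⟩

theorem small6 {x : PP} (hx : orderOf x = 5) (h : ρ x = φA c5) (hk : kap x = 3) : Small .c3B 3 30 ∧ Small .c6C 3 30 := by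
  obtain ⟨v, v1, v2⟩ := over_B hx h c0
  have h1 : (v : G) ^ 6 = 1 := by
    rcases eq_of_ker (v := v ^ 3) (h.trans φA_c5) (fun m hm h => fix_A hm h)
      (by rw [map_pow, v1, ← map_pow, c0_cube, map_one]) (v2.pow_left 3) with e | e
    · rw [show 6 = 3 * 2 from rfl, pow_mul, ← coe_pow, e, one_pow]
    · rw [show 6 = 3 * 2 from rfl, pow_mul, ← coe_pow, e, pow_two, W0_sq]
  have : Fact (Nat.Prime 3) := ⟨Nat.prime_three⟩
  have h2 : orderOf ((v : G) ^ 4) = 3 := orderOf_eq_prime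
    (by rw [← pow_mul, show 4 * 3 = 6 * 2 from rfl, pow_mul, h1, one_pow]) fun e => c0_ne (φB_inj (by
      have h3 : ρ (v ^ 4) = 1 := by rw [show v ^ 4 = 1 from Subtype.ext e, map_one]
      rwa [map_pow, v1, ← map_pow, pow_succ, c0_cube, one_mul, ← map_one φB] at h3))
  have hx' : orderOf (x : G) = 5 := (orderOf_coe _).trans hx
  have c1 : Commute W0 ((v : G) ^ 4) := (comm_W0 v).symm.pow_right 4
  have c2 : Commute (W0 * (v : G) ^ 4) x :=
    (comm_W0 x).symm.mul_left (Commute.pow_left (congrArg Subtype.val v2.eq : Commute (v : G) x) 4)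
  have h3 : orderOf (W0 * (v : G) ^ 4) = 6 := by
    rw [c1.orderOf_mul_eq_mul_orderOf_of_coprime (by rw [order_W0, h2]; norm_num), order_W0, h2]
  have h4 : orderOf (W0 * (v : G) ^ 4 * x) = 30 := by
    rw [c2.orderOf_mul_eq_mul_orderOf_of_coprime (by rw [h3, hx']; norm_num), h3, hx']
  obtain ⟨t1, t2⟩ := ty_row h3 (by norm_num)
  have t3 := table.pow _ 3 Nat.prime_three t1
  rw [c1.mul_pow, ← h2, pow_orderOf_eq_one, h2, mul_one, pow_succ, pow_two, W0_sq, one_mul, ty_W0] at t3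
  have t4 : 5 ∣ (tyH (W0 * (v : G) ^ 4)).cen := table.cent _ t1 ▸ hx' ▸ ord_dvd_cn c2.symm
  have t5 : tyH (W0 * (v : G) ^ 4) = .c6C :=
    (by decide +kernel : ∀ t : Ty, t.ord = 6 → Ty.c2B = t.pw 3 → 5 ∣ t.cen → t = .c6C) _ t2 t3 t4
  refine ⟨⟨_, x, (table.pow _ 2 Nat.prime_two t1).trans (by rw [t5]; rfl), c2.pow_left 2, hx', hk, ?_⟩,
    _, x, t5, c2, hx', hk, h4 ▸ ord_dvd_cn (Commute.refl _)⟩
  rw [← h4]
  exact ord_dvd_cn ((((Commute.refl _).pow_right 2).mul_right c2).mul_left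
    ((c2.symm.pow_right 2).mul_right (Commute.refl _)))

theorem small4 {x : PP} (hx : orderOf x = 5) (h : ρ x = φA c5) (hk : kap x = 3) : Small .c4A 3 20 ∨ Small .c4C 3 20 := by
  obtain ⟨t, t1, t2, -⟩ := exists_inv
  obtain ⟨v, v1, v2⟩ := over_B hx h t
  have h0 : ρ v ≠ 1 := fun e => t2 (φB_inj (by rw [← v1, e, map_one]))
  have h1 : (v : G) ^ 2 = W0 := by
    rcases eq_of_ker (v := v ^ 2) (h.trans φA_c5) (fun m hm h => fix_A hm h)
      (by rw [map_pow, v1, ← map_pow, pow_two, t1, map_one]) (v2.pow_left 2) with e | e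
    · rcases only_one h (by rw [← pow_two]; exact e) v2 with e' | e'
      · exact (h0 (by rw [show v = 1 from Subtype.ext e', map_one])).elim
      · exact (h0 (by rw [show v = ⟨W0, W0_mem_PP⟩ from Subtype.ext e', ρ_W0])).elim
    · exact e
  have : Fact (Nat.Prime 2) := ⟨Nat.prime_two⟩
  have h2 : orderOf (v : G) = 4 := orderOf_eq_prime_pow (p := 2) (n := 1) (by rw [pow_one, h1]; exact W0_ne)
    (by rw [pow_succ, pow_one, pow_mul, h1, pow_two, W0_sq])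
  have hx' : orderOf (x : G) = 5 := (orderOf_coe _).trans hx
  have c2 : Commute (v : G) x := congrArg Subtype.val v2.eq
  have h4 : orderOf ((v : G) * x) = 20 := by
    rw [c2.orderOf_mul_eq_mul_orderOf_of_coprime (by rw [h2, hx']; norm_num), h2, hx']
  obtain ⟨a1, a2⟩ := ty_row h2 (by norm_num)
  have a3 := table.pow _ 2 Nat.prime_two a1
  rw [h1, ty_W0] at a3
  exact ((by decide +kernel : ∀ t : Ty, t.ord = 4 → Ty.c2B = t.pw 2 → t = .c4A ∨ t = .c4C) _ a2 a3).imp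
    (fun e => ⟨_, x, e, c2, hx', hk, h4 ▸ ord_dvd_cn (Commute.refl _)⟩)
    fun e => ⟨_, x, e, c2, hx', hk, h4 ▸ ord_dvd_cn (Commute.refl _)⟩

end Cfsg.Agent.TAB.HN.SB

namespace Cfsg.Agent.TAB.HN

open SB Subgroup
open Cfsg.Agent.HN.XWords (W0)
open Cfsg.Agent.KFacts.HN
open Cfsg.Agent.CpAutHN.LqFacts (conj_A conj_AB)
open Cfsg.Agent.CpAutHNFive.LFive

/-- **the sections of the class 2B** -/
theorem secB (hk : KapPow) : SecB := by
  obtain ⟨x₁, o1, r1, k1⟩ := ex1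
  obtain ⟨x₂, o2, r2, k2⟩ := ex2
  obtain ⟨x₃, o3, r3, k3⟩ := ex3
  have cl := fun s => classify hk o1 o2 o3 r1 r2 r3 (s := s)
  have cell : ∀ (x : PP) (k n e : ℕ), orderOf x = 5 → kap x = k → n ∣ H651.HNF.cn (W0 * x) → ¬ 5 ∣ e →
      (∃ z : Lq, z * ρ x * z⁻¹ = ρ x ^ e) → (∀ y : PP, y = x₁ ∨ y = x₂ ∨ y = x₃ → kap y = k → y = x) → Cell .c2B k n e :=
    fun x k n e a1 a2 a3 a4 ⟨z, a5⟩ a6 => by
      obtain ⟨g, hg⟩ := lift a1 (ord_pow a1 a4) (a5.trans (map_pow ρ x e).symm)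
      refine ⟨W0, x, g, ty_W0, (comm_W0 x).symm, (orderOf_coe _).trans a1, a2, a3, comm_W0 g, congrArg Subtype.val hg,
        fun s h1 h2 h3 => ?_⟩
      obtain ⟨y, y1, y2, y3⟩ := cl s h1 h2
      exact a6 y y1 (y2.symm.trans h3) ▸ y3
  obtain ⟨t, -, -, ht⟩ := exists_inv
  obtain ⟨s3, s6⟩ := small6 o1 r1 k1
  refine ⟨⟨W0, ty_W0, fun s h1 h2 => ?_⟩, cell x₂ _ _ _ o2 k2 (cn2 o2 r2) (by norm_num) ?_ ?_,
    cell x₁ _ _ _ o1 k1 (cn1 o1 r1) (by norm_num) ⟨φA t * φB 1, by rw [r1, conj_A, ht, map_pow]⟩ ?_,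
    cell x₃ _ _ _ o3 k3 (cn3 o3 r3) (by norm_num) ⟨φA t * φB t, by rw [r3, conj_AB, ht, pow_AB]⟩ ?_,
    s3, s6, small4 o1 r1 k1⟩
  · refine or_iff_not_imp_left.2 fun h3 => ?_
    have : Fact (Nat.Prime 5) := ⟨Nat.prime_five⟩
    have h4 : orderOf s = 5 := orderOf_eq_prime (pow5 (x := ⟨s, mem_PP.2 h1.symm⟩) h2) h3
    obtain ⟨y, rfl | rfl | rfl, y2, -⟩ := cl s h1 h4 <;> refine ⟨h4, ?_⟩ <;> rw [y2]
    · rw [k1]; decide
    · rw [k2]; decide
    · rw [k3]; decide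
  · obtain ⟨σ, -, h2, h3⟩ := exists_sw
    refine ⟨φA t * φB 1 * σ, ?_⟩
    rw [r2, show φA t * φB 1 * σ * (φA c5 * φB (c5 ^ 3)) * (φA t * φB 1 * σ)⁻¹ =
      φA t * φB 1 * (σ * (φA c5 * φB (c5 ^ 3)) * σ⁻¹) * (φA t * φB 1)⁻¹ by group, swap_AB h2 h3, conj_AB, ← conj_pow, ht,
      pow_AB, ← pow_mul, ← pow_mul, one_mul, inv_one, mul_one, show c5 ^ (3 * 2) = c5 from c5_mod 1,
      show 4 * 3 = 5 * 2 + 2 from rfl, pow_add, pow_mul, c5_pow, one_pow, one_mul]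
  all_goals rintro y (rfl | rfl | rfl) hy <;> first | rfl | omega

end Cfsg.Agent.TAB.HN
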