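import Cfsg.Agent.TAB.HN.Tl

/-!
# The table of `HN` : relations and traces for the sections (helper54, TAB)
-/

set_option autoImplicit false
set_option maxRecDepth 100000

namespace Cfsg.Agent.TAB.HN.SecA

open Cfsg Cfsg.Agent.TAB.HN Cfsg.Agent.TAB.HN.Five
open Cfsg.Agent.CpAutHN.Tr (tr tr_conj ew)
open Cfsg.Agent.Lib.PackMat Cfsg.Agent.Lib.PackMatGroup Cfsg.Agent.Lib.PackMatMul Cfsg.Agent.HN.RepData
open Cfsg.Agent.HN.XWords (V)
open Cfsg.Agent.H839.Rad.HN (W A B C₁ D F k τ Gi)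
open Cfsg.Agent.CpAutHNFive.HTab (w1 w2 w3)
open Cfsg.Agent.HN.A12Group (e rho_e)
open Cfsg.Agent.HN.A12Step (L20)

/-- 11 `X`, 14 `t₁`, 15 `t₄`, 17 `t₁ k` -/
def p3 : List Ex := [.u [1, 1, 2, 2, 2, 3, 3, 3, 3, 4, 5], .u [11, 11], .u [12, 12], .u [11, 8, 13], .u [13, 8, 11],
  .u [14, 14], .u [14, 9], .u [9, 14], .u [15, 9], .u [9, 15], .u [17, 15, 17], .u [17, 17], .u [9, 9], .u [23, 9],
  .u [23, 23]]

theorem c3 : chk p3 [(16, 99), (17, 18), (19, 20), (21, 15), (25, 99)] [(14, 21), (9, 5), (23, 5), (24, 5), (22, 5)]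
    L5 = true := by decide +kernel

/-- an element of order 5 which commutes with `W` and `k ^ 2` -/
noncomputable def X : G := A * A * B * B * B * C₁ * C₁ * C₁ * C₁ * D * F

/-- an involution -/
noncomputable def t1 : G := X * τ * X ^ 4

/-- an involution -/
noncomputable def t4 : G := X ^ 4 * τ * X

theorem r3 : t1 ^ 2 = 1 ∧ t1 * k = k * t1 ∧ t4 * k = k * t4 ∧ t1 * k * t4 * (t1 * k) = t4 ∧ k ^ 4 = 1 ∧
    tr t1 = 21 ∧ tr k = 5 ∧ tr (k ^ 2) = 5 ∧ tr (k ^ 3) = 5 ∧ tr ((t1 * k) ^ 2) = 5 := by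
  obtain ⟨h1, h2⟩ := chk_sound cd5 c3
  simp only [List.forall_mem_cons, List.not_mem_nil, false_imp_iff, implies_true, and_true, p3, E5, run, Ex.ev,
    List.cons_append, List.nil_append, List.getD_cons_succ, List.getD_cons_zero, List.getD_nil, evG_cons, evG_nil,
    mul_one] at h1 h2
  simp only [X, t1, t4, pow_succ, pow_zero, one_mul, mul_assoc] at h1 h2 ⊢
  exact ⟨h1.1, h1.2.1, h1.2.2.1, h1.2.2.2.1, h1.2.2.2.2, h2.1, h2.2.1, h2.2.2.1, h2.2.2.2.1, h2.2.2.2.2⟩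

/-- powers of an element of order 20 and of an element of order 8 -/
def p4 : List Ex := [.pw (.v 6) 3, .pw (.v 6) 4, .pw (.v 12) 1, .pw (.v 13) 1, .w [3, 3, 4, 0, 6], .pw (.v 15) 1,
  .pw (.v 16) 1, .pw (.v 17) 1, .w w2, .w w3]

theorem c4 : chk p4 [(14, 99), (18, 99)] [(11, 0), (12, 28), (13, 5), (16, 5), (17, 5), (19, 24), (20, 3)] L5 = true := by
  decide +kernel

theorem r4 : ((H839.Rad.HN.G ^ 5) ^ 2) ^ 2 = 1 ∧ ((V [3, 3, 4, 0, 6] ^ 2) ^ 2) ^ 2 = 1 ∧ tr (H839.Rad.HN.G ^ 4) = 0 ∧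
    tr (H839.Rad.HN.G ^ 5) = 28 ∧ tr ((H839.Rad.HN.G ^ 5) ^ 2) = 5 ∧ tr (V [3, 3, 4, 0, 6] ^ 2) = 5 ∧
    tr ((V [3, 3, 4, 0, 6] ^ 2) ^ 2) = 5 ∧ tr (V w2) = 24 ∧ tr (V w3) = 3 := by
  obtain ⟨h1, h2⟩ := chk_sound cd5 c4
  simp only [List.forall_mem_cons, List.not_mem_nil, false_imp_iff, implies_true, and_true, p4, E5, run, Ex.ev,
    List.cons_append, List.nil_append, List.getD_cons_succ, List.getD_cons_zero, List.getD_nil] at h1 h2
  exact ⟨h1.1, h1.2, h2.1, h2.2.1, h2.2.2.1, h2.2.2.2.1, h2.2.2.2.2.1, h2.2.2.2.2.2.1, h2.2.2.2.2.2.2⟩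

theorem cdE (i : ℕ) : Cd (e i) (get L20 (9 - i)) := by
  unfold Cd
  rw [rho_e]
  exact codesR_get HN.A12.results (lt_of_le_of_lt (Nat.sub_le 9 i) (by decide))

theorem c5 : chk [.w w1, .u [0, 1, 2]] [] [(3, 8), (4, 24)] [get L20 9, get L20 8, get L20 7] = true := by
  decide +kernel

theorem r5 : tr (V w1) = 8 ∧ tr (ew [0, 1, 2]) = 24 := by
  have h := (chk_sound (.cons (cdE 0) (.cons (cdE 1) (.cons (cdE 2) .nil))) c5).2
  simp only [List.forall_mem_cons, List.not_mem_nil, false_imp_iff, implies_true, and_true, run, Ex.ev,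
    List.cons_append, List.nil_append, List.getD_cons_succ, List.getD_cons_zero, evG_cons, evG_nil] at h
  simp only [ew, List.map_cons, List.map_nil, List.prod_cons, List.prod_nil]
  exact h

end Cfsg.Agent.TAB.HN.SecA
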