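import Cfsg.Agent.TAB.HN.SeedC

/-!
# The table of `HN` : one element of each type with the traces of its twists (helper96, TAB)
-/

set_option autoImplicit false
set_option maxRecDepth 100000

namespace Cfsg.Agent.TAB.HN.Seed

open Cfsg Cfsg.Agent.TAB.Eng

variable {H : Type} [Group H] {T : TD H dat} {t : H → ZMod 31}

/-- the hypotheses, for an abstract group -/
structure Ab (T : TD H dat) (t : H → ZMod 31) : Prop where
  mass : T.Mass
  conj : ∀ a b, IsConj a b → t a = t b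
  tw : ∀ g g', T.ty g = T.ty g' → T.ty g ≠ 32 → ∃ i, IsConj (g ^ KK ^ i) g'
  four : ∀ g : H, IsConj (g ^ KK ^ 4) g
  one : ∀ g, T.ty g ∈ [8, 9, 11, 19, 20, 21, 23] → IsConj (g ^ KK) g
  cyc : ∀ l ∈ ls, ∃ x : H, Cyc t x l

theorem Cyc.val {x : H} {l : List ℕ} (h : Cyc t x l) (hl : 0 < l.length) (k : ℕ) :
    t (x ^ k) = (l.getD (k % l.length) 0 : ZMod 31) := by
  rw [← h.2 _ (Nat.mod_lt k hl), ← pow_eq_pow_mod k h.1]

theorem Cyc.ord {x : H} {l : List ℕ} (h : Cyc t x l) (hl : 0 < l.length)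
    (h9 : ∀ k < l.length, 0 < k → l.getD k 0 % 31 ≠ l.getD 0 0 % 31) : orderOf x = l.length := by
  rw [orderOf_eq_iff hl]
  refine ⟨h.1, fun m hm h0 e => h9 m hm h0 ?_⟩
  rw [← ZMod.natCast_eq_natCast_iff', ← h.2 m hm, ← h.2 0 hl, e, pow_zero]

/-- all elements of the type `p.1` have the value `p.2` -/
def TrS (T : TD H dat) (t : H → ZMod 31) (p : ℕ × ℕ) : Prop := ∀ g, T.ty g = p.1 → t g = (p.2 : ZMod 31)

/-- the type of `x`, by exclusion -/
theorem Cyc.ty {x : H} {l : List ℕ} (h : Cyc t x l) {E : List (ℕ × ℕ)} (hE : ∀ p ∈ E, TrS T t p) (u : ℕ)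
    (hc : 0 < l.length ∧ (∀ k < l.length, 0 < k → l.getD k 0 % 31 ≠ l.getD 0 0 % 31) ∧
      ∀ v < 43, dat.ord v = l.length → v = u ∨ ∃ p ∈ E, ∃ k < l.length, dat.pwf v k = p.1 ∧ l.getD k 0 % 31 ≠ p.2 % 31) :
    T.ty x = u := by
  obtain ⟨h1, h2, h3⟩ := hc
  rcases h3 (T.ty x) (T.lt x) (by rw [← T.ord, h.ord h1 h2]) with e | ⟨p, hp, k, hk, e1, e2⟩
  · exact e
  · exfalso
    apply e2
    rw [← ZMod.natCast_eq_natCast_iff', ← h.2 k hk]
    exact hE p hp _ (by rw [T.pow, e1])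

/-- the value on the type of `x ^ k` -/
theorem Ab.trS (A : Ab T t) {x : H} {l : List ℕ} (h : Cyc t x l) {u : ℕ} (hu : T.ty x = u) (k : ℕ) (p : ℕ × ℕ)
    (hc : 0 < l.length ∧ Nat.Coprime KK l.length ∧ dat.pwf u k = p.1 ∧ p.1 ≠ 32 ∧
      ∀ j < l.length, Nat.Coprime j l.length → l.getD (k * j % l.length) 0 % 31 = p.2 % 31) : TrS T t p := by
  obtain ⟨h1, h2, h3, h4, h5⟩ := hc
  intro g hg
  have e1 : T.ty (x ^ k) = p.1 := by rw [T.pow, hu, h3]
  obtain ⟨i, hi⟩ := A.tw (x ^ k) g (e1.trans hg.symm) (by rw [e1]; exact h4)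
  rw [← A.conj _ _ hi, ← pow_mul, h.val h1, ZMod.natCast_eq_natCast_iff', ← Nat.mul_mod_mod]
  refine h5 _ (Nat.mod_lt _ h1) ?_
  have h6 : Nat.Coprime (KK ^ i) l.length := h2.pow_left i
  unfold Nat.Coprime at h6 ⊢
  rw [← h6, Nat.gcd_comm (KK ^ i), Nat.gcd_rec l.length]

/-- an element of the type `u` with the expected sum of the traces of the twists -/
def Val (T : TD H dat) (t : H → ZMod 31) (u : ℕ) : Prop :=
  ∃ g, T.ty g = u ∧ t g + t (g ^ KK) + t (g ^ KK ^ 2) + t (g ^ KK ^ 3) = ((2 * nth vRow u : ℤ) : ZMod 31)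

theorem Cyc.vals {x : H} {l : List ℕ} (h : Cyc t x l) {u : ℕ} (hu : T.ty x = u)
    (hc : 0 < l.length ∧ ∀ k < dat.ord u, ((l.getD (k % l.length) 0 + l.getD (k * KK % l.length) 0 +
      l.getD (k * KK ^ 2 % l.length) 0 + l.getD (k * KK ^ 3 % l.length) 0 : ℕ) : ℤ) % 31 = 2 * nth vRow (dat.pwf u k) % 31) :
    ∀ k < dat.ord u, Val T t (dat.pwf u k) := by
  intro k hk
  refine ⟨x ^ k, by rw [T.pow, hu], ?_⟩
  have h1 := (ZMod.intCast_eq_intCast_iff' _ _ 31).2 (hc.2 k hk)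
  rw [← h1, ← pow_mul, ← pow_mul, ← pow_mul, h.val hc.1, h.val hc.1, h.val hc.1, h.val hc.1]
  push_cast
  rfl

theorem cover : ∀ u < 43, nth vRow u = 0 ∨
    ∃ v ∈ [42, 38, 37, 18, 40, 39, 35, 17, 26, 27, 23, 19], ∃ k < dat.ord v, dat.pwf v k = u := by decide +kernel

/-- **the representatives** -/
theorem Ab.vals (A : Ab T t) : (∀ u < 43, nth vRow u = 0 ∨ Val T t u) ∧ ∃ g, T.ty g ≠ 32 ∧ t (g ^ KK) ≠ t g := by
  obtain ⟨x42, h42⟩ := A.cyc l42 (by decide)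
  obtain ⟨x38, h38⟩ := A.cyc l38 (by decide)
  obtain ⟨x37, h37⟩ := A.cyc l37 (by decide)
  obtain ⟨x18, h18⟩ := A.cyc l18 (by decide)
  obtain ⟨x40, h40⟩ := A.cyc l40 (by decide)
  obtain ⟨x39, h39⟩ := A.cyc l39 (by decide)
  obtain ⟨x35, h35⟩ := A.cyc l35 (by decide)
  obtain ⟨x17, h17⟩ := A.cyc l17 (by decide)
  obtain ⟨x26, h26⟩ := A.cyc l26 (by decide)
  obtain ⟨x27, h27⟩ := A.cyc l27 (by decide)
  obtain ⟨x23, h23⟩ := A.cyc l23 (by decide)
  obtain ⟨x19, h19⟩ := A.cyc l19 (by decide)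
  have n0 : ∀ p ∈ ([] : List (ℕ × ℕ)), TrS T t p := fun p hp => absurd hp List.not_mem_nil
  have t42 := h42.ty n0 42 (by decide +kernel)
  have t38 := h38.ty n0 38 (by decide +kernel)
  have t37 := h37.ty n0 37 (by decide +kernel)
  have t18 := h18.ty n0 18 (by decide +kernel)
  have n1 : ∀ p ∈ [(1, 21), (8, 24), (9, 8), (4, 29)], TrS T t p :=
    List.forall_mem_cons.2 ⟨A.trS h42 t42 20 _ (by decide +kernel), List.forall_mem_cons.2
      ⟨A.trS h42 t42 8 _ (by decide +kernel), List.forall_mem_cons.2 ⟨A.trS h38 t38 5 _ (by decide +kernel),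
        List.forall_mem_singleton.2 (A.trS h18 t18 3 _ (by decide +kernel))⟩⟩⟩
  have t40 := h40.ty n1 40 (by decide +kernel)
  have t35 := h35.ty n1 35 (by decide +kernel)
  have t17 := h17.ty n1 17 (by decide +kernel)
  have t27 := h27.ty n1 27 (by decide +kernel)
  have n2 : ∀ p ∈ [(2, 5), (1, 21), (8, 24), (9, 8), (4, 29)], TrS T t p :=
    List.forall_mem_cons.2 ⟨A.trS h40 t40 15 _ (by decide +kernel), n1⟩
  have t39 := h39.ty n2 39 (by decide +kernel)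
  have t26 := h26.ty n2 26 (by decide +kernel)
  have t23 := h23.ty n2 23 (by decide +kernel)
  have n3 : ∀ p ∈ [(11, 3), (2, 5), (1, 21), (8, 24), (9, 8), (4, 29)], TrS T t p :=
    List.forall_mem_cons.2 ⟨A.trS h23 t23 2 _ (by decide +kernel), n2⟩
  have t19 := h19.ty n3 19 (by decide +kernel)
  have hv : ∀ v ∈ [42, 38, 37, 18, 40, 39, 35, 17, 26, 27, 23, 19], ∀ k < dat.ord v, Val T t (dat.pwf v k) :=
    List.forall_mem_cons.2 ⟨h42.vals t42 (by decide +kernel), List.forall_mem_cons.2 ⟨h38.vals t38 (by decide +kernel),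
    List.forall_mem_cons.2 ⟨h37.vals t37 (by decide +kernel), List.forall_mem_cons.2 ⟨h18.vals t18 (by decide +kernel),
    List.forall_mem_cons.2 ⟨h40.vals t40 (by decide +kernel), List.forall_mem_cons.2 ⟨h39.vals t39 (by decide +kernel),
    List.forall_mem_cons.2 ⟨h35.vals t35 (by decide +kernel), List.forall_mem_cons.2 ⟨h17.vals t17 (by decide +kernel),
    List.forall_mem_cons.2 ⟨h26.vals t26 (by decide +kernel), List.forall_mem_cons.2 ⟨h27.vals t27 (by decide +kernel),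
    List.forall_mem_cons.2 ⟨h23.vals t23 (by decide +kernel),
    List.forall_mem_singleton.2 (h19.vals t19 (by decide +kernel))⟩⟩⟩⟩⟩⟩⟩⟩⟩⟩⟩
  refine ⟨fun u hu => ?_, x38, by rw [t38]; decide, ?_⟩
  · rcases cover u hu with e | ⟨v, h1, k, h2, e⟩
    · exact Or.inl e
    · exact Or.inr (e ▸ hv v h1 k h2)
  · have e1 := h38.val (by decide) 1
    rw [pow_one] at e1
    rw [e1, h38.val (by decide), Ne, ZMod.natCast_eq_natCast_iff']
    decide +kernel

end Cfsg.Agent.TAB.HN.Seed
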