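import Cfsg.Agent.TAB.HN.SeedA
import Cfsg.Agent.Characters.GaloisIrr

/-!
# The table of `HN` : the norm argument for the character of degree 133 (helper96, TAB)
-/

set_option autoImplicit false
set_option maxRecDepth 100000

namespace Cfsg.Agent.TAB.HN.Seed

open Cfsg Cfsg.Agent.TAB.Eng Cfsg.Agent.Characters

variable {H : Type} [Group H] [Finite H] {T : TD H dat} {t : H → ZMod 31}

theorem isConj_pow' {K : Type} [Group K] {a b : K} (h : IsConj a b) (n : ℕ) : IsConj (a ^ n) (b ^ n) := by
  obtain ⟨c, hc⟩ := isConj_iff.1 h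
  exact isConj_iff.2 ⟨c, by rw [← hc, conj_pow]⟩

/-- a character which is invariant under the twist at `g` has an integral value -/
theorem Ab.int (A : Ab T t) {ψ : H → ℂ} (hψ : IsCharacter H ψ) {g : H} (hg : T.ty g ≠ 32)
    (h : ∀ i, ψ (g ^ KK ^ i) = ψ g) : ∃ k : ℤ, ψ g = k := by
  refine GaloisBasic.exists_int_of_rat hψ g ((GaloisBasic.exists_rat_iff hψ g).2 fun m hm => ?_)
  have h1 : T.ty (g ^ m) = T.ty g := T.pow_coprime (hm.coprime_dvd_right (orderOf_dvd_natCard g))
  obtain ⟨i, hi⟩ := A.tw g (g ^ m) h1.symm hg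
  rw [← Core.classFunction_apply_eq (Core.isCharacter_isClassFunction hψ) hi, h i]

theorem small : ∀ u < 43, u ∈ [0, 1, 2, 3, 5] ∨ u ∈ [8, 9, 19] ∨ (-7 ≤ nth vRow u ∧ nth vRow u ≤ 7) := by decide +kernel

theorem reg : ∀ u ∈ [0, 1, 2, 3, 5], KK % dat.ord u = 1 % dat.ord u := by decide +kernel

theorem big : ∀ u ∈ [2, 3, 5, 8, 9, 19], -30 ≤ nth vRow u ∧ nth vRow u ≤ 30 ∧ nth vRow u % 2 = 0 := by decide +kernel

theorem ip_v : ip dat vRow vRow = dat.N * (2 : ℤ) := by decide +kernel

theorem sq_lt {a b : ℤ} (h : (b < a ∧ -b < a) ∨ (a < b ∧ a < -b)) : b ^ 2 < a ^ 2 := by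
  rcases h with ⟨h1, h2⟩ | ⟨h1, h2⟩ <;> nlinarith

section

variable {χ : H → ℂ} (hχ : IsIrrCharacter H χ) (h1 : χ 1 = 133)
  (red : ∀ (s : Multiset H) (N : ℤ), (s.map χ).sum = (N : ℂ) → (s.map t).sum = (N : ZMod 31))

/-- the sum of the four twists -/
noncomputable def VV (χ : H → ℂ) (g : H) : ℂ := χ g + χ (g ^ KK) + χ (g ^ KK ^ 2) + χ (g ^ KK ^ 3)

omit [Finite H] in
theorem Ab.cop (A : Ab T t) (i : ℕ) : Nat.Coprime (KK ^ i) (Nat.card H) := by
  rw [A.mass.1]
  exact Nat.Coprime.pow_left i (by decide +kernel)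

include hχ in
theorem Ab.irr (A : Ab T t) (i : ℕ) : IsIrrCharacter H fun g => χ (g ^ KK ^ i) := GaloisIrr.isIrr_pow (A.cop i) hχ

include hχ in
theorem Ab.char (A : Ab T t) : IsCharacter H (VV χ) := by
  have h2 := Core.isIrr_isCharacter (A.irr hχ 1)
  rw [pow_one] at h2
  exact Core.isCharacter_add (Core.isCharacter_add (Core.isCharacter_add (Core.isIrr_isCharacter hχ) h2)
    (Core.isIrr_isCharacter (A.irr hχ 2))) (Core.isIrr_isCharacter (A.irr hχ 3))

omit [Finite H] in
include hχ in
theorem Ab.per (A : Ab T t) (g : H) : χ (g ^ KK ^ 4) = χ g :=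
  Core.classFunction_apply_eq (Core.isIrr_isClassFunction hχ) (A.four g)

omit [Finite H] in
include hχ in
theorem Ab.twV (A : Ab T t) (g : H) (i : ℕ) : VV χ (g ^ KK ^ i) = VV χ g := by
  induction i with
  | zero => rw [pow_zero, pow_one]
  | succ i ih =>
    rw [← ih, pow_succ, pow_mul]
    generalize g ^ KK ^ i = x
    unfold VV
    rw [← pow_mul, ← pow_mul, ← pow_mul, ← pow_two, ← pow_succ', ← pow_succ', A.per hχ x]
    ring

include hχ h1 red in
/-- the lower bound -/
theorem Ab.low (A : Ab T t) (g : H) :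
    nth vRow (T.ty g) = 0 ∨ ∃ F : ℤ, VV χ g = F ∧ (F = 2 * nth vRow (T.ty g) ∨ (2 * nth vRow (T.ty g)) ^ 2 < F ^ 2) := by
  have hcl := Core.isIrr_isClassFunction hχ
  rcases A.vals.1 (T.ty g) (T.lt g) with e | ⟨x, hx, hs⟩
  · exact Or.inl e
  by_cases h32 : T.ty g = 32
  · left
    rw [h32]
    decide +kernel
  right
  obtain ⟨F, hF⟩ := A.int (A.char hχ) h32 (A.twV hχ g)
  refine ⟨F, hF, ?_⟩
  -- the congruence modulo 31
  have h2 : F % 31 = 2 * nth vRow (T.ty g) % 31 := by
    obtain ⟨i, hi⟩ := A.tw x g hx (by rw [hx]; exact h32)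
    have h3 : VV χ x = F := by
      rw [← hF, ← Core.classFunction_apply_eq (Core.isCharacter_isClassFunction (A.char hχ)) hi, A.twV hχ]
    have h4 := red {x, x ^ KK, x ^ KK ^ 2, x ^ KK ^ 3} F (by
      rw [← h3]
      simp only [VV, Multiset.insert_eq_cons, Multiset.map_cons, Multiset.sum_cons, Multiset.map_singleton,
        Multiset.sum_singleton, add_assoc])
    simp only [Multiset.insert_eq_cons, Multiset.map_cons, Multiset.sum_cons, Multiset.map_singleton,
      Multiset.sum_singleton, ← add_assoc] at h4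
    exact (ZMod.intCast_eq_intCast_iff' _ _ 31).1 (h4.symm.trans hs)
  -- the types fixed by the twist
  have h5 : IsConj (g ^ KK) g → ∃ k : ℤ, χ g = k ∧ F = 4 * k := fun hc => by
    have h6 : ∀ i, χ (g ^ KK ^ i) = χ g := fun i => by
      refine Core.classFunction_apply_eq hcl ?_
      induction i with
      | zero => rw [pow_zero, pow_one]
      | succ i ih =>
        rw [pow_succ, pow_mul]
        exact (isConj_pow' ih KK).trans hc
    obtain ⟨k, hk⟩ := A.int (Core.isIrr_isCharacter hχ) h32 h6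
    refine ⟨k, hk, ?_⟩
    have h7 := h6 1
    rw [pow_one] at h7
    have h8 : (F : ℂ) = ((4 * k : ℤ) : ℂ) := by
      rw [← hF, VV, h7, h6, h6, hk]
      push_cast
      ring
    exact_mod_cast h8
  have h9 : T.ty g ∈ [2, 3, 5, 8, 9, 19] → IsConj (g ^ KK) g →
      F = 2 * nth vRow (T.ty g) ∨ (2 * nth vRow (T.ty g)) ^ 2 < F ^ 2 := fun hm hc => by
    obtain ⟨k, -, hk⟩ := h5 hc
    obtain ⟨b1, b2, b3⟩ := big _ hm
    generalize nth vRow (T.ty g) = v at h2 b1 b2 b3 ⊢
    by_cases e : F = 2 * v
    · exact Or.inl e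
    · exact Or.inr (sq_lt (by omega))
  rcases small (T.ty g) (T.lt g) with hm | hm | ⟨b1, b2⟩
  · have hc : g ^ KK = g := by
      have h3 : g ^ KK = g ^ 1 := by
        rw [pow_eq_pow_iff_modEq, T.ord]
        exact reg _ hm
      rw [h3, pow_one]
    have hc' : IsConj (g ^ KK) g := by rw [hc]
    simp only [List.mem_cons, List.not_mem_nil, or_false] at hm
    rcases hm with e | e | e
    · obtain ⟨k, h3, h4⟩ := h5 hc'
      have h6 : g = 1 := by
        rw [← orderOf_eq_one_iff, T.ord, e]
        rfl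
      rw [h6, h1] at h3
      have h7 : k = 133 := by exact_mod_cast h3.symm
      left
      rw [h4, h7, e]
      decide +kernel
    · obtain ⟨k, h3, h4⟩ := h5 hc'
      have h6 : g ^ 2 = 1 := by
        rw [← orderOf_dvd_iff_pow_eq_one, T.ord, e]
        decide
      have h7 := Sm1.gen_cong (φ := χ) ⟨χ, 0, Core.isIrr_isCharacter hχ, Core.isCharacter_zero, (sub_zero χ).symm⟩
        Nat.prime_two (b := 133) h3 (by rw [h6, h1]; norm_num)
      have h8 : k % 2 = 1 := by
        rcases Int.emod_two_eq_zero_or_one k with h8 | h8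
        · exfalso
          obtain ⟨c, rfl⟩ := Int.dvd_of_emod_eq_zero h8
          have h10 : (133 - (2 * c) ^ 2) = 2 * (66 - 2 * c ^ 2) + 1 := by ring
          rw [h10] at h7
          push_cast at h7
          omega
        · exact h8
      have h10 : nth vRow (T.ty g) = 42 := by
        rw [e]
        decide +kernel
      rw [h10] at h2 ⊢
      by_cases e : F = 2 * 42
      · exact Or.inl e
      · exact Or.inr (sq_lt (by omega))
    · refine h9 ?_ hc'
      rcases e with e | e | e <;> rw [e] <;> decide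
  · simp only [List.mem_cons, List.not_mem_nil, or_false] at hm
    refine h9 ?_ (A.one g ?_) <;> rcases hm with e | e | e <;> rw [e] <;> decide
  · generalize nth vRow (T.ty g) = v at h2 b1 b2 ⊢
    by_cases e : F = 2 * v
    · exact Or.inl e
    · exact Or.inr (sq_lt (by omega))

include hχ red in
/-- the character is moved by the twist -/
theorem Ab.moved (A : Ab T t) (i : ℕ) : (fun g => χ (g ^ KK ^ i)) ≠ fun g => χ (g ^ KK ^ (i + 1)) := by
  intro e
  have h2 : ∀ g, χ (g ^ KK) = χ g := fun g => by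
    have h3 := congrFun e (g ^ KK ^ (3 * i))
    simp only [← pow_mul, ← pow_add] at h3
    have h4 : ∀ (j : ℕ) (x : H), χ (x ^ KK ^ (4 * j)) = χ x := fun j => by
      induction j with
      | zero => intro x; rw [mul_zero, pow_zero, pow_one]
      | succ j ih => intro x; rw [mul_add, mul_one, pow_add, pow_mul, A.per hχ, ih]
    rw [show 3 * i + i = 4 * i by ring, show 3 * i + (i + 1) = 1 + 4 * i by ring, pow_add, pow_mul g (KK ^ 1), h4, h4,
      pow_one] at h3
    exact h3.symm
  obtain ⟨g, h32, hg⟩ := A.vals.2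
  have h3 : ∀ j, χ (g ^ KK ^ j) = χ g := fun j => by
    induction j with
    | zero => rw [pow_zero, pow_one]
    | succ j ih => rw [pow_succ, pow_mul, h2, ih]
  obtain ⟨k, hk⟩ := A.int (Core.isIrr_isCharacter hχ) h32 h3
  have h4 := red {g} k (by rw [Multiset.map_singleton, Multiset.sum_singleton, hk])
  have h5 := red {g ^ KK} k (by rw [Multiset.map_singleton, Multiset.sum_singleton, h2, hk])
  rw [Multiset.map_singleton, Multiset.sum_singleton] at h4 h5
  exact hg (h5.trans h4.symm)

include hχ h1 red in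
/-- **the values of the sum of the character and its twist** -/
theorem Ab.main (A : Ab T t) (g : H) : χ g + χ (g ^ KK) = (nth vRow (T.ty g) : ℂ) := by
  classical
  have : Fintype H := Fintype.ofFinite H
  let c : ℕ → H → ℂ := fun i g => χ (g ^ KK ^ i)
  have hc : ∀ i, IsIrrCharacter H (c i) := A.irr hχ
  have hV : VV χ = c 0 + c 1 + c 2 + c 3 := by
    funext x
    simp only [VV, c, Pi.add_apply, pow_zero, pow_one]
  have c4 : c 4 = c 0 := by
    funext x
    simp only [c, pow_zero, pow_one]
    exact A.per hχ x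
  have n01 : c 0 ≠ c 1 := A.moved hχ red 0
  have n12 : c 1 ≠ c 2 := A.moved hχ red 1
  have n23 : c 2 ≠ c 3 := A.moved hχ red 2
  have n30 : c 3 ≠ c 0 := by
    rw [← c4]
    exact A.moved hχ red 3
  have sh : ∀ i j, c i = c j → c (i + 1) = c (j + 1) := fun i j e => by
    funext x
    have h2 := congrFun e (x ^ KK)
    simp only [c, ← pow_mul, ← pow_succ'] at h2 ⊢
    exact h2
  have s0 : ∀ i, classInner (c i) (c i) = 1 := fun i => Core.classInner_irr_self (hc i)
  have s1 : ∀ {i j}, c i ≠ c j → classInner (c i) (c j) = 0 := fun h => Core.classInner_irr_ne (hc _) (hc _) h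
  -- the sums of the squares
  have hN : (0 : ℝ) < Nat.card H := by exact_mod_cast Nat.card_pos
  have sm : ∀ (φ : H → ℂ) (r : ℝ), classInner φ φ = r → ∑ x : H, Complex.normSq (φ x) = Nat.card H * r := fun φ r h => by
    rw [Core.classInner_self_eq_ofReal] at h
    rw [← Complex.ofReal_injective h, ← mul_assoc, mul_inv_cancel₀ hN.ne', one_mul]
  have s2 := sm (fn T vRow) 2 (by rw [inner_of_ip A.mass rfl ip_v]; norm_num)
  have lo : ∀ x ∈ (Finset.univ : Finset H), 4 * Complex.normSq (fn T vRow x) ≤ Complex.normSq (VV χ x) := fun x _ => by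
    rcases A.low hχ h1 red x with e | ⟨F, e, h2⟩
    · simp only [fn, e, Int.cast_zero, map_zero, mul_zero]
      exact Complex.normSq_nonneg _
    · rw [e, fn, Complex.normSq_intCast, Complex.normSq_intCast]
      have h3 : 4 * (nth vRow (T.ty x) * nth vRow (T.ty x)) ≤ F * F := by
        rcases h2 with h2 | h2
        · rw [h2]
          exact le_of_eq (by ring)
        · nlinarith
      exact_mod_cast h3
  have s3 : ∑ x : H, 4 * Complex.normSq (fn T vRow x) = Nat.card H * 8 := by
    rw [← Finset.mul_sum, s2]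
    ring
  by_cases e02 : c 0 = c 2
  · have e13 : c 1 = c 3 := sh 0 2 e02
    have s4 := sm (VV χ) 8 (by
      rw [hV, ← e02, ← e13]
      simp only [Core.classInner_add_left, Core.classInner_add_right, s0, s1 n01, s1 n01.symm]
      norm_num)
    have h2 := (Finset.sum_eq_sum_iff_of_le lo).1 (s3.trans s4.symm) g (Finset.mem_univ g)
    have h3 : VV χ g = 2 * (χ g + χ (g ^ KK)) := by
      rw [hV, ← e02, ← e13]
      simp only [c, Pi.add_apply, pow_zero, pow_one]
      ring
    have h4 : VV χ g = 2 * (nth vRow (T.ty g) : ℂ) := by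
      rcases A.low hχ h1 red g with e | ⟨F, e, h5 | h5⟩
      · simp only [fn, e, Int.cast_zero, map_zero, mul_zero] at h2 ⊢
        exact Complex.normSq_eq_zero.1 h2.symm
      · rw [e, h5]
        push_cast
        rfl
      · exfalso
        rw [e, fn, Complex.normSq_intCast, Complex.normSq_intCast] at h2
        have h6 : 4 * (nth vRow (T.ty g) * nth vRow (T.ty g)) = F * F := by exact_mod_cast h2
        nlinarith
    exact mul_left_cancel₀ two_ne_zero (h3.symm.trans h4)
  · exfalso
    have e13 : c 1 ≠ c 3 := fun e => e02 (by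
      have h2 := sh 1 3 e
      rw [c4] at h2
      exact h2.symm)
    have e20 : c 2 ≠ c 0 := fun e => e02 e.symm
    have s4 := sm (VV χ) 4 (by
      rw [hV]
      simp only [Core.classInner_add_left, Core.classInner_add_right, s0, s1 n01, s1 n01.symm, s1 n12, s1 n12.symm,
        s1 n23, s1 n23.symm, s1 n30, s1 n30.symm, s1 e02, s1 e20, s1 e13, s1 e13.symm]
      norm_num)
    have h2 := Finset.sum_le_sum lo
    rw [s3, s4] at h2
    linarith

end

end Cfsg.Agent.TAB.HN.Seed
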