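import Cfsg.Agent.TAB.HN.Def

/-!
# The table of `HN` : twelve cyclic subgroups and the traces of their elements (helper96, TAB)
-/

set_option autoImplicit false

namespace Cfsg.Agent.TAB.HN.Seed

open Cfsg
open Cfsg.Agent.CpAutHN.Tr (tr)
open Cfsg.Agent.Lib.PackMat Cfsg.Agent.Lib.PackMatGroup Cfsg.Agent.Lib.PackMatMul Cfsg.Agent.HN.RepData
open Cfsg.Agent.HN.Rep (L)
open Cfsg.Agent.HN.XWords (V)
open Cfsg.Agent.H536.T5.Prog (trK)

/-- `x ^ n = 1` and the values of `t` on the powers of `x`, `n` the length of the list -/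
def Cyc {H : Type} [Group H] (t : H → ZMod 31) (x : H) (l : List ℕ) : Prop :=
  x ^ l.length = 1 ∧ ∀ k < l.length, t (x ^ k) = (l.getD k 0 : ZMod 31)

/-- the traces of `B`, `B A`, `B A ^ 2`, ... and the last product is the identity -/
noncomputable def cyc (f : ℕ → ℕ → ℕ) (o A : ℕ) (l : List ℕ) : ℕ → Bool :=
  List.rec (fun B => Nat.beq B o)
    (fun t _ ih B => Nat.beq (Nat.mod (trK C.s (C.s * (C.n + 1)) C.n B 0) 31) t && force (f B A) ih) l

theorem cyc_sound {f : ℕ → ℕ → ℕ} {o A : ℕ} (hf : ∀ {g h : G} {A B : ℕ}, Cd g A → Cd h B → Cd (g * h) (f A B))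
    (ho : Cd 1 o) {x : G} (hx : Cd x A) (l : List ℕ) : ∀ {g : G} {B : ℕ}, Cd g B → cyc f o A l B = true →
      g * x ^ l.length = 1 ∧ ∀ k < l.length, tr (g * x ^ k) = (l.getD k 0 : ZMod 31) := by
  induction l with
  | nil =>
    intro g B hg h
    have h1 : B = o := Nat.eq_of_beq_eq_true h
    rw [h1] at hg
    exact ⟨by rw [List.length_nil, pow_zero, mul_one]; exact hg.inj ho, fun k hk => absurd hk (Nat.not_lt_zero k)⟩
  | cons t l ih =>
    intro g B hg h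
    have h1 : (Nat.beq (Nat.mod (trK C.s (C.s * (C.n + 1)) C.n B 0) 31) t && cyc f o A l (f B A)) = true := h
    rw [Bool.and_eq_true] at h1
    obtain ⟨h2, h3⟩ := ih (hf hg hx) h1.2
    refine ⟨by rw [List.length_cons, pow_succ', ← mul_assoc]; exact h2, fun k hk => ?_⟩
    rcases k with _ | k
    · rw [pow_zero, mul_one, hg.tr, List.getD_cons_zero, ← Nat.eq_of_beq_eq_true h1.1]
      generalize trK C.s (C.s * (C.n + 1)) C.n B 0 = x
      exact (ZMod.natCast_mod x 31).symm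
    · rw [pow_succ', ← mul_assoc, List.getD_cons_succ]
      exact h3 k (Nat.lt_of_succ_lt_succ hk)

/-- the check -/
noncomputable def chkC (w l : List ℕ) : Bool :=
  withM C fun f => force (oneM C) fun o => force (wd1 f o L w) fun A => cyc f o A l o

theorem chkC_sound {w l : List ℕ} (h : chkC w l = true) : Cyc tr (V w) l := by
  rw [chkC, withM_eq, force_eq, force_eq] at h
  have ho := cd_one
  generalize oneM C = o at h ho
  have h1 := cyc_sound Cd.mul ho (cd_wd1 Cd.mul ho cd_gens w) l ho h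
  refine ⟨?_, fun k hk => ?_⟩
  · have h2 := h1.1
    rwa [one_mul] at h2
  · have h2 := h1.2 k hk
    rwa [one_mul] at h2

/-- 40AB -/
def l42 : List ℕ := [9, 30, 1, 30, 1, 30, 1, 30, 24, 30, 1, 30, 1, 30, 1, 30, 24, 30, 1, 30, 21, 30, 1, 30, 24, 30, 1, 30, 1, 30, 1, 30, 24,
  30, 1, 30, 1, 30, 1, 30]
/-- 25AB -/
def l38 : List ℕ := [9, 13, 19, 19, 13, 8, 13, 19, 19, 13, 8, 13, 19, 19, 13, 8, 13, 19, 19, 13, 8, 13, 19, 19, 13]
/-- 22A -/
def l37 : List ℕ := [9, 30, 1, 30, 1, 30, 1, 30, 1, 30, 1, 21, 1, 30, 1, 30, 1, 30, 1, 30, 1, 30]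
/-- 9A -/
def l18 : List ℕ := [9, 1, 1, 29, 1, 1, 29, 1, 1]
/-- 30BC -/
def l40 : List ℕ := [9, 18, 19, 15, 13, 2, 0, 12, 19, 21, 29, 18, 1, 12, 13, 5, 13, 12, 1, 18, 29, 21, 19, 12, 0, 2, 13, 15, 19, 18]
/-- 30A -/
def l39 : List ℕ := [9, 29, 2, 1, 2, 3, 24, 29, 2, 1, 7, 29, 24, 29, 2, 21, 2, 29, 24, 29, 7, 1, 2, 29, 24, 3, 2, 1, 2, 29]
/-- 20DE -/
def l35 : List ℕ := [9, 12, 15, 18, 0, 28, 21, 18, 1, 12, 5, 12, 1, 18, 21, 28, 0, 18, 15, 12]
/-- 8B -/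
def l17 : List ℕ := [9, 1, 5, 1, 5, 1, 5, 1]
/-- 12A -/
def l26 : List ℕ := [9, 1, 3, 1, 7, 1, 21, 1, 7, 1, 3, 1]
/-- 12B -/
def l27 : List ℕ := [9, 30, 30, 5, 7, 30, 5, 30, 7, 5, 30, 30]
/-- 10F -/
def l23 : List ℕ := [9, 1, 3, 1, 3, 21, 3, 1, 3, 1]
/-- 10A -/
def l19 : List ℕ := [9, 27, 8, 27, 8, 21, 8, 27, 8, 27]

theorem k42 : chkC [3, 4, 3, 0] l42 = true := by decide +kernel
theorem k38 : chkC [4, 3, 7, 4, 3] l38 = true := by decide +kernel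
theorem k37 : chkC [2, 4, 7, 7] l37 = true := by decide +kernel
theorem k18 : chkC [2, 2, 4, 6, 2, 0] l18 = true := by decide +kernel
theorem k40 : chkC [0, 3, 4, 3, 7, 1, 3] l40 = true := by decide +kernel
theorem k39 : chkC [6, 6, 2] l39 = true := by decide +kernel
theorem k35 : chkC [7, 3, 4] l35 = true := by decide +kernel
theorem k17 : chkC [3, 3, 4, 0, 6] l17 = true := by decide +kernel
theorem k26 : chkC [3, 4, 3] l26 = true := by decide +kernel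
theorem k27 : chkC [0, 3, 3, 3] l27 = true := by decide +kernel
theorem k23 : chkC [7, 0, 2, 2, 4] l23 = true := by decide +kernel
theorem k19 : chkC [1, 2, 2, 1, 2, 2, 0, 4, 3, 4, 3] l19 = true := by decide +kernel

/-- the twelve lists -/
def ls : List (List ℕ) := [l42, l38, l37, l18, l40, l39, l35, l17, l26, l27, l23, l19]

/-- **the twelve cyclic subgroups** -/
theorem cyc_all : ∀ l ∈ ls, ∃ x : G, Cyc tr x l :=
  List.forall_mem_cons.2 ⟨⟨_, chkC_sound k42⟩, List.forall_mem_cons.2 ⟨⟨_, chkC_sound k38⟩,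
  List.forall_mem_cons.2 ⟨⟨_, chkC_sound k37⟩, List.forall_mem_cons.2 ⟨⟨_, chkC_sound k18⟩,
  List.forall_mem_cons.2 ⟨⟨_, chkC_sound k40⟩, List.forall_mem_cons.2 ⟨⟨_, chkC_sound k39⟩,
  List.forall_mem_cons.2 ⟨⟨_, chkC_sound k35⟩, List.forall_mem_cons.2 ⟨⟨_, chkC_sound k17⟩,
  List.forall_mem_cons.2 ⟨⟨_, chkC_sound k26⟩, List.forall_mem_cons.2 ⟨⟨_, chkC_sound k27⟩,
  List.forall_mem_cons.2 ⟨⟨_, chkC_sound k23⟩, List.forall_mem_singleton.2 ⟨_, chkC_sound k19⟩⟩⟩⟩⟩⟩⟩⟩⟩⟩⟩⟩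

end Cfsg.Agent.TAB.HN.Seed
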