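import Cfsg.Agent.TAB.HN.Five
import Cfsg.Agent.CpAutHNFive.Main

/-!
# The table of `HN` : divisors of the orders of centralizers, the classes of involutions (helper54, TAB)
-/

set_option autoImplicit false
set_option maxRecDepth 100000

namespace Cfsg.Agent.TAB.HN.Tl

open Subgroup Cfsg Cfsg.Agent.TAB.HN Cfsg.Agent.TAB.Eng
open Cfsg.Agent.CpAutHN.Tr (tr tr_conj)
open Cfsg.Agent.H651.HNF (Ty tyH tyOf cn table)
open Cfsg.Agent.CpAutHNFive.HFacts (mul_order_dvd inf_eq_bot_of_prime)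

section

variable {H : Type*} [Group H] [Finite H]

theorem dvd_one {g x : H} (h : Commute x g) : orderOf x ∣ Nat.card (centralizer ({g} : Set H)) := by
  have h1 := orderOf_dvd_natCard (⟨x, mem_centralizer_singleton_iff.2 h.eq⟩ : centralizer ({g} : Set H))
  rwa [← Subgroup.orderOf_coe] at h1

theorem dvd_two {g a b : H} {p : ℕ} (hp : p.Prime) (ha : orderOf a = p) (hn : a ∉ zpowers b) (hab : Commute a b)
    (h1 : Commute a g) (h2 : Commute b g) : p * orderOf b ∣ Nat.card (centralizer ({g} : Set H)) := by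
  have h3 := mul_order_dvd (C := centralizer ({g} : Set H)) (a := ⟨a, mem_centralizer_singleton_iff.2 h1.eq⟩)
    (b := ⟨b, mem_centralizer_singleton_iff.2 h2.eq⟩) (Subtype.ext hab.eq)
    (inf_eq_bot_of_prime hp (by rw [← Subgroup.orderOf_coe]; exact ha) fun h => hn (by
      obtain ⟨k, hk⟩ := mem_zpowers_iff.1 h
      exact mem_zpowers_iff.2 ⟨k, congrArg Subtype.val hk⟩))
  rw [← Subgroup.orderOf_coe, ← Subgroup.orderOf_coe] at h3
  exact ha ▸ h3

theorem two_mul_dvd {x t : H} (h : t * x * t⁻¹ = x⁻¹) (hne : x⁻¹ ≠ x) :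
    2 * Nat.card (centralizer ({x} : Set H)) ∣ Nat.card H := by
  classical
  have : Fact (Nat.Prime 2) := ⟨Nat.prime_two⟩
  have := Fintype.ofFinite {y : H // IsConj x y}
  have key : ∀ {a b : H}, IsConj a b → IsConj a⁻¹ b⁻¹ := fun e => by
    obtain ⟨c, rfl⟩ := isConj_iff.1 e
    exact isConj_iff.2 ⟨c, by group⟩
  let f : Function.End {y : H // IsConj x y} := fun y => ⟨y.1⁻¹, (isConj_iff.2 ⟨t, h⟩ : IsConj x x⁻¹).trans (key y.2)⟩
  have h1 := Equiv.Perm.card_fixedPoints_modEq (f := f) (p := 2) (n := 1) (by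
    rw [pow_one, pow_two]
    funext y
    exact Subtype.ext (inv_inv y.1))
  have h2 : Fintype.card f.fixedPoints = 0 := by
    rw [Fintype.card_eq_zero_iff]
    refine ⟨fun y => hne ?_⟩
    have h3 : y.1.1⁻¹ = y.1.1 := congrArg Subtype.val y.2
    obtain ⟨c, hc⟩ := isConj_iff.1 y.1.2
    rw [← hc] at h3
    calc x⁻¹ = c⁻¹ * (c * x * c⁻¹)⁻¹ * c := by group
      _ = x := by rw [h3]; group
  rw [h2, ← Nat.card_eq_fintype_card] at h1
  rw [← card_class x]
  exact Nat.mul_dvd_mul_right ((Nat.modEq_zero_iff_dvd).1 h1) _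

theorem dvd16 {g a b x t : H} (ha : orderOf a = 2) (hb : orderOf b = 4) (hn : a ∉ zpowers b) (hab : Commute a b)
    (h1 : Commute a g) (h2 : Commute b g) (h3 : Commute x g) (h4 : Commute t g) (h5 : Commute a x) (h6 : Commute b x)
    (h : t * x * t⁻¹ = x⁻¹) (hne : x⁻¹ ≠ x) : 16 ∣ Nat.card (centralizer ({g} : Set H)) := by
  have h7 := two_mul_dvd (H := centralizer ({g} : Set H)) (x := ⟨x, mem_centralizer_singleton_iff.2 h3.eq⟩)
    (t := ⟨t, mem_centralizer_singleton_iff.2 h4.eq⟩) (Subtype.ext h) fun e => hne (congrArg Subtype.val e)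
  have h8 := dvd_two (H := centralizer ({g} : Set H)) (g := ⟨x, mem_centralizer_singleton_iff.2 h3.eq⟩)
    (a := ⟨a, mem_centralizer_singleton_iff.2 h1.eq⟩) (b := ⟨b, mem_centralizer_singleton_iff.2 h2.eq⟩)
    Nat.prime_two (by rw [← Subgroup.orderOf_coe]; exact ha) (fun h => hn (by
      obtain ⟨k, hk⟩ := mem_zpowers_iff.1 h
      exact mem_zpowers_iff.2 ⟨k, congrArg Subtype.val hk⟩)) (Subtype.ext hab.eq) (Subtype.ext h5.eq) (Subtype.ext h6.eq)
  rw [← Subgroup.orderOf_coe] at h8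
  change 2 * orderOf b ∣ _ at h8
  rw [hb] at h8
  exact (Nat.mul_dvd_mul_left 2 h8).trans h7

omit [Finite H] in
theorem dvd_map {K : Type*} [Group K] {f : H →* K} (hf : Function.Injective f) {y : H} {g : K}
    (h : ∀ v, Commute v y → Commute (f v) g) :
    Nat.card (centralizer ({y} : Set H)) ∣ Nat.card (centralizer ({g} : Set K)) := by
  rw [← card_map_of_injective hf]
  refine card_dvd_of_le ?_
  rintro _ ⟨v, hv, rfl⟩
  exact mem_centralizer_singleton_iff.2 (h v (mem_centralizer_singleton_iff.1 hv)).eq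

omit [Finite H] in
theorem order_of_prime {g : H} {p : ℕ} (hp : p.Prime) (h : g ^ p = 1) (h1 : g ≠ 1) : orderOf g = p :=
  have := Fact.mk hp
  orderOf_eq_prime h h1

omit [Finite H] in
theorem not_mem_zpowers {a b : H} {n : ℕ} (hn : 0 < n) (hb : b ^ n = 1) (h : ∀ k < n, a ≠ b ^ k) : a ∉ zpowers b :=
  fun h1 => by
    obtain ⟨k, hk, e⟩ := CpAutHNFive.HFacts.mem_zpowers_lt hn hb h1
    exact h k hk e

end

theorem dvd_of_two {a b n : ℕ} (ha : a ∣ n) (hb : b ∣ n) : Nat.lcm a b ∣ n := Nat.lcm_dvd ha hb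

theorem finG : Finite G := KFacts.HN.finite_HN

theorem tr_one : tr 1 = 9 := by
  rw [CpAutHN.Tr.tr, map_one, Units.val_one, Matrix.trace_one]
  decide

theorem ne_one {g : G} (h : tr g ≠ 9) : g ≠ 1 := fun e => h (e ▸ tr_one)

theorem ty_ord {g : G} {o : ℕ} (ho : orderOf g = o) (h5 : ¬ 5 ∣ o) : tyH g ≠ .sing ∧ (tyH g).ord = o := by
  have h1 : tyH g ≠ .sing := fun h => h5 (ho ▸ (table.sing g).1 h)
  exact ⟨h1, (table.ord g h1).symm.trans ho⟩

theorem ty_cn {g : G} (h : tyH g ≠ .sing) : cn g = (tyH g).cen := table.cent g h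

/-- the involution `x ^ 2` -/
noncomputable abbrev τ0 : G := HN.NormalH.ψ HN.H0Basic.τ

theorem order_τ0 : orderOf τ0 = 2 := by
  rw [orderOf_injective _ KFacts.HN.emb.inj, CpAutHNFive.HFacts.order_τ]

theorem ty_τ0 : tyH τ0 = .c2A := by
  rw [tyH, order_τ0, cn, KFacts.HN.Classes.card_centralizer_τ]
  decide

theorem ty_W0 : tyH HN.XWords.W0 = .c2B := by
  rw [tyH, CpAutHNFive.TFive.order_W0, cn, KFacts.HN.PCard.card_centralizer]
  decide

theorem chk_τ : chk [.w [0, 0]] [] [(0, 21)] [] = true := by decide +kernel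

theorem tr_τ0 : tr τ0 = 21 := by
  rw [τ0, ← HN.H0Basic.hw_τ, HN.XWords.V_hw (by decide)]
  exact (chk_sound .nil chk_τ).2 (0, 21) (by decide)

theorem ty_two {g : G} (h : orderOf g = 2) : (tyH g = .c2A ∧ tr g = 21) ∨ (tyH g = .c2B ∧ tr g = 5) := by
  obtain ⟨h1, h2⟩ := ty_ord h (by decide)
  rcases (by decide : ∀ t : Ty, t.ord = 2 → t = .c2A ∨ t = .c2B) _ h2 with e | e
  · exact .inl ⟨e, (tr_conj (table.conj _ _ (e.trans ty_τ0.symm) h1 (by rw [e]; decide))).trans tr_τ0⟩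
  · exact .inr ⟨e, (tr_conj (table.conj _ _ (e.trans ty_W0.symm) h1 (by rw [e]; decide))).trans tr_W0⟩

theorem ty_2B {g : G} (h : g ^ 2 = 1) (h1 : tr g = 5) : tyH g = .c2B := by
  rcases ty_two (order_of_prime Nat.prime_two h (ne_one (by rw [h1]; decide))) with ⟨-, e⟩ | ⟨e, -⟩
  · rw [h1] at e; exact absurd e (by decide)
  · exact e

theorem ty_sq {g : G} (h : tyH g ≠ .sing) : tyH (g ^ 2) = (tyH g).sq := table.pow g 2 Nat.prime_two h

theorem ty_cu {g : G} (h : tyH g ≠ .sing) : tyH (g ^ 3) = (tyH g).cu := table.pow g 3 Nat.prime_three h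

theorem order_two_pow {g : G} {n : ℕ} (h : g ^ 2 ^ (n + 1) = 1) (h1 : g ^ 2 ^ n ≠ 1) : orderOf g = 2 ^ (n + 1) :=
  have := Fact.mk Nat.prime_two
  orderOf_eq_prime_pow h1 h

end Cfsg.Agent.TAB.HN.Tl
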