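import Cfsg.Agent.TAB.HN.TyA
import Cfsg.Agent.TAB.HN.SecA
import Cfsg.Agent.TAB.HN.SecB
import Cfsg.Agent.TAB.HN.Tab

/-!
# The table of `HN` : the type function `T`, the numbers of elements, the twists, the class number (helper54, TAB)
-/

set_option autoImplicit false
set_option maxRecDepth 100000

namespace Cfsg.Agent.TAB.HN

open Subgroup Cfsg Cfsg.Agent.TAB.Eng Five Tl Cnt TyA SecA
open Cfsg.Agent.H651.HNF (Ty tyH cn table)

namespace TyB

theorem hB : SecB := secB kapPow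

theorem c7 : Cell .c7 1 35 4 ∧ Cov .c7 [1] := by
  obtain ⟨r, s, h, a1, a2, a3, a4, a5, a6, a7⟩ := s7
  exact cell_of a1 (by decide) (by decide) a2 a3 a4 a5 a6 a7

theorem dvC {c : Ty} {k n e : ℕ} (h : Cell c k n e) (h1 : c ≠ .sing) {s : G} (hs : orderOf s = 5) (hk : kap s = k) :
    n ∣ cn s := by
  obtain ⟨r, s0, -, a1, a2, a3, a4, a5, -⟩ := h
  exact dv_of a1 h1 a2 a3 a4 a5 hs hk

theorem c5A : Cell .c1 1 630000 2 := by
  obtain ⟨-, s, -, -, -, hs, hk, -⟩ := c10B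
  refine cell1 hs hk (Dvd.dvd.trans (by decide +kernel) (Nat.lcm_dvd (Nat.lcm_dvd (dvd625 hs) (dvC c10B (by decide) hs hk))
    (Nat.lcm_dvd (dvC (small_cell s3A (by decide) (by decide)).1 (by decide) hs hk) (dvC c7.1 (by decide) hs hk))))

theorem c5B : Cell .c1 2 500000 2 := by
  obtain ⟨-, s, -, -, -, hs, hk, -⟩ := c10A
  have hW : kap H839.Rad.HN.W = 2 := (kap_of_tr H839.Rad.HN.hW).2.1 r1.2.2.2.2.1
  have h1 : 15625 ∣ cn s := cn_conj (conj_of_kap H839.Rad.HN.hW hs (hW.trans hk.symm) (by rw [hW]; decide)) ▸ dvdW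
  exact cell1 hs hk (Dvd.dvd.trans (by decide +kernel) (Nat.lcm_dvd h1 (dvC hB.c10C (by decide) hs hk)))

theorem c5C : Cell .c1 3 15000 4 := by
  obtain ⟨-, s, -, -, -, hs, hk, -⟩ := hB.c10D
  exact cell1 hs hk (Dvd.dvd.trans (by decide +kernel) (Nat.lcm_dvd (dvd625 hs) (dvC hB.c10D (by decide) hs hk)))

theorem c5E : Cell .c1 4 2500 2 := by
  obtain ⟨-, s, -, -, -, hs, hk, -⟩ := c10F
  exact cell1 hs hk (Dvd.dvd.trans (by decide +kernel) (Nat.lcm_dvd (dvd625 hs) (dvC c10F (by decide) hs hk)))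

theorem ok_all : ∀ t < 43, Ok t := by
  intro t ht
  interval_cases t
  exacts [ok_reg .c1, ok_reg .c2A, ok_reg .c2B, ok_reg .c3A, ok_reg .c3B, ok_reg .c4A, ok_reg .c4B, ok_reg .c4C,
    ok_cell 1 c5A, ok_cell 1 c5B, ok_cell 2 c5C, ok_cell 1 c5E, ok_reg .c6A, ok_reg .c6B, ok_reg .c6C, ok_reg .c7,
    ok_reg .c8A, ok_reg .c8B, ok_reg .c9, ok_cell 1 c10A, ok_cell 1 c10B, ok_cell 1 hB.c10C, ok_cell 2 hB.c10D,
    ok_cell 1 c10F, ok_cell 2 hB.c10G, ok_reg .c11, ok_reg .c12A, ok_reg .c12B, ok_reg .c12C, ok_reg .c14,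
    ok_small 756 s3A, ok_small 486 hB.s3B, ok_reg .c19, ok_small 96 s4A, ok_small 36 s4B, ok_small 96 s4C, ok_reg .c21,
    ok_reg .c22, ok_tw rp38, ok_small 6 s6A, ok_small 6 hB.s6C, ok_cell 2 c7.1, ok_small 1 s8A]

theorem cov_lt {c : Ty} {ks : List ℕ} (h : Cov c ks) {r s : G} (hr : tyH r = c) (hc : Commute r s) (hs : s ^ 15625 = 1)
    (hd : c ≠ .sing ∧ c ≠ .c19 ∧ idx c 0 < 43 ∧ ∀ k ∈ ks, idx c k < 43 := by decide +kernel) : idx c (kap s) < 43 := by
  rcases cov_of h hd.1 hd.2.1 hr hc hs with e | e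
  · exact e ▸ hd.2.2.1
  · exact hd.2.2.2 _ e

theorem five_cen : ∀ c : Ty, c ≠ .sing → idx c 0 < 43 ∧ (5 ∣ c.cen →
    c ∈ [Ty.c1, .c2A, .c2B, .c3A, .c3B, .c4A, .c4B, .c4C, .c6A, .c6C, .c7, .c8A]) := by decide +kernel

theorem idx_lt {r s : G} (hc : Commute r s) (hr : r ^ 105336 = 1) (hs : s ^ 15625 = 1) : idx (tyH r) (kap s) < 43 := by
  have := finG
  obtain ⟨h1, h2⟩ := five_cen _ (ty_reg hr)
  have h3 := dvd_one hc.symm
  by_cases h0 : s = 1
  · rw [h0, kap_one]; exact h1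
  have h4 : 5 ∣ orderOf s := by
    rcases five3 hs with ⟨e, -⟩ | ⟨e, -⟩ | ⟨e, -⟩
    · exact absurd e h0
    · rw [e]
    · rw [e]; decide
  have h5 := h2 (ty_cn (ty_reg hr) ▸ h4.trans h3)
  simp only [List.mem_cons, List.not_mem_nil, or_false] at h5
  rcases h5 with e | e | e | e | e | e | e | e | e | e | e | e <;> rw [e]
  · exact (by decide : ∀ k < 6, idx .c1 k < 43) _ (kap_le hs)
  · exact cov_lt cov2A e hc hs
  · exact cov_lt hB.cov e hc hs
  · exact cov_lt (small_cell s3A (by decide) (by decide)).2 e hc hs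
  · exact cov_lt (small_cell hB.s3B (by decide) (by decide)).2 e hc hs
  · exact cov_lt (small_cell s4A (by decide) (by decide)).2 e hc hs
  · exact cov_lt (small_cell s4B (by decide) (by decide)).2 e hc hs
  · exact cov_lt (small_cell s4C (by decide) (by decide)).2 e hc hs
  · exact cov_lt (small_cell s6A (by decide) (by decide)).2 e hc hs
  · exact cov_lt (small_cell hB.s6C (by decide) (by decide)).2 e hc hs
  · exact cov_lt c7.2 e hc hs
  · exact cov_lt (small_cell s8A (by decide) (by decide)).2 e hc hs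

theorem tyF_lt (g : G) : tyF g < 43 := by
  obtain ⟨r, s, -, h1, h2, h3, h4⟩ := dec g
  exact h4 ▸ idx_lt h1 h2 h3

theorem tyF_zero (g : G) : tyF g = 0 ↔ g = 1 := by
  constructor
  · intro h
    obtain ⟨r, s, rfl, -, -, a3, a4, a5⟩ := dec' (c := .c1) (k := 0) (by decide) (by decide) h
    rw [eq_one a4, eq_one' a3 a5, mul_one]
  · rintro rfl
    rw [tyF, one_pow, one_pow, ty_one, kap_one]
    rfl

theorem pw_tab : ∀ c : Ty, ∀ k < 6, idx c k < 43 → ∀ p ∈ [2, 3, 5, 7, 11, 13, 17, 19, 23, 29, 31, 37], p.Prime ∧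
    idx (c.pw p) (if p = 5 then (if k = 5 then 2 else 0) else k) = dat.pwf (idx c k) p ∧ (p ≠ 5 → ¬ 5 ∣ p) := by
  decide +kernel

theorem tyF_pow (g : G) : ∀ p ∈ [2, 3, 5, 7, 11, 13, 17, 19, 23, 29, 31, 37], tyF (g ^ p) = dat.pwf (tyF g) p := by
  intro p hp
  obtain ⟨r, s, rfl, h1, h2, h3, h4⟩ := dec g
  obtain ⟨h5, h6, h7⟩ := pw_tab _ _ (kap_le h3) (idx_lt h1 h2 h3) p hp
  rw [h4, ← h6, h1.mul_pow, tyF_mul (h1.pow_pow p p) (by rw [← pow_mul, mul_comm, pow_mul, h2, one_pow])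
    (by rw [← pow_mul, mul_comm, pow_mul, h3, one_pow]), table.pow r p h5 (ty_reg h2)]
  split_ifs with h8 h9
  · rw [h8, kap_five h3, if_pos h9]
  · rw [h8, kap_five h3, if_neg h9]
  · rw [kap_pow h3 (h7 h8)]

theorem ok_ch : Sm1.okCh dat [2, 3, 5, 7, 11, 13, 17, 19, 23, 29, 31, 37] = true := by decide +kernel

end TyB

open TyB

/-- **the type function** -/
noncomputable def T : TD G dat :=
  Sm1.mkTD tyF tyF_lt (fun g h => (tyF_conj (isConj_iff.2 ⟨h, rfl⟩)).symm) tyF_zero _ tyF_pow ok_ch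

theorem T_ty (g : G) : T.ty g = tyF g := rfl

theorem ok (g : G) : Ok (T.ty g) := ok_all _ (tyF_lt g)

/-- **the numbers of elements** -/
theorem mass : T.Mass :=
  have := finG
  mass_of_le ⟨table.card, fun i hi => (ok_all i hi).bd⟩ (by decide +kernel)

theorem tw (g g' : G) (h : T.ty g = T.ty g') (h32 : T.ty g ≠ 32) : ∃ i, IsConj (g ^ KK ^ i) g' :=
  (ok g).tw h32 g g' rfl h.symm

theorem fix (g : G) {j : ℕ} (h : jL.getD (T.ty g) 0 ∣ j) : IsConj (g ^ KK ^ j) g := by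
  obtain ⟨a, rfl⟩ := h
  have h1 := conj_per ((ok g).fix g rfl) a 0
  rwa [zero_add, pow_zero, pow_one] at h1

theorem pre : Pre T where
  mass := mass
  ty := T_ty
  kp := kapPow
  tw := tw
  four g := fix g ((by decide : ∀ t < 43, jL.getD t 0 ∣ 4) _ (tyF_lt g))
  one g h := by
    have h1 := fix g (j := 1) ((by decide : ∀ t ∈ [8, 9, 11, 19, 20, 21, 23], jL.getD t 0 ∣ 1) _ h)
    rwa [pow_one] at h1
  two g h := fix g ((by decide : ∀ t ∈ [10, 22, 24, 38, 41], jL.getD t 0 ∣ 2) _ h)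

/-- **the types are the rational classes** -/
theorem rat : ON.Rat T := by
  have := finG
  intro g g' h
  by_cases h32 : T.ty g = 32
  · have h1 : orderOf g = 19 := by rw [T.ord, h32]; rfl
    have h2 : orderOf g' = 19 := by rw [T.ord, ← h, h32]; rfl
    obtain ⟨u, m, e⟩ := conj_sylow (p := 19) (n := 1) (s' := g') (by decide) h1 (by rw [table.card]; decide +kernel)
      (by rw [pow_one, ← h2, pow_orderOf_eq_one])
    exact ⟨m, isConj_iff.2 ⟨u, e⟩⟩
  · obtain ⟨i, hi⟩ := tw g g' h h32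
    exact ⟨_, hi⟩

theorem cen_dvd (g : G) : cenL.getD (T.ty g) 0 ∣ Nat.card (centralizer ({g} : Set G)) := (ok g).cn g rfl

theorem cls : 54 ≤ Nat.card (ConjClasses G) := by
  have := finG
  refine le_trans (by decide +kernel) (Sm1.classes_ge mass (mulL.getD · 0) (fun g => ?_) cnt_pos)
  refine le_trans ((by decide +kernel : ∀ t < 43, mulL.getD t 0 * dat.N ≤ dat.cnt t * cenL.getD t 0) _ (tyF_lt g)) ?_
  exact Nat.mul_le_mul_left _ (Nat.le_of_dvd Nat.card_pos (cen_dvd g))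

end Cfsg.Agent.TAB.HN
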