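import Cfsg.Agent.TAB.HN.Cnt

/-!
# The table of `HN` : from the cells of the sections to the types (helper54, TAB)
-/

set_option autoImplicit false
set_option maxRecDepth 100000

namespace Cfsg.Agent.TAB.HN.TyA

open Subgroup Cfsg Cfsg.Agent.TAB.HN Cfsg.Agent.TAB.Eng Cfsg.Agent.TAB.HN.Five Cfsg.Agent.TAB.HN.Tl Cfsg.Agent.TAB.HN.Cnt
open Cfsg.Agent.H651.HNF (Ty tyH cn table)

/-- the class of the 5'-part -/
def cL : List Ty := [.c1, .c2A, .c2B, .c3A, .c3B, .c4A, .c4B, .c4C, .c1, .c1, .c1, .c1, .c6A, .c6B, .c6C, .c7, .c8A, .c8B, .c9,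
  .c2A, .c2A, .c2B, .c2B, .c2A, .c2B, .c11, .c12A, .c12B, .c12C, .c14, .c3A, .c3B, .c19, .c4A, .c4B, .c4C, .c21, .c22, .c1,
  .c6A, .c6C, .c7, .c8A]

/-- the kind of the 5-part -/
def kL : List ℕ := [0, 0, 0, 0, 0, 0, 0, 0, 1, 2, 3, 4, 0, 0, 0, 0, 0, 0, 0, 2, 1, 2, 3, 4, 4, 0, 0, 0, 0, 0, 1, 3, 0, 2, 1, 3,
  0, 0, 5, 1, 3, 1, 1]

/-- the known period of the twist -/
def jL : List ℕ := [1, 1, 1, 1, 1, 1, 1, 1, 1, 1, 2, 1, 1, 1, 1, 1, 1, 1, 1, 1, 1, 1, 2, 1, 2, 1, 1, 1, 1, 1, 4, 4, 1, 4, 4, 4,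
  1, 1, 2, 4, 4, 2, 4]

theorem idx_inv : ∀ c : Ty, ∀ k < 6, idx c k < 43 → cL.getD (idx c k) .sing = c ∧ kL.getD (idx c k) 0 = k := by
  decide +kernel

theorem dec (g : G) : ∃ r s : G, g = r * s ∧ Commute r s ∧ r ^ 105336 = 1 ∧ s ^ 15625 = 1 ∧
    tyF g = idx (tyH r) (kap s) := by
  obtain ⟨r, s, rfl, h1, h2, h3⟩ := decomp g
  exact ⟨r, s, rfl, h1, h2, h3, tyF_mul h1 h2 h3⟩

theorem dec' {g : G} {c : Ty} {k : ℕ} (hk : k < 6) (hl : idx c k < 43) (h : tyF g = idx c k) :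
    ∃ r s : G, g = r * s ∧ Commute r s ∧ r ^ 105336 = 1 ∧ s ^ 15625 = 1 ∧ tyH r = c ∧ kap s = k := by
  obtain ⟨r, s, e, h1, h2, h3, h4⟩ := dec g
  rw [h] at h4
  obtain ⟨h5, h6⟩ := idx_inv _ _ (kap_le h3) (h4 ▸ hl)
  obtain ⟨h7, h8⟩ := idx_inv c k hk hl
  rw [← h4] at h5 h6
  exact ⟨r, s, e, h1, h2, h3, h5.symm.trans h7, h6.symm.trans h8⟩

theorem ty_one : tyH (1 : G) = .c1 := by
  have h := ty_ord (g := 1) orderOf_one (by decide)
  revert h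
  generalize tyH (1 : G) = c
  revert c
  decide +kernel

theorem eq_one {r : G} (h : tyH r = .c1) : r = 1 := by
  rw [← orderOf_eq_one_iff, table.ord r (by rw [h]; decide), h]
  rfl

theorem eq_one' {s : G} (h : s ^ 15625 = 1) (hk : kap s = 0) : s = 1 := by
  rcases five3 h with ⟨h1, -⟩ | ⟨-, h1⟩ | ⟨-, h1, -⟩
  · exact h1
  · rw [hk] at h1; exact absurd h1 (by decide)
  · omega

theorem ord5 {s : G} (h : s ^ 15625 = 1) (hk : kap s ∈ [1, 2, 3, 4]) : orderOf s = 5 := by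
  rcases five3 h with ⟨-, h1⟩ | ⟨h1, -⟩ | ⟨-, h1, -⟩
  · rw [h1] at hk; exact absurd hk (by decide)
  · exact h1
  · rw [h1] at hk; exact absurd hk (by decide)

theorem pw5 {s : G} (h : orderOf s = 5) : s ^ 15625 = 1 := orderOf_dvd_iff_pow_eq_one.1 (h ▸ by decide)

theorem pw25 {s : G} (h : orderOf s = 5) : s ^ 25 = 1 := orderOf_dvd_iff_pow_eq_one.1 (h ▸ by decide)

/-- transport to the representative of the class -/
theorem move {r r' s' : G} (h : tyH r' = tyH r) (h1 : tyH r ≠ .sing) (h2 : tyH r ≠ .c19) (hc : Commute r' s')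
    (hs : s' ^ 15625 = 1) : ∃ s : G, Commute r s ∧ s ^ 15625 = 1 ∧ IsConj s s' ∧ IsConj (r * s) (r' * s') := by
  obtain ⟨u, rfl⟩ := isConj_iff.1 (table.conj r' r h (h ▸ h1) (h ▸ h2))
  refine ⟨u * s' * u⁻¹, ?_, by rw [conj_pow, hs, mul_one, mul_inv_cancel], (isConj_iff.2 ⟨u, rfl⟩).symm,
    (isConj_iff.2 ⟨u, by group⟩).symm⟩
  exact hc.map (MulAut.conj u).toMonoidHom

theorem cov_of {c : Ty} {ks : List ℕ} (h : Cov c ks) (h1 : c ≠ .sing) (h2 : c ≠ .c19) {r s : G} (hr : tyH r = c)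
    (hc : Commute r s) (hs : s ^ 15625 = 1) : kap s = 0 ∨ kap s ∈ ks := by
  obtain ⟨r0, rfl, h3⟩ := h
  obtain ⟨s0, h4, h5, h6, -⟩ := move hr h1 h2 hc hs
  rw [← kap_conj h6]
  rcases h3 s0 h4 h5 with rfl | h7
  · exact .inl kap_one
  · exact .inr h7.2

/-- a section with Sylow 5-subgroups of order 5 -/
theorem cell_of {c : Ty} {k n e : ℕ} {r s h : G} (hr : tyH r = c) (h1 : c ≠ .sing) (h25 : ¬ 5 * 5 ∣ c.cen)
    (hc : Commute r s) (hs : orderOf s = 5) (hk : kap s = k) (hn : n ∣ cn (r * s)) (hh : Commute h r)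
    (he : h * s * h⁻¹ = s ^ e) : Cell c k n e ∧ Cov c [k] := by
  have := finG
  have key : ∀ s' : G, Commute r s' → s' ^ 15625 = 1 → ∃ (g : G) (m : ℕ), Commute g r ∧ g * s ^ m * g⁻¹ = s' := by
    intro s' h2 h3
    obtain ⟨g, m, h4⟩ := conj_sylow (H := centralizer ({r} : Set G)) (p := 5) (n := 6) Nat.prime_five
      (s := ⟨s, mem_centralizer_singleton_iff.2 hc.symm.eq⟩) (s' := ⟨s', mem_centralizer_singleton_iff.2 h2.symm.eq⟩)
      ((orderOf_mk _ _).trans hs) (by rw [← hr, ← ty_cn (hr ▸ h1)] at h25; exact h25) (Subtype.ext h3)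
    exact ⟨g, m, mem_centralizer_singleton_iff.1 g.2, congrArg Subtype.val h4⟩
  refine ⟨⟨r, s, h, hr, hc, hs, hk, hn, hh, he, fun s' h2 h3 _ => key s' h2 (pw5 h3)⟩, r, hr, fun s' h2 h3 => ?_⟩
  obtain ⟨g, m, -, h4⟩ := key s' h2 h3
  have h5 : IsConj (s ^ m) s' := isConj_iff.2 ⟨g, h4⟩
  by_cases hm : 5 ∣ m
  · rw [orderOf_dvd_iff_pow_eq_one.1 (hs ▸ hm)] at h5
    exact .inl (isConj_one_right.1 h5)
  · refine .inr ⟨(Sm1.order_conj h5).symm.trans (order_pow hs hm), ?_⟩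
    rw [← kap_conj h5, kapPow s m hs hm, hk]
    exact List.mem_singleton_self k

theorem small_cell {c : Ty} {k n : ℕ} (h : Small c k n) (h1 : c ≠ .sing) (h25 : ¬ 5 * 5 ∣ c.cen) :
    Cell c k n 1 ∧ Cov c [k] := by
  obtain ⟨r, s, hr, hc, hs, hk, hn⟩ := h
  exact cell_of (h := 1) hr h1 h25 hc hs hk hn (Commute.one_left r) (by group)

theorem two_pow {s : G} (hs : orderOf s = 5) {m : ℕ} (hm : ¬ 5 ∣ m) : ∃ i, s ^ 2 ^ i = s ^ m := by
  have h : ∀ a < 5, a ≠ 0 → ∃ i < 4, 2 ^ i % 5 = a := by decide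
  obtain ⟨i, -, hi⟩ := h (m % 5) (Nat.mod_lt _ (by decide)) fun e => hm (Nat.dvd_of_mod_eq_zero e)
  exact ⟨i, by rw [pow_eq_pow_iff_modEq, hs]; exact hi⟩

/-- the elements of a cell -/
theorem cover {c : Ty} {k : ℕ} {r s : G} (hr : tyH r = c) (h1 : c ≠ .sing) (h2 : c ≠ .c19) (hs : orderOf s = 5)
    (hk : k ∈ [1, 2, 3, 4]) (hl : idx c k < 43)
    (h : ∀ s' : G, Commute r s' → orderOf s' = 5 → kap s' = k → ∃ (g : G) (m : ℕ), Commute g r ∧ g * s ^ m * g⁻¹ = s')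
    {g : G} (hg : tyF g = idx c k) : ∃ i, IsConj (r * s ^ 2 ^ i) g := by
  have hk6 : k < 6 := by simp only [List.mem_cons, List.not_mem_nil, or_false] at hk; omega
  obtain ⟨r', s', rfl, a1, -, a3, a4, a5⟩ := dec' hk6 hl hg
  obtain ⟨s0, b1, b2, b3, b4⟩ := move (a4.trans hr.symm) (hr ▸ h1) (hr ▸ h2) a1 a3
  have b5 : kap s0 = k := (kap_conj b3).trans a5
  have b6 := ord5 b2 (b5 ▸ hk)
  obtain ⟨u, m, hu, e⟩ := h s0 b1 b6 b5
  have hm : ¬ 5 ∣ m := fun hm => by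
    rw [orderOf_dvd_iff_pow_eq_one.1 (hs ▸ hm), mul_one, mul_inv_cancel] at e
    rw [← e, orderOf_one] at b6
    cases b6
  obtain ⟨i, hi⟩ := two_pow hs hm
  refine ⟨i, IsConj.trans (isConj_iff.2 ⟨u, ?_⟩) b4⟩
  rw [hi, ← e, ← mul_assoc, hu.eq]
  group

/-- a representative of a type up to the twist -/
def Rp (t n j : ℕ) : Prop :=
  ∃ x : G, n ∣ cn x ∧ IsConj (x ^ KK ^ j) x ∧ ∀ g, tyF g = t → ∃ i, IsConj (x ^ KK ^ i) g

theorem rp_cell {c : Ty} {k n e j : ℕ} (h : Cell c k n e) (h1 : c ≠ .sing) (h2 : c ≠ .c19) (hk : k ∈ [1, 2, 3, 4])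
    (hl : idx c k < 43) (hj : 2 ^ j % 5 = e % 5) : Rp (idx c k) n j := by
  obtain ⟨r, s, u, hr, hc, hs, -, hn, hu, he, h⟩ := h
  have h3 := pow_KK hc (reg_of (hr ▸ h1)) (pw25 hs)
  refine ⟨r * s, hn, ?_, fun g hg => ?_⟩
  · rw [h3, show s ^ 2 ^ j = s ^ e by rw [pow_eq_pow_iff_modEq, hs]; exact hj, ← he]
    refine (isConj_iff.2 ⟨u, ?_⟩).symm
    rw [← mul_assoc, hu.eq]
    group
  · obtain ⟨i, hi⟩ := cover hr h1 h2 hs hk hl h hg
    exact ⟨i, h3 i ▸ hi⟩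

theorem conj_per {x : G} {j : ℕ} (h : IsConj (x ^ KK ^ j) x) (a b : ℕ) : IsConj (x ^ KK ^ (b + j * a)) (x ^ KK ^ b) := by
  have h1 := (conj_iter h.symm a).pow (KK ^ b)
  rw [← pow_mul, ← pow_mul, ← pow_add, add_comm] at h1
  exact h1.symm

/-- **the facts on a type** -/
structure Ok (t : ℕ) : Prop where
  cn : ∀ g, tyF g = t → cenL.getD t 0 ∣ cn g
  fix : ∀ g, tyF g = t → IsConj (g ^ KK ^ jL.getD t 0) g
  tw : t ≠ 32 → ∀ g g', tyF g = t → tyF g' = t → ∃ i, IsConj (g ^ KK ^ i) g'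
  bd : Nat.card {g // tyF g = t} ≤ dat.cnt t

theorem ok_rp {t n j : ℕ} (h : Rp t n j) (hn : cenL.getD t 0 = n) (hj : jL.getD t 0 = j) (h0 : 0 < j)
    (hb : Nat.card {g // tyF g = t} ≤ dat.cnt t) : Ok t := by
  obtain ⟨x, h1, h2, h3⟩ := h
  refine ⟨fun g hg => ?_, fun g hg => ?_, fun _ g g' hg hg' => ?_, hb⟩
  · obtain ⟨i, hi⟩ := h3 g hg
    rw [hn, ← cn_conj hi]
    exact h1.trans (cn_pow x _)
  · obtain ⟨i, hi⟩ := h3 g hg
    have h4 := hi.pow (KK ^ j)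
    rw [← pow_mul, ← pow_add] at h4
    have h5 := conj_per h2 1 i
    rw [mul_one] at h5
    rw [hj]
    exact h4.symm.trans (h5.trans hi)
  · obtain ⟨a, ha⟩ := h3 g hg
    obtain ⟨b, hb⟩ := h3 g' hg'
    obtain ⟨j, rfl⟩ := Nat.exists_eq_add_one_of_ne_zero h0.ne'
    have h4 := ha.pow (KK ^ (b + j * a))
    rw [← pow_mul, ← pow_add, show a + (b + j * a) = b + (j + 1) * a by ring] at h4
    exact ⟨_, h4.symm.trans ((conj_per h2 a b).trans hb)⟩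

theorem cnt_rp {t n j : ℕ} (h : Rp t n j) (hj : j = 1 ∨ j = 2) :
    Nat.card {g // tyF g = t} * n ≤ j * 273030912000000 := by
  have := finG
  obtain ⟨x, h1, h2, h3⟩ := h
  rw [← table.card]
  rcases hj with rfl | rfl
  · rw [one_mul]
    refine cnt_one h1 fun g hg => ?_
    obtain ⟨i, hi⟩ := h3 g hg
    have h4 := conj_per h2 i 0
    rw [zero_add, one_mul, pow_zero, pow_one] at h4
    exact h4.symm.trans hi
  · refine cnt_two h1 (h1.trans (cn_pow x KK)) fun g hg => ?_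
    obtain ⟨i, hi⟩ := h3 g hg
    have h4 := conj_per h2 (i / 2) (i % 2)
    rw [Nat.mod_add_div] at h4
    rcases Nat.mod_two_eq_zero_or_one i with e | e <;> rw [e] at h4
    · rw [pow_zero, pow_one] at h4
      exact .inl (h4.symm.trans hi)
    · rw [pow_one] at h4
      exact .inr (h4.symm.trans hi)

/-- the types with as many classes as twists -/
theorem ok_tw {t n j : ℕ} (h : Rp t n j)
    (hc : cenL.getD t 0 = n ∧ jL.getD t 0 = j ∧ (j = 1 ∨ j = 2) ∧ 0 < n ∧ j * 273030912000000 = dat.cnt t * n := by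
      decide +kernel) : Ok t := by
  obtain ⟨h1, h2, h3, h4, h5⟩ := hc
  exact ok_rp h h1 h2 (by omega) (Nat.le_of_mul_le_mul_right (h5 ▸ cnt_rp h h3) h4)

theorem ok_cell {c : Ty} {k n e : ℕ} (j : ℕ) (h : Cell c k n e)
    (hc : (c ≠ .sing ∧ c ≠ .c19 ∧ k ∈ [1, 2, 3, 4] ∧ idx c k < 43 ∧ 2 ^ j % 5 = e % 5) ∧ cenL.getD (idx c k) 0 = n ∧
      jL.getD (idx c k) 0 = j ∧ (j = 1 ∨ j = 2) ∧ 0 < n ∧ j * 273030912000000 = dat.cnt (idx c k) * n := by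
      decide +kernel) : Ok (idx c k) :=
  ok_tw (rp_cell h hc.1.1 hc.1.2.1 hc.1.2.2.1 hc.1.2.2.2.1 hc.1.2.2.2.2) hc.2

/-- the 5-regular types -/
theorem ok_reg (c : Ty) (hc : c ≠ .sing ∧ idx c 0 < 43 ∧ cenL.getD (idx c 0) 0 = c.cen ∧ jL.getD (idx c 0) 0 = 1 ∧
    dat.cnt (idx c 0) = c.num ∧ (c = .c19 → idx c 0 = 32) := by decide +kernel) : Ok (idx c 0) := by
  have := finG
  obtain ⟨h1, h2, h3, h4, h5, h6⟩ := hc
  have key : ∀ g, tyF g = idx c 0 → tyH g = c := fun g hg => by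
    obtain ⟨r, s, rfl, -, -, a3, a4, a5⟩ := dec' (by decide) h2 hg
    rw [eq_one' a3 a5, mul_one, a4]
  refine ⟨fun g hg => ?_, fun g hg => ?_, fun h g g' hg hg' => ⟨0, ?_⟩, ?_⟩
  · rw [h3, ty_cn (key g hg ▸ h1), key g hg]
  · have h7 := pow_KK (Commute.one_right g) (reg_of (key g hg ▸ h1)) (one_pow _) 1
    rw [one_pow, mul_one] at h7
    rw [h4, h7]
  · rw [pow_zero, pow_one]
    exact table.conj g g' ((key g hg).trans (key g' hg').symm) (key g hg ▸ h1) (key g hg ▸ mt h6 h)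
  · rw [h5, ← table.num c h1]
    exact Nat.card_le_card_of_injective (fun g => ⟨g.1, key _ g.2⟩) fun a b e =>
      Subtype.ext (congrArg Subtype.val e :)

/-- the types in the sections with Sylow 5-subgroups of order 5 -/
theorem ok_small {c : Ty} {k n : ℕ} (b : ℕ) (h : Small c k n)
    (hc : c ≠ .sing ∧ c ≠ .c19 ∧ ¬ 5 * 5 ∣ c.cen ∧ k ∈ [1, 2, 3, 4] ∧ idx c k < 43 ∧ cenL.getD (idx c k) 0 = n ∧
      jL.getD (idx c k) 0 = 4 ∧ 0 < n ∧ 0 < c.cen ∧ n * (c.cen / n) = c.cen ∧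
      4 * 273030912000000 * b = dat.cnt (idx c k) * c.cen ∧
      ∀ d ∈ List.range (c.cen / n + 1), c.cen / n % d = 0 → d % 5 = 1 → d ≤ b := by decide +kernel) : Ok (idx c k) := by
  have := finG
  obtain ⟨h1, h2, h3, h4, h5, h6, h7, h8, h9, h10, h11, h12⟩ := hc
  obtain ⟨hC, -⟩ := small_cell h h1 h3
  refine ok_rp (rp_cell hC h1 h2 h4 h5 (j := 4) rfl) h6 h7 (by decide) ?_
  obtain ⟨r, s, -, hr, hc, hs, -, hn, -, -, h⟩ := hC
  have hcen : Nat.card (centralizer ({r} : Set G)) = c.cen := by rw [← hr, ← ty_cn (hr ▸ h1)]; rfl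
  obtain ⟨M, a1, a2, a3⟩ := exists_norm (H := centralizer ({r} : Set G))
    (s := ⟨s, mem_centralizer_singleton_iff.2 hc.symm.eq⟩) ((orderOf_mk _ _).trans hs) (hcen ▸ h3)
  obtain ⟨p1, p2⟩ := pow_r hc (reg_of (hr ▸ h1)) (pw5 hs)
  have a4 : n ∣ Nat.card M := by
    rw [← card_map_of_injective (centralizer ({r} : Set G)).subtype_injective]
    refine hn.trans (card_dvd_of_le fun u hu => ?_)
    have hu' : Commute u (r * s) := mem_centralizer_singleton_iff.1 hu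
    refine ⟨⟨u, mem_centralizer_singleton_iff.2 (p1 ▸ hu'.pow_right _).eq⟩, a1 ?_, rfl⟩
    exact mem_centralizer_singleton_iff.2 (Subtype.ext (p2 ▸ hu'.pow_right _).eq)
  have a5 := M.card_mul_index
  rw [hcen] at a5
  have a6 : M.index ≤ b := by
    obtain ⟨a, ha⟩ := a4
    have a7 : a * M.index = c.cen / n := Nat.eq_of_mul_eq_mul_left h8 (by rw [h10, ← mul_assoc, ← ha, a5])
    have a8 : M.index ∣ c.cen / n := Dvd.intro_left a a7
    refine h12 _ (List.mem_range.2 (Nat.lt_succ_of_le (Nat.le_of_dvd (Nat.pos_of_ne_zero fun e => ?_) a8)))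
      (Nat.mod_eq_zero_of_dvd a8) a3
    rw [e, mul_zero] at h10
    omega
  have a7 := cnt_norm (Q := fun g => tyF g = idx c k) (r := r) hs (M.map (centralizer ({r} : Set G)).subtype) (by
    rintro _ ⟨u, hu, rfl⟩
    refine ⟨mem_centralizer_singleton_iff.1 u.2, ?_⟩
    rintro _ ⟨m, rfl⟩
    obtain ⟨m', e⟩ := a2 u hu _ ⟨m, rfl⟩
    exact ⟨m', congrArg Subtype.val e⟩) fun g hg => by
      obtain ⟨i, hi⟩ := cover hr h1 h2 hs h4 h5 h hg
      refine ⟨_, npow_mem_zpowers s _, fun e => ?_, hi⟩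
      have a8 := orderOf_dvd_of_pow_eq_one e
      rw [hs] at a8
      exact absurd (Nat.prime_five.dvd_of_dvd_pow a8) (by decide)
  rw [card_map_of_injective (centralizer ({r} : Set G)).subtype_injective, table.card] at a7
  refine Nat.le_of_mul_le_mul_right ?_ h9
  rw [← h11]
  conv_lhs => rw [← a5, ← mul_assoc]
  exact Nat.mul_le_mul a7 a6

/-! ### the 5-elements -/

theorem dv_of {c : Ty} {k n : ℕ} {r s : G} (hr : tyH r = c) (h1 : c ≠ .sing) (hc : Commute r s) (hs : orderOf s = 5)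
    (hk : kap s = k) (hn : n ∣ cn (r * s)) {s' : G} (hs' : orderOf s' = 5) (hk' : kap s' = k) : n ∣ cn s' := by
  have h2 := hn.trans (cn_pow (r * s) (105336 * 2766))
  rw [(pow_r hc (reg_of (hr ▸ h1)) (pw5 hs)).2] at h2
  by_cases h3 : k = 3
  · rcases conj_of_kap3 hs hs' (hk.trans h3) (hk'.trans h3) with e | e
    · exact cn_conj e ▸ h2
    · exact cn_conj e ▸ h2.trans (cn_pow s 2)
  · exact cn_conj (conj_of_kap hs hs' (hk.trans hk'.symm) (hk ▸ h3)) ▸ h2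

theorem cell1 {k n : ℕ} {s : G} (hs : orderOf s = 5) (hk : kap s = k) (hn : n ∣ cn s) :
    Cell .c1 k n (if k = 3 then 4 else 2) := by
  have h1 : IsConj s (s ^ if k = 3 then 4 else 2) := by
    split_ifs with h3
    · exact real4 (hs ▸ pow_orderOf_eq_one s)
    · exact conj_of_kap hs (order_pow hs (by decide)) (kap_sq hs).symm (hk ▸ h3)
  obtain ⟨h, e⟩ := isConj_iff.1 h1
  refine ⟨1, s, h, ty_one, Commute.one_left s, hs, hk, (one_mul s).symm ▸ hn, Commute.one_right h, e, fun s' _ hs' hk' => ?_⟩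
  have h2 : IsConj s s' ∨ IsConj (s ^ 2) s' := by
    by_cases h3 : k = 3
    · exact conj_of_kap3 hs hs' (hk.trans h3) (hk'.trans h3)
    · exact .inl (conj_of_kap hs hs' (hk.trans hk'.symm) (hk ▸ h3))
  rcases h2 with h2 | h2 <;> obtain ⟨g, e⟩ := isConj_iff.1 h2
  · exact ⟨g, 1, Commute.one_right g, by rw [pow_one, e]⟩
  · exact ⟨g, 2, Commute.one_right g, e⟩

theorem rp38 : Rp 38 25 2 := by
  have h1 := fun i => pow_KK (Commute.one_left Y) (one_pow _) Y25 i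
  simp only [one_mul] at h1
  refine ⟨Y, order_Y ▸ dvd_one (Commute.refl Y), ?_, fun g hg => ?_⟩
  · have h2 := conj_iter conj_Y9 3
    rw [h1, show Y ^ 2 ^ 2 = Y ^ 9 ^ 3 by rw [pow_eq_pow_iff_modEq, order_Y]; decide]
    exact h2.symm
  · obtain ⟨r, s, rfl, -, -, a3, a4, a5⟩ := dec' (c := .c1) (k := 5) (by decide) (by decide) hg
    rw [eq_one a4, one_mul]
    rcases five3 a3 with ⟨-, h2⟩ | ⟨-, h2⟩ | ⟨-, -, h2 | h2⟩
    · omega
    · rw [a5] at h2; exact absurd h2 (by decide)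
    · exact ⟨0, by rwa [pow_zero, pow_one]⟩
    · exact ⟨1, by rwa [h1, pow_one]⟩

end Cfsg.Agent.TAB.HN.TyA
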